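import Groth.Agent.Etrest.StrictLoc
import Groth.Prelude.Def_SGA1t
import Groth.Prelude.Def_EGA4b

/-!
# Generic base change for principal covers: definitions

For the proofs of S17214, S17215.  All statements are in terms of clopen subsets.

* `ClInj W`, `ClSurj W`: clopen subsets of a space versus (relatively) clopen subsets of a subset `W`.
* `cf q`: the closed fibre of `q : T ⟶ Spec O`, as a subset of `T`.
* `Faith f b`, `FF n f b` for `f : X ⟶ Y`, `b : Y ⟶ S`: for all strictly henselian local bases `Spec O ⟶ S`, all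
  strict localizations `Spec A` of `Y ×_S Spec O` over the closed point of `Spec O`: clopen subsets of
  `X_A = X ×_Y Spec A` (resp. of principal covers `P` of `X_A` of order dividing `n`, `n` a unit in `O`) versus clopen
  subsets of the closed fibre.
* `GoodPair g V`: `g : X ⟶ S` normal, `V` dense in all fibres, and the pair is relatively snc in codimension one in the
  fibres.
-/

set_option autoImplicit false
universe u

open CategoryTheory CategoryTheory.Limits AlgebraicGeometry IsLocalRing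

namespace K868.Bc

open Groth.Agent.Etrest.StrictLoc

/-- A clopen subset with empty trace on `W` is empty. -/
def ClInj {T : Type*} [TopologicalSpace T] (W : Set T) : Prop :=
  ∀ C : Set T, IsClopen C → C ∩ W = ∅ → C = ∅

/-- Every relatively clopen subset of `W` is the trace of a clopen subset. -/
def ClSurj {T : Type*} [TopologicalSpace T] (W : Set T) : Prop :=
  ∀ D : Set T, D ⊆ W → IsClopen ((Subtype.val : W → T) ⁻¹' D) → ∃ C : Set T, IsClopen C ∧ C ∩ W = D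

/-- The closed fibre. -/
def cf {T : Scheme.{u}} {O : Type u} [CommRing O] [IsLocalRing O] (q : T ⟶ Spec (CommRingCat.of O)) : Set T :=
  q ⁻¹' {closedPoint O}

/-- Faithfulness. -/
def Faith {X Y S : Scheme.{u}} (f : X ⟶ Y) (b : Y ⟶ S) : Prop :=
  ∀ (O A : Type u) [CommRing O] [IsLocalRing O] [CommRing A] [IsLocalRing A]
    (_ : HenselianLocalRing O) (_ : IsSepClosed (ResidueField O))
    (t : Spec (CommRingCat.of O) ⟶ S) ⦃Y₁ : Scheme.{u}⦄ (c : Y₁ ⟶ Y) (b₁ : Y₁ ⟶ Spec (CommRingCat.of O))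
    (_ : IsPullback c b₁ b t) (σ : Spec (CommRingCat.of A) ⟶ Y₁) (_ : IsStrictLoc σ)
    (_ : b₁ (σ (closedPoint A)) = closedPoint O)
    ⦃XA : Scheme.{u}⦄ (x : XA ⟶ X) (fA : XA ⟶ Spec (CommRingCat.of A)) (_ : IsPullback x fA f (σ ≫ c)),
    ClInj (cf (fA ≫ σ ≫ b₁))

/-- Full faithfulness for principal covers of order dividing `n`. -/
def FF (n : ℕ) {X Y S : Scheme.{u}} (f : X ⟶ Y) (b : Y ⟶ S) : Prop :=
  ∀ (O A : Type u) [CommRing O] [IsLocalRing O] [CommRing A] [IsLocalRing A]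
    (_ : HenselianLocalRing O) (_ : IsSepClosed (ResidueField O)) (_ : IsUnit (n : O))
    (t : Spec (CommRingCat.of O) ⟶ S) ⦃Y₁ : Scheme.{u}⦄ (c : Y₁ ⟶ Y) (b₁ : Y₁ ⟶ Spec (CommRingCat.of O))
    (_ : IsPullback c b₁ b t) (σ : Spec (CommRingCat.of A) ⟶ Y₁) (_ : IsStrictLoc σ)
    (_ : b₁ (σ (closedPoint A)) = closedPoint O)
    ⦃XA : Scheme.{u}⦄ (x : XA ⟶ X) (fA : XA ⟶ Spec (CommRingCat.of A)) (_ : IsPullback x fA f (σ ≫ c))
    (G : Type) [Group G] [Finite G] (_ : Nat.card G ∣ n) (P : FEt.Cat XA) (ρ : G →* Aut P)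
    (_ : SGA1t.IsPrincipal G P ρ),
    ClSurj (cf (P.hom ≫ fA ≫ σ ≫ b₁))

/-- `FF` for bases `O` which are strict localizations of integral normal schemes locally of finite type over `S`. -/
def FFnor (n : ℕ) {X Y S : Scheme.{u}} (f : X ⟶ Y) (b : Y ⟶ S) : Prop :=
  ∀ (O A : Type u) [CommRing O] [IsLocalRing O] [CommRing A] [IsLocalRing A]
    (_ : IsUnit (n : O)) (T : Scheme.{u}) (_ : IsIntegral T)
    (_ : ∀ z : T, IsIntegrallyClosed (T.presheaf.stalk z)) (a : T ⟶ S) (_ : LocallyOfFiniteType a)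
    (τ : Spec (CommRingCat.of O) ⟶ T) (_ : IsStrictLoc τ)
    ⦃Y₁ : Scheme.{u}⦄ (c : Y₁ ⟶ Y) (b₁ : Y₁ ⟶ Spec (CommRingCat.of O))
    (_ : IsPullback c b₁ b (τ ≫ a)) (σ : Spec (CommRingCat.of A) ⟶ Y₁) (_ : IsStrictLoc σ)
    (_ : b₁ (σ (closedPoint A)) = closedPoint O)
    ⦃XA : Scheme.{u}⦄ (x : XA ⟶ X) (fA : XA ⟶ Spec (CommRingCat.of A)) (_ : IsPullback x fA f (σ ≫ c))
    (G : Type) [Group G] [Finite G] (_ : Nat.card G ∣ n) (P : FEt.Cat XA) (ρ : G →* Aut P)
    (_ : SGA1t.IsPrincipal G P ρ),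
    ClSurj (cf (P.hom ≫ fA ≫ σ ≫ b₁))

/-- Pairs `(X, V)` over `S` which are normal over `S`, with `V` dense in all the fibres, and relatively snc at the
points of codimension at most one of the fibres. -/
structure GoodPair {X S : Scheme.{u}} (g : X ⟶ S) (V : X.Opens) : Prop where
  fp : LocallyOfFinitePresentation g
  normal : ∀ (U : X.Opens) (W : S.Opens) (_ : IsAffineOpen U) (_ : IsAffineOpen W) (hUW : U ≤ g ⁻¹ᵁ W),
      letI := (g.appLE W U hUW).hom.toAlgebra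
      EGA4.IsNormalHom Γ(S, W) Γ(X, U)
  dense : ∀ x : X, ∃ y ∈ V, y ⤳ x ∧ g y = g x
  snc : ∀ x : X, x ∈ V ∨
    (∃ (W : X.Opens) (_ : x ∈ W) (r : ℕ) (φ : Fin r → Γ((W : Scheme.{u}), ⊤)),
      SGA1t.IsRelSNC (W.ι ≫ g) φ ∧ W.ι ⁻¹ᵁ V = SGA1t.compl φ) ∨
    ∃ y₀ y₁ : X, y₀ ⤳ y₁ ∧ y₁ ⤳ x ∧ y₀ ≠ y₁ ∧ y₁ ≠ x ∧ g y₀ = g x

/-- Locally of finite type over the integers. -/
def FTZ (S : Scheme.{u}) : Prop := ∀ U : S.Opens, IsAffineOpen U → Algebra.FiniteType ℤ Γ(S, U)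

end K868.Bc
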