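import Mathlib.Topology.NoetherianSpace
import Mathlib.Topology.Connected.Clopen
import Mathlib.AlgebraicGeometry.Noetherian
import Mathlib.AlgebraicGeometry.Restrict

/-! # Noetherian schemes are finite disjoint unions of connected clopen subschemes -/

set_option autoImplicit false

universe u

open AlgebraicGeometry

namespace K868.ConnComp

/-- In a Noetherian space connected components are open. -/
theorem isOpen_cc {α : Type*} [TopologicalSpace α] [TopologicalSpace.NoetherianSpace α]
    (x : α) : IsOpen (connectedComponent x) := by
  have h := TopologicalSpace.NoetherianSpace.finite_irreducibleComponents (α := α)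
  have : (connectedComponent x)ᶜ =
      ⋃ Z ∈ {Z ∈ irreducibleComponents α | Z ⊆ (connectedComponent x)ᶜ}, Z := by
    apply Set.Subset.antisymm
    · intro y hy
      simp only [Set.mem_iUnion]
      refine ⟨irreducibleComponent y, ⟨irreducibleComponent_mem_irreducibleComponents y, ?_⟩,
        mem_irreducibleComponent⟩
      intro z hz hzx
      apply hy
      have h1 : connectedComponent x = connectedComponent z := connectedComponent_eq hzx
      rw [h1]
      exact (isIrreducible_irreducibleComponent.isPreirreducible.isPreconnected).subset_connectedComponent
        hz mem_irreducibleComponent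
    · exact Set.iUnion₂_subset fun Z hZ ↦ hZ.2
  rw [← isClosed_compl_iff, this]
  exact (h.subset (Set.sep_subset _ _)).isClosed_biUnion
    fun Z hZ ↦ isClosed_of_mem_irreducibleComponents Z hZ.1

/-- A Noetherian scheme is covered by finitely many connected clopen opens. -/
theorem exists_finite_components (S : Scheme.{u}) [TopologicalSpace.NoetherianSpace S] :
    ∃ (I : Type u) (_ : Finite I) (C : I → S.Opens), (∀ i, IsClosed (C i : Set S)) ∧
      (∀ i, ConnectedSpace (C i)) ∧ ∀ x : S, ∃ i, x ∈ C i := by
  have hfin : Finite (irreducibleComponents S) :=
    TopologicalSpace.NoetherianSpace.finite_irreducibleComponents (α := S)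
  choose x hx using fun T : irreducibleComponents S => T.2.1.nonempty
  refine ⟨irreducibleComponents S, hfin, fun T => ⟨connectedComponent (x T), isOpen_cc _⟩,
    fun T => isClosed_connectedComponent, fun T => ?_, fun y => ?_⟩
  · exact Subtype.connectedSpace (isConnected_connectedComponent (x := x T))
  · refine ⟨⟨irreducibleComponent y, irreducibleComponent_mem_irreducibleComponents y⟩, ?_⟩
    exact (isIrreducible_irreducibleComponent.isPreirreducible.isPreconnected).subset_connectedComponent
      (hx ⟨irreducibleComponent y, irreducibleComponent_mem_irreducibleComponents y⟩)
      mem_irreducibleComponent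

end K868.ConnComp
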