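import Groth.Agent.Pi1.K868.BcDef

/-!
# Essential surjectivity: closed fibre form

`ESc n f b`: same data as `FF`; every principal cover (order dividing `n`, a unit in `O`) of the closed fibre
`X_A ×_{Spec O} Spec k(O)` comes from a principal cover of `X_A`.

`FEs n f b` (for `b : Y ⟶ Spec k`): field extensions.
-/

set_option autoImplicit false
universe u

open CategoryTheory CategoryTheory.Limits AlgebraicGeometry IsLocalRing

namespace K868.Bc

open Groth.Agent.Etrest.StrictLoc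

/-- The principal cover `P'` comes from a principal cover along `i`. -/
def Comes {X' X : Scheme.{u}} (i : X' ⟶ X) (G : Type) [Group G] (P' : FEt.Cat X') (ρ' : G →* Aut P') : Prop :=
  ∃ (P : FEt.Cat X) (ρ : G →* Aut P), SGA1t.IsPrincipal G P ρ ∧
    ∃ e : (FEt.restrict i).obj P ≅ P', ∀ x : G, (FEt.restrict i).map (ρ x).hom ≫ e.hom = e.hom ≫ (ρ' x).hom

/-- Essential surjectivity for principal covers of order dividing `n`, from the closed fibre. -/
def ESc (n : ℕ) {X Y S : Scheme.{u}} (f : X ⟶ Y) (b : Y ⟶ S) : Prop :=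
  ∀ (O A : Type u) [CommRing O] [IsLocalRing O] [CommRing A] [IsLocalRing A]
    (_ : HenselianLocalRing O) (_ : IsSepClosed (ResidueField O)) (_ : IsUnit (n : O))
    (t : Spec (CommRingCat.of O) ⟶ S) ⦃Y₁ : Scheme.{u}⦄ (c : Y₁ ⟶ Y) (b₁ : Y₁ ⟶ Spec (CommRingCat.of O))
    (_ : IsPullback c b₁ b t) (σ : Spec (CommRingCat.of A) ⟶ Y₁) (_ : IsStrictLoc σ)
    (_ : b₁ (σ (closedPoint A)) = closedPoint O)
    ⦃XA : Scheme.{u}⦄ (x : XA ⟶ X) (fA : XA ⟶ Spec (CommRingCat.of A)) (_ : IsPullback x fA f (σ ≫ c))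
    ⦃Xs : Scheme.{u}⦄ (i : Xs ⟶ XA) (q : Xs ⟶ Spec (CommRingCat.of (ResidueField O)))
    (_ : IsPullback i q (fA ≫ σ ≫ b₁) (resPt O))
    (G : Type) [Group G] [Finite G] (_ : Nat.card G ∣ n) (P' : FEt.Cat Xs) (ρ' : G →* Aut P')
    (_ : SGA1t.IsPrincipal G P' ρ'), Comes i G P' ρ'

/-- Essential surjectivity along extensions of separably closed fields. -/
def FEs (n : ℕ) {X Y : Scheme.{u}} {k : Type u} [Field k] (f : X ⟶ Y) (b : Y ⟶ Spec (CommRingCat.of k)) : Prop :=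
  ∀ (k' D D' : Type u) [Field k'] [IsSepClosed k'] [CommRing D] [IsLocalRing D] [CommRing D'] [IsLocalRing D']
    (_ : IsUnit (n : k)) (κ : k →+* k')
    (σ : Spec (CommRingCat.of D) ⟶ Y) (_ : IsStrictLoc σ)
    ⦃Y' : Scheme.{u}⦄ (c : Y' ⟶ Y) (b' : Y' ⟶ Spec (CommRingCat.of k')) (_ : IsPullback c b' b (spm κ))
    (σ' : Spec (CommRingCat.of D') ⟶ Y') (_ : IsStrictLoc σ') (φ : D →+* D') (_ : IsLocalHom φ)
    (_ : spm φ ≫ σ = σ' ≫ c)
    ⦃XD XD' : Scheme.{u}⦄ (x : XD ⟶ X) (fD : XD ⟶ Spec (CommRingCat.of D)) (_ : IsPullback x fD f σ)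
    (j : XD' ⟶ XD) (fD' : XD' ⟶ Spec (CommRingCat.of D')) (_ : IsPullback j fD' fD (spm φ))
    (G : Type) [Group G] [Finite G] (_ : Nat.card G ∣ n) (P' : FEt.Cat XD') (ρ' : G →* Aut P')
    (_ : SGA1t.IsPrincipal G P' ρ'), Comes j G P' ρ'

end K868.Bc
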