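import Groth.Agent.Pi1.K868.BcPBC
import Groth.Agent.Pi1.H408.PrincRestrict
import Groth.Agent.Sga1.UlaSL
import Groth.Prelude.Def_SGA1

/-!
# Full faithfulness for principal covers: formal lemmas

* `ff_of_desc`: descent of `FF` along `q : V₁ ⟶ V` universally submersive.
* `faith_of_surj`.
* `ff_of_proper`, `faith_of_proper`: composition with a proper morphism.
-/

set_option autoImplicit false
universe u

open CategoryTheory CategoryTheory.Limits AlgebraicGeometry Opposite IsLocalRing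

namespace K868.Bc

open Groth.Agent.Etrest.StrictLoc Groth.Agent.Sga1.UlaSL

/-- `Faith` for a fixed base `t : Spec O ⟶ S`. -/
def FaithAt {X Y S : Scheme.{u}} (f : X ⟶ Y) (b : Y ⟶ S) (O : Type u) [CommRing O] [IsLocalRing O]
    (t : Spec (CommRingCat.of O) ⟶ S) : Prop :=
  ∀ (A : Type u) [CommRing A] [IsLocalRing A] ⦃Y₁ : Scheme.{u}⦄ (c : Y₁ ⟶ Y)
    (b₁ : Y₁ ⟶ Spec (CommRingCat.of O))
    (_ : IsPullback c b₁ b t) (σ : Spec (CommRingCat.of A) ⟶ Y₁) (_ : IsStrictLoc σ)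
    (_ : b₁ (σ (closedPoint A)) = closedPoint O)
    ⦃XA : Scheme.{u}⦄ (x : XA ⟶ X) (fA : XA ⟶ Spec (CommRingCat.of A)) (_ : IsPullback x fA f (σ ≫ c)),
    ClInj (cf (fA ≫ σ ≫ b₁))

/-- `FF` for a fixed base `t : Spec O ⟶ S`. -/
def FFAt (n : ℕ) {X Y S : Scheme.{u}} (f : X ⟶ Y) (b : Y ⟶ S) (O : Type u) [CommRing O] [IsLocalRing O]
    (t : Spec (CommRingCat.of O) ⟶ S) : Prop :=
  ∀ (A : Type u) [CommRing A] [IsLocalRing A] ⦃Y₁ : Scheme.{u}⦄ (c : Y₁ ⟶ Y)
    (b₁ : Y₁ ⟶ Spec (CommRingCat.of O))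
    (_ : IsPullback c b₁ b t) (σ : Spec (CommRingCat.of A) ⟶ Y₁) (_ : IsStrictLoc σ)
    (_ : b₁ (σ (closedPoint A)) = closedPoint O)
    ⦃XA : Scheme.{u}⦄ (x : XA ⟶ X) (fA : XA ⟶ Spec (CommRingCat.of A)) (_ : IsPullback x fA f (σ ≫ c))
    (G : Type) [Group G] [Finite G] (_ : Nat.card G ∣ n) (P : FEt.Cat XA) (ρ : G →* Aut P)
    (_ : SGA1t.IsPrincipal G P ρ),
    ClSurj (cf (P.hom ≫ fA ≫ σ ≫ b₁))

/-- `Faith` over a subset of `S`. -/
def FaithOn {X Y S : Scheme.{u}} (U : Set S) (f : X ⟶ Y) (b : Y ⟶ S) : Prop :=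
  ∀ (O : Type u) [CommRing O] [IsLocalRing O]
    (_ : HenselianLocalRing O) (_ : IsSepClosed (ResidueField O))
    (t : Spec (CommRingCat.of O) ⟶ S), t (closedPoint O) ∈ U → FaithAt f b O t

/-- `FF` over a subset of `S`. -/
def FFOn (n : ℕ) {X Y S : Scheme.{u}} (U : Set S) (f : X ⟶ Y) (b : Y ⟶ S) : Prop :=
  ∀ (O : Type u) [CommRing O] [IsLocalRing O]
    (_ : HenselianLocalRing O) (_ : IsSepClosed (ResidueField O)) (_ : IsUnit (n : O))
    (t : Spec (CommRingCat.of O) ⟶ S), t (closedPoint O) ∈ U → FFAt n f b O t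

theorem faith_iff {X Y S : Scheme.{u}} (f : X ⟶ Y) (b : Y ⟶ S) : Faith f b ↔ FaithOn Set.univ f b :=
  ⟨fun h O _ _ hO hk t _ A _ _ => h O A hO hk t, fun h O A _ _ _ _ hO hk t => h O hO hk t trivial A⟩

theorem ff_iff (n : ℕ) {X Y S : Scheme.{u}} (f : X ⟶ Y) (b : Y ⟶ S) : FF n f b ↔ FFOn n Set.univ f b :=
  ⟨fun h O _ _ hO hk hn t _ A _ _ => h O A hO hk hn t,
    fun h O A _ _ _ _ hO hk hn t => h O hO hk hn t trivial A⟩

theorem FaithOn.mono {X Y S : Scheme.{u}} {f : X ⟶ Y} {b : Y ⟶ S} {U U' : Set S} (h : FaithOn U f b)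
    (hU : U' ⊆ U) : FaithOn U' f b := fun O _ _ hO hk t ht => h O hO hk t (hU ht)

theorem FFOn.mono {n : ℕ} {X Y S : Scheme.{u}} {f : X ⟶ Y} {b : Y ⟶ S} {U U' : Set S} (h : FFOn n U f b)
    (hU : U' ⊆ U) : FFOn n U' f b := fun O _ _ hO hk hn t ht => h O hO hk hn t (hU ht)

theorem clInj_preimage {T T' : Type*} [TopologicalSpace T] [TopologicalSpace T'] {π : T' → T}
    (ho : IsOpenMap π) (hc : IsClosedMap π) {W : Set T} (h : ClInj W) : ClInj (π ⁻¹' W) := by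
  intro C hC he
  have h1 : π '' C = ∅ := by
    apply h _ ⟨hc _ hC.isClosed, ho _ hC.isOpen⟩
    ext x
    simp only [Set.mem_inter_iff, Set.mem_image, Set.mem_empty_iff_false, iff_false]
    rintro ⟨⟨y, hy, rfl⟩, h2⟩
    have : y ∈ C ∩ π ⁻¹' W := ⟨hy, h2⟩
    rw [he] at this
    exact this
  exact Set.image_eq_empty.1 h1

theorem cf_comp {T T' : Scheme.{u}} {O : Type u} [CommRing O] [IsLocalRing O] (g : T' ⟶ T)
    (q : T ⟶ Spec (CommRingCat.of O)) : cf (g ≫ q) = g ⁻¹' cf q := by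
  ext x
  show (g ≫ q) x = _ ↔ q (g x) = _
  rw [Scheme.Hom.comp_apply]

theorem feT_isOpenMap {T : Scheme.{u}} (P : FEt.Cat T) : IsOpenMap P.hom := by
  have : Etale P.hom := P.prop.2
  exact Scheme.Hom.isOpenMap P.hom

theorem feT_isClosedMap {T : Scheme.{u}} (P : FEt.Cat T) : IsClosedMap P.hom := by
  have : IsFinite P.hom := P.prop.1
  exact Scheme.Hom.isClosedMap P.hom

theorem clInj_fet {T : Scheme.{u}} (P : FEt.Cat T) {W : Set T} (h : ClInj W) : ClInj (P.hom ⁻¹' W) :=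
  clInj_preimage (feT_isOpenMap P) (feT_isClosedMap P) h

/-! ### Cartesian squares -/

section Squares

variable {V V₁ XA V₁A : Scheme.{u}} {q : V₁ ⟶ V} {x : XA ⟶ V} {a : V₁A ⟶ V₁} {b : V₁A ⟶ XA}

/-- The base change of `V₁ ×_V V₁`. -/
theorem isPullback_double (h : IsPullback a b q x) :
    IsPullback (pullback.lift (pullback.fst b b ≫ a) (pullback.snd b b ≫ a)
        (by rw [Category.assoc, Category.assoc, h.w, pullback.condition_assoc]) : pullback b b ⟶ pullback q q)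
      (pullback.fst b b ≫ b) (pullback.fst q q ≫ q) x := by
  set v : pullback b b ⟶ pullback q q := pullback.lift (pullback.fst b b ≫ a) (pullback.snd b b ≫ a)
        (by rw [Category.assoc, Category.assoc, h.w, pullback.condition_assoc]) with hv
  have h1 : v ≫ pullback.fst q q = pullback.fst b b ≫ a := pullback.lift_fst _ _ _
  have h2 : v ≫ pullback.snd q q = pullback.snd b b ≫ a := pullback.lift_snd _ _ _
  have h3 : IsPullback v (pullback.fst b b) (pullback.fst q q) a := by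
    have h4 : IsPullback (pullback.snd b b ≫ a) (pullback.fst b b) q (b ≫ x) :=
      (IsPullback.of_hasPullback b b).flip.paste_horiz h
    have h5 : IsPullback (pullback.snd q q) (pullback.fst q q) q q := (IsPullback.of_hasPullback q q).flip
    refine IsPullback.of_right (h₁₂ := pullback.snd q q) (v₁₃ := q) (h₂₂ := q) ?_ h1 h5
    rw [h2, h.w]
    exact h4
  exact h3.paste_vert h

end Squares

section Desc

variable {V V₁ X S : Scheme.{u}} (f : V ⟶ X) (g : X ⟶ S) (q : V₁ ⟶ V)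

/-- **Descent** of full faithfulness. -/
theorem ffAt_of_desc (n : ℕ) (hq : SGA1.UnivSubmersive q) {O : Type u} [CommRing O] [IsLocalRing O]
    {t : Spec (CommRingCat.of O) ⟶ S} (h₁ : FFAt n (q ≫ f) g O t)
    (h₂ : FaithAt ((pullback.fst q q ≫ q) ≫ f) g O t) : FFAt n f g O t := by
  intro A _ _ Y₁ c b₁ sq₁ σ hσ hcl XA x fA sqA G _ _ hG P ρ hρ
  let a : pullback q x ⟶ V₁ := pullback.fst q x
  let b : pullback q x ⟶ XA := pullback.snd q x
  have sqb : IsPullback a b q x := IsPullback.of_hasPullback q x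
  have hb : SGA1.UnivSubmersive b := MorphismProperty.of_isPullback (P := SGA1.UnivSubmersive) sqb hq
  -- the pullback of `P`
  let P₁ : FEt.Cat (pullback q x) := (FEt.restrict b).obj P
  have hP₁ := Groth.Agent.Pi1.H408.PrincRestrict.isPrincipal_restrict b P ρ hρ
  have hs₁ := h₁ A c b₁ sq₁ σ hσ hcl a (b ≫ fA) (sqb.paste_vert sqA) G hG P₁ _ hP₁
  let p : P₁.left ⟶ P.left := pullback.fst P.hom b
  have sqp : IsPullback p P₁.hom P.hom b := IsPullback.of_hasPullback P.hom b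
  have hp : Topology.IsQuotientMap p := hb _ _ _ sqp
  -- the double covering
  let T₂ : Scheme.{u} := pullback P.hom (pullback.fst b b ≫ b)
  let u₀ : T₂ ⟶ P.left := pullback.fst _ _
  let u₁ : T₂ ⟶ pullback b b := pullback.snd _ _
  have squ : IsPullback u₀ u₁ P.hom (pullback.fst b b ≫ b) := IsPullback.of_hasPullback _ _
  let q₁ : T₂ ⟶ P₁.left := sqp.lift u₀ (u₁ ≫ pullback.fst b b) (by rw [Category.assoc]; exact squ.w)
  let q₂ : T₂ ⟶ P₁.left := sqp.lift u₀ (u₁ ≫ pullback.snd b b) (by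
    rw [Category.assoc, ← pullback.condition]; exact squ.w)
  have e11 : q₁ ≫ p = u₀ := sqp.lift_fst _ _ _
  have e12 : q₁ ≫ P₁.hom = u₁ ≫ pullback.fst b b := sqp.lift_snd _ _ _
  have e21 : q₂ ≫ p = u₀ := sqp.lift_fst _ _ _
  have e22 : q₂ ≫ P₁.hom = u₁ ≫ pullback.snd b b := sqp.lift_snd _ _ _
  have sq1 : IsPullback q₁ u₁ P₁.hom (pullback.fst b b) := by
    refine IsPullback.of_right (h₁₂ := p) (v₁₃ := P.hom) (h₂₂ := b) ?_ e12 sqp
    rw [e11]
    exact squ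
  have sq12 : IsPullback q₁ q₂ p p := by
    refine IsPullback.of_bot (v₂₁ := P₁.hom) (v₂₂ := P.hom) (h₃₁ := b) ?_ (e11.trans e21.symm) sqp
    have h3 : IsPullback q₁ (u₁ ≫ pullback.snd b b) (P₁.hom ≫ b) b :=
      sq1.paste_vert (IsPullback.of_hasPullback b b)
    rw [e22, sqp.w]
    exact h3
  have hi₂ := h₂ A c b₁ sq₁ σ hσ hcl _ ((pullback.fst b b ≫ b) ≫ fA)
    ((isPullback_double sqb).paste_vert sqA)
  -- conclusion
  have ecf : ∀ z : P₁.left, p z ∈ cf (P.hom ≫ fA ≫ σ ≫ b₁) ↔ z ∈ cf (P₁.hom ≫ (b ≫ fA) ≫ σ ≫ b₁) := by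
    intro z
    have h3 : p ≫ P.hom ≫ fA ≫ σ ≫ b₁ = P₁.hom ≫ (b ≫ fA) ≫ σ ≫ b₁ := by
      rw [← Category.assoc, sqp.w]
      simp only [Category.assoc]
    rw [← h3, cf_comp]
    rfl
  refine clSurj_of_desc p q₁ q₂ hp q₁.continuous q₂.continuous (fun z => ?_) (fun a' b' hab => ?_) ?_ ?_
  · rw [← Scheme.Hom.comp_apply, ← Scheme.Hom.comp_apply, e11, e21]
  · obtain ⟨z, hz1, hz2⟩ := Scheme.exists_preimage_of_isPullback sq12 a' b' hab
    exact ⟨z, hz1, hz2⟩
  · have : p ⁻¹' cf (P.hom ≫ fA ≫ σ ≫ b₁) = cf (P₁.hom ≫ (b ≫ fA) ≫ σ ≫ b₁) := by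
      ext z; exact ecf z
    rw [this]
    exact hs₁
  · have hu₁ : Etale u₁ := MorphismProperty.of_isPullback squ P.prop.2
    have hu₁' : IsFinite u₁ := MorphismProperty.of_isPullback squ P.prop.1
    have h4 := clInj_preimage (Scheme.Hom.isOpenMap u₁) (Scheme.Hom.isClosedMap u₁) hi₂
    have h5 : (fun z => p (q₁ z)) ⁻¹' cf (P.hom ≫ fA ≫ σ ≫ b₁) =
        u₁ ⁻¹' cf (((pullback.fst b b ≫ b) ≫ fA) ≫ σ ≫ b₁) := by
      rw [← cf_comp u₁]
      have h6 : u₁ ≫ ((pullback.fst b b ≫ b) ≫ fA) ≫ σ ≫ b₁ = (q₁ ≫ p) ≫ P.hom ≫ fA ≫ σ ≫ b₁ := by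
        rw [e11, ← Category.assoc u₀, squ.w]
        simp only [Category.assoc]
      rw [h6, cf_comp (q₁ ≫ p)]
      ext z
      simp only [Set.mem_preimage, Scheme.Hom.comp_apply]
    rw [h5]
    exact h4

theorem ffOn_of_desc (n : ℕ) (U : Set S) (hq : SGA1.UnivSubmersive q) (h₁ : FFOn n U (q ≫ f) g)
    (h₂ : FaithOn U ((pullback.fst q q ≫ q) ≫ f) g) : FFOn n U f g :=
  fun O _ _ hO hk hn t ht => ffAt_of_desc f g q n hq (h₁ O hO hk hn t ht) (h₂ O hO hk t ht)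

/-- **Descent** of full faithfulness. -/
theorem ff_of_desc (n : ℕ) (hq : SGA1.UnivSubmersive q) (h₁ : FF n (q ≫ f) g)
    (h₂ : Faith ((pullback.fst q q ≫ q) ≫ f) g) : FF n f g :=
  (ff_iff _ _ _).2 (ffOn_of_desc f g q n Set.univ hq ((ff_iff _ _ _).1 h₁) ((faith_iff _ _).1 h₂))

/-- Faithfulness passes to images. -/
theorem faithAt_of_surj [Surjective q] {O : Type u} [CommRing O] [IsLocalRing O]
    {t : Spec (CommRingCat.of O) ⟶ S} (h₁ : FaithAt (q ≫ f) g O t) : FaithAt f g O t := by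
  intro A _ _ Y₁ c b₁ sq₁ σ hσ hcl XA x fA sqA
  have sqb : IsPullback (pullback.fst q x) (pullback.snd q x) q x := IsPullback.of_hasPullback q x
  have hs := h₁ A c b₁ sq₁ σ hσ hcl _ (pullback.snd q x ≫ fA) (sqb.paste_vert sqA)
  have hsurj : Surjective (pullback.snd q x) := MorphismProperty.of_isPullback sqb inferInstance
  refine ClInj.of_surj (pullback.snd q x).continuous hsurj.surj ?_ hs
  rw [Category.assoc, cf_comp]

theorem faithOn_of_surj [Surjective q] {U : Set S} (h₁ : FaithOn U (q ≫ f) g) : FaithOn U f g :=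
  fun O _ _ hO hk t ht => faithAt_of_surj f g q (h₁ O hO hk t ht)

/-- Faithfulness passes to images. -/
theorem faith_of_surj [Surjective q] (h₁ : Faith (q ≫ f) g) : Faith f g :=
  (faith_iff _ _).2 (faithOn_of_surj f g q ((faith_iff _ _).1 h₁))

end Desc

section Proper

variable {V Z Y S : Scheme.{u}} (j : V ⟶ Z) (p : Z ⟶ Y) (b : Y ⟶ S)

/-- The local data at a strict localization of `Z_R`. -/
theorem locData {O R : Type u} [CommRing O] [IsLocalRing O] [CommRing R] [IsLocalRing R]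
    {t : Spec (CommRingCat.of O) ⟶ S} {Y₁ : Scheme.{u}} {c : Y₁ ⟶ Y} {b₁ : Y₁ ⟶ Spec (CommRingCat.of O)}
    (sq₁ : IsPullback c b₁ b t) {σ : Spec (CommRingCat.of R) ⟶ Y₁} (hσ : IsStrictLoc σ)
    (hcl : b₁ (σ (closedPoint R)) = closedPoint O) {ZR : Scheme.{u}} {z : ZR ⟶ Z}
    {pR : ZR ⟶ Spec (CommRingCat.of R)} (sqZ : IsPullback z pR p (σ ≫ c))
    {A : Type u} [CommRing A] [IsLocalRing A] {τ : Spec (CommRingCat.of A) ⟶ ZR} (hτ : IsStrictLoc τ)
    (hτc : pR (τ (closedPoint A)) = closedPoint R) :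
    ∃ (Z₁ : Scheme.{u}) (c' : Z₁ ⟶ Z) (p₁ : Z₁ ⟶ Y₁) (_ : IsPullback c' (p₁ ≫ b₁) (p ≫ b) t)
      (w : ZR ⟶ Z₁), w ≫ c' = z ∧ w ≫ p₁ = pR ≫ σ ∧ IsStrictLoc (τ ≫ w) ∧
      (p₁ ≫ b₁) ((τ ≫ w) (closedPoint A)) = closedPoint O := by
  have sqp : IsPullback (pullback.fst p c) (pullback.snd p c) p c := IsPullback.of_hasPullback p c
  let w : ZR ⟶ pullback p c := sqp.lift z (pR ≫ σ) (by rw [sqZ.w, Category.assoc])
  have hw1 : w ≫ pullback.fst p c = z := sqp.lift_fst _ _ _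
  have hw2 : w ≫ pullback.snd p c = pR ≫ σ := sqp.lift_snd _ _ _
  have sqw : IsPullback w pR (pullback.snd p c) σ := by
    refine IsPullback.of_right (h₁₂ := pullback.fst p c) (v₁₃ := p) (h₂₂ := c) ?_ hw2 sqp
    rw [hw1]
    exact sqZ
  have hwe : WeaklyEtale w :=
    MorphismProperty.of_isPullback (P := @WeaklyEtale) sqw.flip (weaklyEtale_of_isStrictLoc hσ)
  refine ⟨pullback p c, pullback.fst p c, pullback.snd p c, sqp.paste_vert sq₁, w, hw1, hw2, hτ.comp w, ?_⟩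
  have h1 : (τ ≫ w) ≫ pullback.snd p c ≫ b₁ = (τ ≫ pR) ≫ σ ≫ b₁ := by
    rw [Category.assoc, ← Category.assoc w, hw2]
    simp only [Category.assoc]
  rw [← Scheme.Hom.comp_apply, h1]
  exact (congrArg (fun y => b₁ (σ y)) hτc).trans hcl

theorem isClosed_cf {T : Scheme.{u}} {O : Type u} [CommRing O] [IsLocalRing O]
    (q : T ⟶ Spec (CommRingCat.of O)) : IsClosed (cf q) :=
  (isClosed_singleton_closedPoint O).preimage q.continuous

/-- Faithfulness of the composition with a proper morphism. -/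
theorem faithAt_of_proper [IsProper p] [QuasiCompact j] [QuasiSeparated j] {O : Type u} [CommRing O]
    [IsLocalRing O] {t : Spec (CommRingCat.of O) ⟶ S} (h : FaithAt j (p ≫ b) O t) :
    FaithAt (j ≫ p) b O t := by
  intro R _ _ Y₁ c b₁ sq₁ σ hσ hcl XA x fA sqA
  have hhR : HenselianLocalRing R := hσ.henselian
  have hkR : IsSepClosed (ResidueField R) := hσ.sepClosed
  have sqZ : IsPullback (pullback.fst p (σ ≫ c)) (pullback.snd p (σ ≫ c)) p (σ ≫ c) :=
    IsPullback.of_hasPullback _ _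
  let z := pullback.fst p (σ ≫ c)
  let pR := pullback.snd p (σ ≫ c)
  let jR : XA ⟶ pullback p (σ ≫ c) := sqZ.lift (x ≫ j) fA (by rw [Category.assoc, sqA.w])
  have hj1 : jR ≫ z = x ≫ j := sqZ.lift_fst _ _ _
  have hj2 : jR ≫ pR = fA := sqZ.lift_snd _ _ _
  have sqj : IsPullback x jR j z := by
    refine IsPullback.of_bot (v₂₁ := pR) (v₂₂ := p) (h₃₁ := σ ≫ c) ?_ hj1.symm sqZ
    rw [hj2]
    exact sqA
  have hjqc : QuasiCompact jR := MorphismProperty.of_isPullback sqj inferInstance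
  have hjqs : QuasiSeparated jR := MorphismProperty.of_isPullback sqj inferInstance
  have hpR : IsProper pR := MorphismProperty.of_isPullback sqZ inferInstance
  refine PBC.clInj_of_proper (Z := pullback p (σ ≫ c)) (N := XA) (h := jR) (R := R) (p := pR) ?_
  intro A _ _ τ hτ hτc NA a fA' sqN
  obtain ⟨Z₁, c', p₁, sq', w, hw1, hw2, hs, hc⟩ := locData p b sq₁ hσ hcl sqZ hτ hτc
  have h1 := h A c' (p₁ ≫ b₁) sq' (τ ≫ w) hs hc (a ≫ x) fA' (by
    rw [Category.assoc, hw1]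
    exact sqN.paste_horiz sqj)
  have e : fA' ≫ (τ ≫ w) ≫ p₁ ≫ b₁ = a ≫ fA ≫ σ ≫ b₁ := by
    rw [Category.assoc, ← Category.assoc w, hw2, ← hj2]
    simp only [Category.assoc]
    rw [← Category.assoc fA', ← sqN.w]
    simp only [Category.assoc]
    rfl
  rw [e, cf_comp a] at h1
  exact h1

theorem faithOn_of_proper [IsProper p] [QuasiCompact j] [QuasiSeparated j] {U : Set S}
    (h : FaithOn U j (p ≫ b)) : FaithOn U (j ≫ p) b :=
  fun O _ _ hO hk t ht => faithAt_of_proper j p b (h O hO hk t ht)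

theorem faith_of_proper [IsProper p] [QuasiCompact j] [QuasiSeparated j] (h : Faith j (p ≫ b)) :
    Faith (j ≫ p) b :=
  (faith_iff _ _).2 (faithOn_of_proper j p b ((faith_iff _ _).1 h))

/-- Full faithfulness of the composition with a proper morphism. -/
theorem ffAt_of_proper (n : ℕ) [IsProper p] [QuasiCompact j] [QuasiSeparated j] {O : Type u} [CommRing O]
    [IsLocalRing O] {t : Spec (CommRingCat.of O) ⟶ S} (h : FFAt n j (p ≫ b) O t)
    (h' : FaithAt j (p ≫ b) O t) : FFAt n (j ≫ p) b O t := by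
  intro R _ _ Y₁ c b₁ sq₁ σ hσ hcl XA x fA sqA G _ _ hG P ρ hρ
  have hhR : HenselianLocalRing R := hσ.henselian
  have hkR : IsSepClosed (ResidueField R) := hσ.sepClosed
  have sqZ : IsPullback (pullback.fst p (σ ≫ c)) (pullback.snd p (σ ≫ c)) p (σ ≫ c) :=
    IsPullback.of_hasPullback _ _
  let z := pullback.fst p (σ ≫ c)
  let pR := pullback.snd p (σ ≫ c)
  let jR : XA ⟶ pullback p (σ ≫ c) := sqZ.lift (x ≫ j) fA (by rw [Category.assoc, sqA.w])
  have hj1 : jR ≫ z = x ≫ j := sqZ.lift_fst _ _ _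
  have hj2 : jR ≫ pR = fA := sqZ.lift_snd _ _ _
  have sqj : IsPullback x jR j z := by
    refine IsPullback.of_bot (v₂₁ := pR) (v₂₂ := p) (h₃₁ := σ ≫ c) ?_ hj1.symm sqZ
    rw [hj2]
    exact sqA
  have hjqc : QuasiCompact jR := MorphismProperty.of_isPullback sqj inferInstance
  have hjqs : QuasiSeparated jR := MorphismProperty.of_isPullback sqj inferInstance
  have hpR : IsProper pR := MorphismProperty.of_isPullback sqZ inferInstance
  have hPf : IsFinite P.hom := P.prop.1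
  have hPqc : QuasiCompact (P.hom ≫ jR) := inferInstance
  have hPqs : QuasiSeparated (P.hom ≫ jR) := inferInstance
  -- the local situation
  have key : ∀ (A : Type u) [CommRing A] [IsLocalRing A] (τ : Spec (CommRingCat.of A) ⟶ pullback p (σ ≫ c)),
      IsStrictLoc τ → pR (τ (closedPoint A)) = closedPoint R →
      ∀ ⦃NA : Scheme.{u}⦄ (a : NA ⟶ P.left) (fA' : NA ⟶ Spec (CommRingCat.of A)),
        IsPullback a fA' (P.hom ≫ jR) τ →
        ClInj (a ⁻¹' cf (P.hom ≫ fA ≫ σ ≫ b₁)) ∧ ClSurj (a ⁻¹' cf (P.hom ≫ fA ≫ σ ≫ b₁)) := by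
    intro A _ _ τ hτ hτc NA a fA' sqN
    obtain ⟨Z₁, c', p₁, sq', w, hw1, hw2, hs, hc⟩ := locData p b sq₁ hσ hcl sqZ hτ hτc
    -- `V_A`
    have sqV : IsPullback (pullback.fst jR τ) (pullback.snd jR τ) jR τ := IsPullback.of_hasPullback _ _
    let v := pullback.fst jR τ
    let fV := pullback.snd jR τ
    have sqV' : IsPullback (v ≫ x) fV j ((τ ≫ w) ≫ c') := by
      rw [Category.assoc, hw1]
      exact sqV.paste_horiz sqj
    let PA : FEt.Cat (pullback jR τ) := (FEt.restrict v).obj P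
    let pa : PA.left ⟶ P.left := pullback.fst P.hom v
    have sqPA : IsPullback pa PA.hom P.hom v := IsPullback.of_hasPullback P.hom v
    have sqN' : IsPullback pa (PA.hom ≫ fV) (P.hom ≫ jR) τ := sqPA.paste_vert sqV
    let e : NA ≅ PA.left := sqN.isoIsPullback _ _ sqN'
    have he : e.inv ≫ a = pa := sqN.isoIsPullback_inv_fst _ _ sqN'
    have e1 : PA.hom ≫ fV ≫ (τ ≫ w) ≫ p₁ ≫ b₁ = e.inv ≫ a ≫ P.hom ≫ fA ≫ σ ≫ b₁ := by
      rw [← Category.assoc e.inv, he, ← Category.assoc pa, sqPA.w]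
      rw [Category.assoc τ, ← Category.assoc w, hw2, ← hj2]
      simp only [Category.assoc]
      congr 1
      rw [← Category.assoc v, sqV.w]
      simp only [Category.assoc]
      rfl
    have e2 : cf (PA.hom ≫ fV ≫ (τ ≫ w) ≫ p₁ ≫ b₁) =
        (Scheme.homeoOfIso e).symm ⁻¹' (a ⁻¹' cf (P.hom ≫ fA ≫ σ ≫ b₁)) := by
      rw [e1, cf_comp e.inv, cf_comp a]
      rfl
    have e2' : a ⁻¹' cf (P.hom ≫ fA ≫ σ ≫ b₁) =
        (Scheme.homeoOfIso e) ⁻¹' cf (PA.hom ≫ fV ≫ (τ ≫ w) ≫ p₁ ≫ b₁) := by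
      rw [e2]
      ext y
      simp only [Set.mem_preimage, Homeomorph.symm_apply_apply]
    constructor
    · have h1 := h' A c' (p₁ ≫ b₁) sq' (τ ≫ w) hs hc (v ≫ x) fV sqV'
      have h2 := clInj_fet PA h1
      rw [← cf_comp] at h2
      rw [e2']
      exact clInj_preimage (Scheme.homeoOfIso e).isOpenMap (Scheme.homeoOfIso e).isClosedMap h2
    · have hPA := Groth.Agent.Pi1.H408.PrincRestrict.isPrincipal_restrict v P ρ hρ
      have h1 := h A c' (p₁ ≫ b₁) sq' (τ ≫ w) hs hc (v ≫ x) fV sqV' G hG PA _ hPA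
      rw [e2] at h1
      exact clSurj_of_homeo (Scheme.homeoOfIso e).symm h1
  refine PBC.clSurj_of_proper (Z := pullback p (σ ≫ c)) (N := P.left) (h := P.hom ≫ jR) (R := R) (p := pR)
    (isClosed_cf _) ?_ ?_
  · intro A _ _ τ hτ hτc NA a fA' sqN
    exact (key A τ hτ hτc a fA' sqN).1
  · intro A _ _ τ hτ hτc NA a fA' sqN
    exact (key A τ hτ hτc a fA' sqN).2

theorem ffOn_of_proper (n : ℕ) [IsProper p] [QuasiCompact j] [QuasiSeparated j] {U : Set S}
    (h : FFOn n U j (p ≫ b)) (h' : FaithOn U j (p ≫ b)) : FFOn n U (j ≫ p) b :=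
  fun O _ _ hO hk hn t ht => ffAt_of_proper j p b n (h O hO hk hn t ht) (h' O hO hk t ht)

theorem ff_of_proper (n : ℕ) [IsProper p] [QuasiCompact j] [QuasiSeparated j] (h : FF n j (p ≫ b))
    (h' : Faith j (p ≫ b)) : FF n (j ≫ p) b :=
  (ff_iff _ _ _).2 (ffOn_of_proper j p b n ((ff_iff _ _ _).1 h) ((faith_iff _ _).1 h'))

end Proper

end K868.Bc
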