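import Groth.Agent.Pi1.K868.BcBase

/-!
# Faithfulness and full faithfulness near a point of the base

* `faithAt_of_bc`, `ffAt_of_bc`: the converse of `faithAt_bc`, `ffAt_bc`.
* `faithOn_of_open`, `ffOn_of_open`.
* `GFaith η f b`, `GFF η f b`: `FaithOn` (`FFOn`) over an open neighbourhood of `η`; Zariski coverings.
* `univSubmersive_of_closed`.
-/

set_option autoImplicit false
universe u

open CategoryTheory CategoryTheory.Limits AlgebraicGeometry Opposite IsLocalRing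

namespace K868.Bc

open Groth.Agent.Etrest.StrictLoc Groth.Agent.Sga1.UlaSL

section BC

variable {X Y S X' Y' S' : Scheme.{u}} {f : X ⟶ Y} {b : Y ⟶ S} {f' : X' ⟶ Y'} {b' : Y' ⟶ S'} {x' : X' ⟶ X}
  {y : Y' ⟶ Y} {s : S' ⟶ S} (hy : IsPullback y b' b s) (hx : IsPullback x' f' f y) {O : Type u} [CommRing O]
  [IsLocalRing O] {t' : Spec (CommRingCat.of O) ⟶ S'}

include hy hx

theorem faithAt_of_bc (h : FaithAt f' b' O t') : FaithAt f b O (t' ≫ s) := by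
  intro A _ _ Y₁ c b₁ sq₁ σ hσ hcl XA x fA sqA
  let c' : Y₁ ⟶ Y' := hy.lift c (b₁ ≫ t') (by rw [sq₁.w, Category.assoc])
  have hc1 : c' ≫ y = c := hy.lift_fst _ _ _
  have hc2 : c' ≫ b' = b₁ ≫ t' := hy.lift_snd _ _ _
  have sqc : IsPullback c' b₁ b' t' := by
    refine IsPullback.of_right (h₁₂ := y) (v₁₃ := b) (h₂₂ := s) ?_ hc2 hy
    rw [hc1]
    exact sq₁
  let x₁ : XA ⟶ X' := hx.lift x (fA ≫ σ ≫ c') (by rw [sqA.w, Category.assoc, Category.assoc, hc1])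
  have hx1 : x₁ ≫ x' = x := hx.lift_fst _ _ _
  have hx2 : x₁ ≫ f' = fA ≫ σ ≫ c' := hx.lift_snd _ _ _
  refine h A c' b₁ sqc σ hσ hcl x₁ fA ?_
  refine IsPullback.of_right (h₁₂ := x') (v₁₃ := f) (h₂₂ := y) ?_ hx2 hx
  rw [hx1, Category.assoc, hc1]
  exact sqA

theorem ffAt_of_bc {n : ℕ} (h : FFAt n f' b' O t') : FFAt n f b O (t' ≫ s) := by
  intro A _ _ Y₁ c b₁ sq₁ σ hσ hcl XA x fA sqA
  let c' : Y₁ ⟶ Y' := hy.lift c (b₁ ≫ t') (by rw [sq₁.w, Category.assoc])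
  have hc1 : c' ≫ y = c := hy.lift_fst _ _ _
  have hc2 : c' ≫ b' = b₁ ≫ t' := hy.lift_snd _ _ _
  have sqc : IsPullback c' b₁ b' t' := by
    refine IsPullback.of_right (h₁₂ := y) (v₁₃ := b) (h₂₂ := s) ?_ hc2 hy
    rw [hc1]
    exact sq₁
  let x₁ : XA ⟶ X' := hx.lift x (fA ≫ σ ≫ c') (by rw [sqA.w, Category.assoc, Category.assoc, hc1])
  have hx1 : x₁ ≫ x' = x := hx.lift_fst _ _ _
  have hx2 : x₁ ≫ f' = fA ≫ σ ≫ c' := hx.lift_snd _ _ _
  refine h A c' b₁ sqc σ hσ hcl x₁ fA ?_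
  refine IsPullback.of_right (h₁₂ := x') (v₁₃ := f) (h₂₂ := y) ?_ hx2 hx
  rw [hx1, Category.assoc, hc1]
  exact sqA

omit [IsLocalRing O] in
theorem faithOn_of_open [IsOpenImmersion s] {U : Set S'} (h : FaithOn U f' b') : FaithOn (s '' U) f b := by
  rintro O _ _ hO hk t ⟨z, hz, hzt⟩
  obtain ⟨t', rfl⟩ := Groth.Agent.Etbc.H192.Glue.exists_lift s t ⟨z, hzt⟩
  refine faithAt_of_bc hy hx (h O hO hk t' ?_)
  rw [Scheme.Hom.comp_apply] at hzt
  rw [← s.injective hzt]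
  exact hz

omit [IsLocalRing O] in
theorem ffOn_of_open {n : ℕ} [IsOpenImmersion s] {U : Set S'} (h : FFOn n U f' b') : FFOn n (s '' U) f b := by
  rintro O _ _ hO hk hn t ⟨z, hz, hzt⟩
  obtain ⟨t', rfl⟩ := Groth.Agent.Etbc.H192.Glue.exists_lift s t ⟨z, hzt⟩
  refine ffAt_of_bc hy hx (h O hO hk hn t' ?_)
  rw [Scheme.Hom.comp_apply] at hzt
  rw [← s.injective hzt]
  exact hz

end BC

/-- Faithfulness over a neighbourhood of `η`. -/
def GFaith {X Y S : Scheme.{u}} (η : S) (f : X ⟶ Y) (b : Y ⟶ S) : Prop :=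
  ∃ U : S.Opens, η ∈ U ∧ FaithOn (U : Set S) f b

/-- Full faithfulness over a neighbourhood of `η`. -/
def GFF {X Y S : Scheme.{u}} (η : S) (f : X ⟶ Y) (b : Y ⟶ S) : Prop :=
  ∃ U : S.Opens, η ∈ U ∧ ∀ n, FFOn n (U : Set S) f b

theorem exists_inter {S : Scheme.{u}} (η : S) {J : Type u} [Finite J] (U : J → S.Opens) (h : ∀ j, η ∈ U j) :
    ∃ U₀ : S.Opens, η ∈ U₀ ∧ ∀ j, (U₀ : Set S) ⊆ U j := by
  refine ⟨⟨⋂ j, (U j : Set S), isOpen_iInter_of_finite fun j => (U j).isOpen⟩, ?_, fun j => ?_⟩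
  · show η ∈ ⋂ j, (U j : Set S)
    exact Set.mem_iInter.2 h
  · exact Set.iInter_subset _ j

section Cover

variable {X Y S : Scheme.{u}} {f : X ⟶ Y} {b : Y ⟶ S} {η : S}

theorem gFaith_of_local {J : Type u} [Finite J] {Y' X' : J → Scheme.{u}} (i : ∀ j, Y' j ⟶ Y)
    [∀ j, IsOpenImmersion (i j)] (hc : ∀ y : Y, ∃ j, y ∈ Set.range (i j)) (x' : ∀ j, X' j ⟶ X)
    (f' : ∀ j, X' j ⟶ Y' j) (hs : ∀ j, IsPullback (x' j) (f' j) f (i j))
    (h : ∀ j, GFaith η (f' j) (i j ≫ b)) : GFaith η f b := by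
  choose U hU h using h
  obtain ⟨U₀, h0, h1⟩ := exists_inter η U hU
  refine ⟨U₀, h0, fun O _ _ hO hk t ht => faithAt_of_local fun y => ?_⟩
  obtain ⟨j, hj⟩ := hc y
  exact ⟨Y' j, X' j, i j, inferInstance, x' j, f' j, hj, hs j, h j O hO hk t (h1 j ht)⟩

theorem gFF_of_local {J : Type u} [Finite J] {Y' X' : J → Scheme.{u}} (i : ∀ j, Y' j ⟶ Y)
    [∀ j, IsOpenImmersion (i j)] (hc : ∀ y : Y, ∃ j, y ∈ Set.range (i j)) (x' : ∀ j, X' j ⟶ X)
    (f' : ∀ j, X' j ⟶ Y' j) (hs : ∀ j, IsPullback (x' j) (f' j) f (i j))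
    (h : ∀ j, GFF η (f' j) (i j ≫ b)) : GFF η f b := by
  choose U hU h using h
  obtain ⟨U₀, h0, h1⟩ := exists_inter η U hU
  refine ⟨U₀, h0, fun n O _ _ hO hk hn t ht => ffAt_of_local fun y => ?_⟩
  obtain ⟨j, hj⟩ := hc y
  exact ⟨Y' j, X' j, i j, inferInstance, x' j, f' j, hj, hs j, h j n O hO hk hn t (h1 j ht)⟩

theorem gFaith_of_cover {J : Type u} [Finite J] {X' : J → Scheme.{u}} (i : ∀ j, X' j ⟶ X)
    (hc : ∀ x : X, ∃ j, x ∈ Set.range (i j)) (h : ∀ j, GFaith η (i j ≫ f) b) : GFaith η f b := by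
  choose U hU h using h
  obtain ⟨U₀, h0, h1⟩ := exists_inter η U hU
  exact ⟨U₀, h0, fun O _ _ hO hk t ht => faithAt_of_cover i hc fun j => h j O hO hk t (h1 j ht)⟩

theorem gFF_of_cover {J : Type u} [Finite J] {X' : J → Scheme.{u}} (i : ∀ j, X' j ⟶ X)
    [∀ j, IsOpenImmersion (i j)] (hc : ∀ x : X, ∃ j, x ∈ Set.range (i j)) (h : ∀ j, GFF η (i j ≫ f) b)
    (h₂ : ∀ j k, GFaith η (pullback.fst (i j) (i k) ≫ i j ≫ f) b) : GFF η f b := by
  choose U hU h using h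
  choose U₂ hU₂ h₂ using h₂
  obtain ⟨U₀, h0, h1⟩ := exists_inter η U hU
  obtain ⟨U₁, h0', h1'⟩ := exists_inter η (fun p : J × J => U₂ p.1 p.2) (fun p => hU₂ p.1 p.2)
  refine ⟨U₀ ⊓ U₁, ⟨h0, h0'⟩, fun n O _ _ hO hk hn t ht => ffAt_of_cover i hc (fun j => ?_) (fun j k => ?_)⟩
  · exact h j n O hO hk hn t (h1 j ht.1)
  · exact h₂ j k O hO hk t (h1' (j, k) ht.2)

end Cover

theorem univSubmersive_of_closed {X Y : Scheme.{u}} (f : X ⟶ Y) [UniversallyClosed f] [Surjective f] :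
    SGA1.UnivSubmersive f := by
  intro X' Y' x' y' f' h
  have h1 : UniversallyClosed f' := MorphismProperty.of_isPullback (P := @UniversallyClosed) h.flip inferInstance
  have h2 : Surjective f' := MorphismProperty.of_isPullback (P := @Surjective) h.flip inferInstance
  exact IsClosedMap.isQuotientMap (f'.isClosedMap) f'.continuous h2.surj

/-- Finite affine coverings. -/
theorem exists_affine_cover (X : Scheme.{u}) [CompactSpace X] :
    ∃ (J : Type u) (_ : Finite J) (X' : J → Scheme.{u}) (_ : ∀ j, IsAffine (X' j)) (i : ∀ j, X' j ⟶ X)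
      (_ : ∀ j, IsOpenImmersion (i j)), ∀ x : X, ∃ j, x ∈ Set.range (i j) := by
  let 𝒰 := X.affineCover.finiteSubcover
  refine ⟨𝒰.I₀, inferInstance, 𝒰.X, fun j => inferInstance, 𝒰.f, fun j => inferInstance, fun x => ?_⟩
  obtain ⟨j, y, hy⟩ := 𝒰.exists_eq x
  exact ⟨j, y, hy⟩

end K868.Bc
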