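import Groth.Agent.Etrest.StrictLoc
import Mathlib.RingTheory.Extension.Presentation.Core

/-!
# Models of finite type over the integers of towers of finitely presented algebras
-/

set_option autoImplicit false
universe u

open CategoryTheory CategoryTheory.Limits AlgebraicGeometry Opposite IsLocalRing TensorProduct

namespace K868.Bc.Model

open Groth.Agent.Etrest.StrictLoc

theorem exists_model {A C R₀ : Type u} [CommRing A] [CommRing C] [CommRing R₀] [Algebra A C] [Algebra R₀ A]
    [Algebra R₀ C] [IsScalarTower R₀ A C] {m k : ℕ} (P : Algebra.Presentation A C (Fin m) (Fin k))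
    [P.HasCoeffs R₀] :
    ∃ (C₀ : Type u) (_ : CommRing C₀) (_ : Algebra R₀ C₀) (_ : Algebra.FinitePresentation R₀ C₀)
      (y : C₀ →+* C), IsPullback (spm y) (spm (algebraMap A C)) (spm (algebraMap R₀ C₀))
        (spm (algebraMap R₀ A)) ∧ y.comp (algebraMap R₀ C₀) = algebraMap R₀ C ∧
      ∀ F : MvPolynomial (Fin m) R₀, MvPolynomial.aeval P.val F ∈ Set.range y := by
  let C₀ : Type u := P.ModelOfHasCoeffs R₀
  let e : A ⊗[R₀] C₀ ≃ₐ[A] C := P.tensorModelOfHasCoeffsEquiv R₀
  let er : @RingHom (A ⊗[R₀] C₀) C (CommRing.toCommSemiring.toSemiring.toNonAssocSemiring)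
      (CommRing.toCommSemiring.toSemiring.toNonAssocSemiring) := (e : A ⊗[R₀] C₀ →+* C)
  have her : Function.Bijective er := e.bijective
  let y : C₀ →+* C := er.comp (Algebra.TensorProduct.includeRight : C₀ →ₐ[R₀] A ⊗[R₀] C₀).toRingHom
  have hy : ∀ x, y x = e (1 ⊗ₜ x) := fun x => rfl
  refine ⟨C₀, inferInstance, inferInstance, inferInstance, y, ?_, ?_, fun F => ?_⟩
  · have h0 : IsPullback (spm (Algebra.TensorProduct.includeRight : C₀ →ₐ[R₀] A ⊗[R₀] C₀).toRingHom)
        (spm (algebraMap A (A ⊗[R₀] C₀))) (spm (algebraMap R₀ C₀)) (spm (algebraMap R₀ A)) :=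
      (isPullback_SpecMap_of_isPushout _ _ _ _ (CommRingCat.isPushout_tensorProduct R₀ A C₀)).flip
    have h1 : IsIso (spm er) := by
      have : IsIso (CommRingCat.ofHom er) := (ConcreteCategory.isIso_iff_bijective _).2 her
      infer_instance
    have h2 : spm y = spm er ≫
        spm (Algebra.TensorProduct.includeRight : C₀ →ₐ[R₀] A ⊗[R₀] C₀).toRingHom := spm_comp _ _
    have h3 : spm (algebraMap A C) = spm er ≫ spm (algebraMap A (A ⊗[R₀] C₀)) := by
      rw [← spm_comp]
      congr 1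
      ext x
      exact (e.commutes x).symm
    rw [h2, h3]
    exact h0.of_iso (asIso (spm er)).symm (Iso.refl _) (Iso.refl _) (Iso.refl _)
      (by simp) (by simp) (by simp) (by simp)
  · ext x
    rw [RingHom.comp_apply, hy]
    exact (Algebra.Presentation.tensorModelOfHasCoeffsEquiv_tmul R₀ 1 (MvPolynomial.C x)).trans (by
      rw [map_one, one_mul, MvPolynomial.aeval_C])
  · refine ⟨Ideal.Quotient.mk _ F, ?_⟩
    rw [hy, Algebra.Presentation.tensorModelOfHasCoeffsEquiv_tmul, map_one, one_mul]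

/-- **Models of towers.** -/
theorem exists_model₂ (Λ B C : Type u) [CommRing Λ] [IsDomain Λ] [CommRing B] [CommRing C] [Algebra Λ B]
    [Algebra B C] [Algebra.FinitePresentation Λ B] [Algebra.FinitePresentation B C] :
    ∃ (R : Type u) (_ : CommRing R) (_ : IsDomain R) (_ : Algebra.FiniteType ℤ R) (ι : R →+* Λ)
      (_ : Function.Injective ι) (B₀ C₀ : Type u) (_ : CommRing B₀) (_ : CommRing C₀) (_ : Algebra R B₀)
      (_ : Algebra.FiniteType R B₀) (_ : Algebra B₀ C₀) (_ : Algebra.FiniteType B₀ C₀)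
      (yB : B₀ →+* B) (yC : C₀ →+* C),
      IsPullback (spm yB) (spm (algebraMap Λ B)) (spm (algebraMap R B₀)) (spm ι) ∧
      IsPullback (spm yC) (spm (algebraMap B C)) (spm (algebraMap B₀ C₀)) (spm yB) := by
  let PC := Algebra.Presentation.ofFinitePresentation B C
  let PB := Algebra.Presentation.ofFinitePresentation Λ B
  let W : Set Λ := PB.coeffs ∪ ⋃ t ∈ PC.coeffs, ((PB.σ t).coeffs : Set Λ)
  have hW : W.Finite := PB.finite_coeffs.union (PC.finite_coeffs.biUnion fun t _ => Finset.finite_toSet _)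
  let R : Subalgebra ℤ Λ := Algebra.adjoin ℤ W
  have hR : Algebra.FiniteType ℤ R := Algebra.FiniteType.adjoin_of_finite hW
  have hWR : W ⊆ R := Algebra.subset_adjoin
  have h1 : PB.HasCoeffs R := ⟨fun x hx => ⟨⟨x, hWR (Or.inl hx)⟩, rfl⟩⟩
  obtain ⟨B₀, _, _, _, yB, hB, hcomp, hrange⟩ := exists_model (R₀ := R) PB
  let _ : Algebra B₀ B := yB.toAlgebra
  let _ : Algebra B₀ C := ((algebraMap B C).comp yB).toAlgebra
  have hst : IsScalarTower B₀ B C := IsScalarTower.of_algebraMap_eq fun _ => rfl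
  have h2 : PC.HasCoeffs B₀ := by
    refine ⟨fun t ht => ?_⟩
    have h3 : PB.σ t ∈ Set.range (MvPolynomial.map (algebraMap R Λ)) := by
      rw [MvPolynomial.mem_range_map_iff_coeffs_subset]
      intro x hx
      exact ⟨⟨x, hWR (Or.inr (Set.mem_biUnion ht hx))⟩, rfl⟩
    obtain ⟨F, hF⟩ := h3
    have h4 := hrange F
    have h5 : MvPolynomial.aeval PB.val F = t := by
      rw [← MvPolynomial.aeval_map_algebraMap Λ, hF]
      exact PB.aeval_val_σ t
    rw [h5] at h4
    exact h4
  obtain ⟨C₀, _, _, _, yC, hC, -, -⟩ := exists_model (R₀ := B₀) PC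
  exact ⟨R, inferInstance, inferInstance, hR, algebraMap R Λ, Subtype.val_injective, B₀, C₀, inferInstance,
    inferInstance, inferInstance, inferInstance, inferInstance, inferInstance, yB, yC, hB, hC⟩

end K868.Bc.Model
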