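import Groth.Agent.Pi1.K868.BcGen
import Groth.Agent.Pi1.K868.BcModel

/-!
# Generic faithfulness and full faithfulness over Noetherian bases
-/

set_option autoImplicit false
universe u

open CategoryTheory CategoryTheory.Limits AlgebraicGeometry Opposite IsLocalRing

namespace K868.Bc

open Groth.Agent.Etrest.StrictLoc Groth.Agent.Sga1.UlaSL

section Dom

variable {Λ : Type u} [CommRing Λ] [IsDomain Λ] [IsNoetherianRing Λ]

/-- Models of towers of affine schemes. -/
theorem exists_schModel {X Y : Scheme.{u}} (f : X ⟶ Y) (b : Y ⟶ Spec (CommRingCat.of Λ)) [IsAffine X]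
    [IsAffine Y] [LocallyOfFiniteType f] [LocallyOfFiniteType b] :
    ∃ (R : Type u) (_ : CommRing R) (_ : IsDomain R) (_ : Algebra.FiniteType ℤ R) (ι : R →+* Λ)
      (_ : Function.Injective ι) (X₀ Y₀ : Scheme.{u}) (f₀ : X₀ ⟶ Y₀) (b₀ : Y₀ ⟶ Spec (CommRingCat.of R))
      (_ : AlgebraicGeometry.IsNoetherian X₀) (_ : AlgebraicGeometry.IsNoetherian Y₀) (_ : LocallyOfFiniteType f₀)
      (_ : LocallyOfFiniteType b₀) (x : X ⟶ X₀) (y : Y ⟶ Y₀), IsPullback y b b₀ (spm ι) ∧
        IsPullback x f f₀ y := by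
  let φ : Λ →+* Γ(Y, ⊤) := (Spec.preimage (Y.isoSpec.inv ≫ b)).hom
  have hφ : spm φ = Y.isoSpec.inv ≫ b := Spec.map_preimage _
  let ψ : Γ(Y, ⊤) →+* Γ(X, ⊤) := (Spec.preimage (X.isoSpec.inv ≫ f ≫ Y.isoSpec.hom)).hom
  have hψ : spm ψ = X.isoSpec.inv ≫ f ≫ Y.isoSpec.hom := Spec.map_preimage _
  let _ : Algebra Λ Γ(Y, ⊤) := φ.toAlgebra
  let _ : Algebra Γ(Y, ⊤) Γ(X, ⊤) := ψ.toAlgebra
  have hφ' : spm (algebraMap Λ Γ(Y, ⊤)) = Y.isoSpec.inv ≫ b := hφ
  have hψ' : spm (algebraMap Γ(Y, ⊤) Γ(X, ⊤)) = X.isoSpec.inv ≫ f ≫ Y.isoSpec.hom := hψ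
  have hNY : AlgebraicGeometry.IsNoetherian Y := isNoetherian_of_lft b
  have hNΓ : IsNoetherianRing Γ(Y, ⊤) := IsLocallyNoetherian.component_noetherian ⟨⊤, isAffineOpen_top Y⟩
  have h1 : Algebra.FiniteType Λ Γ(Y, ⊤) := by
    have h2 : LocallyOfFiniteType (spm (algebraMap Λ Γ(Y, ⊤))) := by rw [hφ']; infer_instance
    exact RingHom.finiteType_algebraMap.1 ((HasRingHomProperty.Spec_iff (P := @LocallyOfFiniteType)).1 h2)
  have h2 : Algebra.FiniteType Γ(Y, ⊤) Γ(X, ⊤) := by
    have h2 : LocallyOfFiniteType (spm (algebraMap Γ(Y, ⊤) Γ(X, ⊤))) := by rw [hψ']; infer_instance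
    exact RingHom.finiteType_algebraMap.1 ((HasRingHomProperty.Spec_iff (P := @LocallyOfFiniteType)).1 h2)
  have h3 : Algebra.FinitePresentation Λ Γ(Y, ⊤) := Algebra.FinitePresentation.of_finiteType.1 h1
  have h4 : Algebra.FinitePresentation Γ(Y, ⊤) Γ(X, ⊤) := Algebra.FinitePresentation.of_finiteType.1 h2
  obtain ⟨R, _, _, hR, ι, hι, B₀, C₀, _, _, _, _, _, _, yB, yC, hB, hC⟩ :=
    Model.exists_model₂ Λ Γ(Y, ⊤) Γ(X, ⊤)
  have hNR : IsNoetherianRing R := Algebra.FiniteType.isNoetherianRing ℤ R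
  have hNB : IsNoetherianRing B₀ := Algebra.FiniteType.isNoetherianRing R B₀
  have hNC : IsNoetherianRing C₀ := Algebra.FiniteType.isNoetherianRing B₀ C₀
  refine ⟨R, inferInstance, inferInstance, hR, ι, hι, Spec (CommRingCat.of C₀), Spec (CommRingCat.of B₀),
    spm (algebraMap B₀ C₀), spm (algebraMap R B₀), inferInstance, inferInstance,
    (HasRingHomProperty.Spec_iff (P := @LocallyOfFiniteType)).2 (RingHom.finiteType_algebraMap.2 inferInstance),
    (HasRingHomProperty.Spec_iff (P := @LocallyOfFiniteType)).2 (RingHom.finiteType_algebraMap.2 inferInstance),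
    X.isoSpec.hom ≫ spm yC, Y.isoSpec.hom ≫ spm yB, ?_, ?_⟩
  · have h5 : IsPullback Y.isoSpec.hom b (spm (algebraMap Λ Γ(Y, ⊤))) (𝟙 _) :=
      IsPullback.of_horiz_isIso ⟨by rw [hφ', Iso.hom_inv_id_assoc, Category.comp_id]⟩
    have h6 := h5.paste_horiz hB
    rwa [Category.id_comp] at h6
  · have h5 : IsPullback X.isoSpec.hom f (spm (algebraMap Γ(Y, ⊤) Γ(X, ⊤))) Y.isoSpec.hom :=
      IsPullback.of_horiz_isIso ⟨by rw [hψ', Iso.hom_inv_id_assoc]⟩
    exact h5.paste_horiz hC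

omit [IsNoetherianRing Λ] in
theorem gp_map {R : Type u} [CommRing R] [IsDomain R] {ι : R →+* Λ} (hι : Function.Injective ι) :
    (spm ι) (gp Λ) = gp R := by
  apply PrimeSpectrum.ext
  show Ideal.comap ι ⊥ = ⊥
  rw [← RingHom.ker_eq_comap_bot]
  exact (RingHom.injective_iff_ker_eq_bot ι).1 hι

theorem gFaith_dom (hgeo : Geo.{u}) {X Y : Scheme.{u}} (f : X ⟶ Y)
    (b : Y ⟶ Spec (CommRingCat.of Λ)) [LocallyOfFiniteType f] [LocallyOfFiniteType b]
    [AlgebraicGeometry.IsNoetherian X] [AlgebraicGeometry.IsNoetherian Y] : GFaith (gp Λ) f b := by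
  refine gFaith_of_affine (fun X Y f b _ _ _ _ => ?_) f b
  obtain ⟨R, _, _, hR, ι, hι, X₀, Y₀, f₀, b₀, _, _, _, _, x, y, hy, hx⟩ := exists_schModel f b
  obtain ⟨U, hU, h⟩ := gFaith_all hgeo hR f₀ b₀
  refine ⟨spm ι ⁻¹ᵁ U, ?_, faithOn_bc hy hx h⟩
  show (spm ι) (gp Λ) ∈ U
  rw [gp_map hι]
  exact hU

theorem gFF_dom (hgeo : Geo.{u}) (hnor : FFNor.{u}) {X Y : Scheme.{u}} (f : X ⟶ Y)
    (b : Y ⟶ Spec (CommRingCat.of Λ)) [LocallyOfFiniteType f] [LocallyOfFiniteType b]
    [AlgebraicGeometry.IsNoetherian X] [AlgebraicGeometry.IsNoetherian Y] : GFF (gp Λ) f b := by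
  refine gFF_of_affine (fun X Y f b _ _ _ _ => ?_) (fun X Y f b _ _ _ _ => ?_) f b
  · obtain ⟨R, _, _, hR, ι, hι, X₀, Y₀, f₀, b₀, _, _, _, _, x, y, hy, hx⟩ := exists_schModel f b
    obtain ⟨U, hU, h⟩ := gFF_all hgeo hnor hR f₀ b₀
    refine ⟨spm ι ⁻¹ᵁ U, ?_, fun n => ffOn_bc hy hx (h n)⟩
    show (spm ι) (gp Λ) ∈ U
    rw [gp_map hι]
    exact hU
  · have hY : AlgebraicGeometry.IsNoetherian Y := isNoetherian_of_lft b
    have hX : AlgebraicGeometry.IsNoetherian X := isNoetherian_of_lft f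
    exact gFaith_dom hgeo f b

end Dom


/-! ### Surjective closed immersions of the base -/

section Nil

variable {S S' : Scheme.{u}} (r : S' ⟶ S) [IsClosedImmersion r] [Surjective r]
  {X Y X' Y' : Scheme.{u}} {f : X ⟶ Y} {b : Y ⟶ S} {f' : X' ⟶ Y'} {b' : Y' ⟶ S'} {x' : X' ⟶ X} {y : Y' ⟶ Y}
  (hy : IsPullback y b' b r) (hx : IsPullback x' f' f y) [QuasiCompact f'] [QuasiSeparated f']

/-- The open subset of the target. -/
theorem exists_open (U' : S'.Opens) : ∃ U : S.Opens, r ⁻¹' (U : Set S) = U' := by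
  refine ⟨⟨(r '' ((U' : Set S')ᶜ))ᶜ, ?_⟩, ?_⟩
  · exact (r.isClosedEmbedding.isClosedMap _ U'.isOpen.isClosed_compl).isOpen_compl
  · ext z
    simp only [TopologicalSpace.Opens.coe_mk, Set.preimage_compl, Set.mem_compl_iff]
    rw [Set.preimage_image_eq _ r.injective]
    simp

include hy hx in
theorem faithOn_of_nil {U : Set S} (h : FaithOn (r ⁻¹' U) f' b') : FaithOn U f b := by
  have hyc : IsClosedImmersion y := MorphismProperty.of_isPullback (P := @IsClosedImmersion) hy.flip inferInstance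
  have hxs : Surjective x' := by
    have hys : Surjective y := MorphismProperty.of_isPullback (P := @Surjective) hy.flip inferInstance
    exact MorphismProperty.of_isPullback (P := @Surjective) hx.flip hys
  have h1 := faithOn_of_base h
  rw [← hy.w] at h1
  have h2 := faithOn_of_proper f' y b h1
  rw [← hx.w] at h2
  exact faithOn_of_surj f b x' h2

include hy hx in
theorem ffOn_of_nil {n : ℕ} {U : Set S} (h : FFOn n (r ⁻¹' U) f' b') (h' : FaithOn (r ⁻¹' U) f' b') :
    FFOn n U f b := by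
  have hyc : IsClosedImmersion y := MorphismProperty.of_isPullback (P := @IsClosedImmersion) hy.flip inferInstance
  have hys : Surjective y := MorphismProperty.of_isPullback (P := @Surjective) hy.flip inferInstance
  have hxs : Surjective x' := MorphismProperty.of_isPullback (P := @Surjective) hx.flip hys
  have hxc : IsClosedImmersion x' := MorphismProperty.of_isPullback (P := @IsClosedImmersion) hx.flip hyc
  have h1 := ffOn_of_base h h'
  have h1' := faithOn_of_base h'
  rw [← hy.w] at h1 h1'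
  have h2 := ffOn_of_proper f' y b n h1 h1'
  have h2' := faithOn_of_proper f' y b h1'
  rw [← hx.w] at h2 h2'
  refine ffOn_of_desc f b x' n U (univSubmersive_of_closed x') h2 ?_
  have hi : IsIso (pullback.fst x' x') := inferInstance
  have h3 : inv (pullback.fst x' x') ≫ (pullback.fst x' x' ≫ x') ≫ f = x' ≫ f := by
    rw [Category.assoc, IsIso.inv_hom_id_assoc]
  exact faithOn_of_surj _ b (inv (pullback.fst x' x')) (by rw [h3]; exact h2')

end Nil

/-! ### Noetherian bases -/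

section Noeth

variable {S : Scheme.{u}} [AlgebraicGeometry.IsNoetherian S]

/-- Neighbourhoods of generic points. -/
theorem exists_generic (x : S) : ∃ (Λ : Type u) (_ : CommRing Λ) (_ : IsNoetherianRing Λ) (Λ' : Type u)
    (_ : CommRing Λ') (_ : IsDomain Λ') (_ : IsNoetherianRing Λ') (i : Spec (CommRingCat.of Λ) ⟶ S)
    (_ : IsOpenImmersion i) (r : Spec (CommRingCat.of Λ') ⟶ Spec (CommRingCat.of Λ))
    (_ : IsClosedImmersion r) (_ : Surjective r), i (r (gp Λ')) ⤳ x := by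
  -- the irreducible component through `x`
  let C : Set S := irreducibleComponent x
  have hCi : IsIrreducible C := isIrreducible_irreducibleComponent
  have hCc : IsClosed C := isClosed_irreducibleComponent
  have hCm : C ∈ irreducibleComponents S := irreducibleComponent_mem_irreducibleComponents x
  obtain ⟨η, hη⟩ := QuasiSober.sober hCi hCc
  have hηx : η ⤳ x := hη.specializes mem_irreducibleComponent
  -- the complement of the other components
  have hfin : (irreducibleComponents S).Finite := TopologicalSpace.NoetherianSpace.finite_irreducibleComponents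
  let Z : Set S := ⋃ D ∈ irreducibleComponents S \ {C}, D
  have hZ : IsClosed Z := by
    refine (hfin.subset Set.diff_subset).isClosed_biUnion fun D hD => ?_
    exact isClosed_of_mem_irreducibleComponents D hD.1
  have hηZ : η ∉ Z := by
    intro h
    obtain ⟨D, hD, hηD⟩ := Set.mem_iUnion₂.1 h
    have hDc : IsClosed D := isClosed_of_mem_irreducibleComponents D hD.1
    have h1 : C ⊆ D := by
      rw [← hη.def]
      exact closure_minimal (Set.singleton_subset_iff.2 hηD) hDc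
    exact hD.2 (Set.Subset.antisymm (hCm.2 hD.1.1 h1) h1)
  obtain ⟨W, hW, hηW, hWZ⟩ := exists_isAffineOpen_mem_and_subset (x := η) (U := ⟨Zᶜ, hZ.isOpen_compl⟩) hηZ
  have hWη : ∀ w ∈ W, η ⤳ w := by
    intro w hw
    have h1 : w ∉ Z := hWZ hw
    have h2 : irreducibleComponent w = C := by
      by_contra hne
      exact h1 (Set.mem_biUnion ⟨irreducibleComponent_mem_irreducibleComponents w, hne⟩
        mem_irreducibleComponent)
    have h3 : w ∈ C := by rw [← h2]; exact mem_irreducibleComponent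
    exact hη.specializes h3
  -- the ring
  let Λ : Type u := Γ(S, W)
  have hNΛ : IsNoetherianRing Λ := IsLocallyNoetherian.component_noetherian ⟨W, hW⟩
  let i : Spec (CommRingCat.of Λ) ⟶ S := hW.fromSpec
  have hi : IsOpenImmersion i := inferInstanceAs (IsOpenImmersion hW.fromSpec)
  obtain ⟨ηΛ, hηΛ⟩ : ∃ z, i z = η := by
    have : η ∈ Set.range hW.fromSpec := by rw [hW.range_fromSpec]; exact hηW
    exact this
  have hall : ∀ z : Spec (CommRingCat.of Λ), ηΛ ⤳ z := by
    intro z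
    refine i.isOpenEmbedding.isInducing.specializes_iff.1 ?_
    rw [hηΛ]
    apply hWη
    have : i z ∈ Set.range hW.fromSpec := ⟨z, rfl⟩
    rw [hW.range_fromSpec] at this
    exact this
  let p : Ideal Λ := PrimeSpectrum.asIdeal ηΛ
  have hp : p.IsPrime := PrimeSpectrum.isPrime ηΛ
  let r : Spec (CommRingCat.of (Λ ⧸ p)) ⟶ Spec (CommRingCat.of Λ) := spm (Ideal.Quotient.mk p)
  have hr : IsClosedImmersion r := IsClosedImmersion.spec_of_surjective _ Ideal.Quotient.mk_surjective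
  have hrs : Surjective r := by
    refine ⟨fun z => ?_⟩
    have h1 : z ∈ Set.range (PrimeSpectrum.comap (Ideal.Quotient.mk p)) := by
      rw [range_comap_of_surjective _ _ Ideal.Quotient.mk_surjective, Ideal.mk_ker]
      have h2 : ηΛ ⤳ z := hall z
      exact (PrimeSpectrum.le_iff_specializes ηΛ z).2 h2
    exact h1
  refine ⟨Λ, inferInstance, hNΛ, Λ ⧸ p, inferInstance, inferInstance, inferInstance, i, hi, r, hr, hrs, ?_⟩
  have h5 : r (gp (Λ ⧸ p)) = ηΛ := by
    apply PrimeSpectrum.ext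
    show Ideal.comap (Ideal.Quotient.mk p) ⊥ = p
    rw [← RingHom.ker_eq_comap_bot, Ideal.mk_ker]
  rw [h5, hηΛ]
  exact hηx

/-- **Generic full faithfulness** over Noetherian bases. -/
theorem exists_dense_open (hgeo : Geo.{u}) (hnor : FFNor.{u}) {X Y : Scheme.{u}} (f : X ⟶ Y) (b : Y ⟶ S)
    [LocallyOfFiniteType f] [QuasiCompact f] [LocallyOfFiniteType b] [QuasiCompact b] :
    ∃ U : S.Opens, Dense (U : Set S) ∧ FaithOn (U : Set S) f b ∧ ∀ n, FFOn n (U : Set S) f b := by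
  let 𝒰 : Set S.Opens := {U | FaithOn (U : Set S) f b ∧ ∀ n, FFOn n (U : Set S) f b}
  refine ⟨sSup 𝒰, ?_, ?_, ?_⟩
  · intro x
    obtain ⟨Λ, _, _, Λ', _, _, _, i, hi, r, hr, hrs, hx⟩ := exists_generic x
    have hNY : AlgebraicGeometry.IsNoetherian Y := isNoetherian_of_lft b
    have hNX : AlgebraicGeometry.IsNoetherian X := isNoetherian_of_lft f
    -- over `Λ`
    let YΛ := pullback b i
    let yΛ : YΛ ⟶ Y := pullback.fst b i
    let bΛ : YΛ ⟶ Spec (CommRingCat.of Λ) := pullback.snd b i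
    have sqy : IsPullback yΛ bΛ b i := IsPullback.of_hasPullback b i
    let XΛ := pullback f yΛ
    let xΛ : XΛ ⟶ X := pullback.fst f yΛ
    let fΛ : XΛ ⟶ YΛ := pullback.snd f yΛ
    have sqx : IsPullback xΛ fΛ f yΛ := IsPullback.of_hasPullback f yΛ
    have hNYΛ : AlgebraicGeometry.IsNoetherian YΛ := isNoetherian_of_lft bΛ
    have hNXΛ : AlgebraicGeometry.IsNoetherian XΛ := isNoetherian_of_lft fΛ
    -- over `Λ'`
    let Y' := pullback bΛ r
    let y' : Y' ⟶ YΛ := pullback.fst bΛ r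
    let b' : Y' ⟶ Spec (CommRingCat.of Λ') := pullback.snd bΛ r
    have sqy' : IsPullback y' b' bΛ r := IsPullback.of_hasPullback bΛ r
    let X' := pullback fΛ y'
    let x' : X' ⟶ XΛ := pullback.fst fΛ y'
    let f' : X' ⟶ Y' := pullback.snd fΛ y'
    have sqx' : IsPullback x' f' fΛ y' := IsPullback.of_hasPullback fΛ y'
    have hNY' : AlgebraicGeometry.IsNoetherian Y' := isNoetherian_of_lft b'
    have hNX' : AlgebraicGeometry.IsNoetherian X' := isNoetherian_of_lft f'
    obtain ⟨U₁, hU₁, h1⟩ := gFaith_dom hgeo f' b'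
    obtain ⟨U₂, hU₂, h2⟩ := gFF_dom hgeo hnor f' b'
    obtain ⟨U, hU⟩ := exists_open r (U₁ ⊓ U₂)
    have hf' : FaithOn (r ⁻¹' (U : Set _)) f' b' := by
      rw [hU]
      exact h1.mono fun z hz => hz.1
    have hff' : ∀ n, FFOn n (r ⁻¹' (U : Set _)) f' b' := fun n => by
      rw [hU]
      exact (h2 n).mono fun z hz => hz.2
    have hfΛ := faithOn_of_nil r sqy' sqx' hf'
    have hffΛ := fun n => ffOn_of_nil r sqy' sqx' (hff' n) hf'
    have hfS := faithOn_of_open sqy sqx hfΛ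
    have hffS := fun n => ffOn_of_open sqy sqx (hffΛ n)
    have hgp : r (gp Λ') ∈ (U : Set _) := by
      have : gp Λ' ∈ r ⁻¹' (U : Set _) := by
        rw [hU]
        exact ⟨hU₁, hU₂⟩
      exact this
    refine hx.mem_closed isClosed_closure (subset_closure ?_)
    show i (r (gp Λ')) ∈ sSup 𝒰
    refine TopologicalSpace.Opens.mem_sSup.2 ⟨i ''ᵁ U, ⟨hfS, hffS⟩, ?_⟩
    exact ⟨_, hgp, rfl⟩
  · intro O _ _ hO hk t ht
    obtain ⟨U, hU, hU'⟩ := TopologicalSpace.Opens.mem_sSup.1 ht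
    exact hU.1 O hO hk t hU'
  · intro n O _ _ hO hk hn t ht
    obtain ⟨U, hU, hU'⟩ := TopologicalSpace.Opens.mem_sSup.1 ht
    exact hU.2 n O hO hk hn t hU'

/-- The form used in the end. -/
theorem exists_dense_open' (hgeo : Geo.{u}) (hnor : FFNor.{u}) {X Y : Scheme.{u}} (f : X ⟶ Y) (b : Y ⟶ S)
    [LocallyOfFiniteType f] [QuasiCompact f] [LocallyOfFiniteType b] [QuasiCompact b] :
    ∃ U : S.Opens, Dense (U : Set S) ∧ Faith (f ∣_ (b ⁻¹ᵁ U)) (b ∣_ U) ∧ ∀ n, FF n (f ∣_ (b ⁻¹ᵁ U)) (b ∣_ U) := by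
  obtain ⟨U, hU, h1, h2⟩ := exists_dense_open hgeo hnor f b
  have hy := (isPullback_morphismRestrict b U).flip
  have hx := (isPullback_morphismRestrict f (b ⁻¹ᵁ U)).flip
  have e : U.ι ⁻¹' (U : Set S) = Set.univ := by
    ext z
    simp
  refine ⟨U, hU, (faith_iff _ _).2 ?_, fun n => (ff_iff _ _ _).2 ?_⟩
  · rw [← e]
    exact faithOn_bc hy hx h1
  · rw [← e]
    exact ffOn_bc hy hx (h2 n)

end Noeth

end K868.Bc
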