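import Groth.Agent.Brnch.K580.FlatLe
import Groth.Agent.Brnch.K580.DimOne
import Groth.Agent.Brnch.K580.Cpl
import Groth.Agent.Brnch.K580.Unibranch
import Groth.Agent.UnramA.Unibranch
import Groth.Agent.CurvesB.NodeSch2
import Mathlib.RingTheory.AdicCompletion.Noetherian

/-! # Numbers of branches of normal points and of nodes -/

set_option autoImplicit false

universe u

open CategoryTheory CategoryTheory.Limits AlgebraicGeometry IsLocalRing

namespace K868.NodeBr

theorem numBranches_congr {A B : Type u} [CommRing A] [IsLocalRing A] [CommRing B] [IsLocalRing B]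
    (e : A ≃+* B) : Brnch.numBranches A = Brnch.numBranches B := by
  apply le_antisymm
  · let _ : Algebra A B := (e : A →+* B).toAlgebra
    have h1 : IsLocalHom (algebraMap A B) := inferInstanceAs (IsLocalHom (e : A →+* B))
    have h2 : Module.Flat A B := RingHom.Flat.of_bijective (f := (e : A →+* B)) e.bijective
    exact K580.FlatLe.numBranches_le A B
  · let _ : Algebra B A := (e.symm : B →+* A).toAlgebra
    have h1 : IsLocalHom (algebraMap B A) := inferInstanceAs (IsLocalHom (e.symm : B →+* A))
    have h2 : Module.Flat B A := RingHom.Flat.of_bijective (f := (e.symm : B →+* A)) e.symm.bijective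
    exact K580.FlatLe.numBranches_le B A

/-- A normal local domain has one branch. -/
theorem numBranches_of_normal (A : Type u) [CommRing A] [IsDomain A] [IsLocalRing A]
    [IsIntegrallyClosed A] : Brnch.numBranches A = 1 := by
  rw [K580.Unibranch.numBranches_eq_one_iff, Groth.Agent.UnramA.Unibranch.isUnibranch_iff A (FractionRing A)]
  have h1 : Function.Bijective (algebraMap A (integralClosure A (FractionRing A))) := by
    constructor
    · exact FaithfulSMul.algebraMap_injective _ _
    · rintro ⟨x, hx⟩
      obtain ⟨y, hy⟩ := IsIntegrallyClosed.isIntegral_iff.mp hx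
      exact ⟨y, Subtype.ext hy⟩
  exact IsLocalRing.of_surjective' _ h1.2

open Groth.Agent.CurvesB.NodeRing PowerSeries in
/-- A node ring has exactly two minimal primes. -/
theorem card_minimalPrimes_of_isNodeRing {K : Type*} {B : Type*} [Field K] [CommRing B]
    {φ ψ : B →+* K⟦X⟧} (h : IsNodeRing K B φ ψ) : ENat.card (minimalPrimes B) = 2 := by
  have hφ : (RingHom.ker φ).IsPrime := RingHom.ker_isPrime φ
  have hψ : (RingHom.ker ψ).IsPrime := RingHom.ker_isPrime ψ
  have h1 : ¬ RingHom.ker φ ≤ RingHom.ker ψ := by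
    intro hle
    obtain ⟨c, hc1, hc2⟩ := h.range 0 X (by simp)
    have := hle hc1
    rw [RingHom.mem_ker, hc2] at this
    exact X_ne_zero this
  have h2 : ¬ RingHom.ker ψ ≤ RingHom.ker φ := by
    intro hle
    obtain ⟨c, hc1, hc2⟩ := h.range X 0 (by simp)
    have := hle hc2
    rw [RingHom.mem_ker, hc1] at this
    exact X_ne_zero this
  have h3 : ∀ P : Ideal B, P.IsPrime → RingHom.ker φ ≤ P ∨ RingHom.ker ψ ≤ P := by
    intro P hP
    rw [← hP.mul_le]
    intro x hx
    have h4 := Ideal.mul_le_inf hx
    have : x = 0 := h.inj x h4.1 h4.2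
    rw [this]
    exact P.zero_mem
  have h4 : minimalPrimes B = {RingHom.ker φ, RingHom.ker ψ} := by
    ext P
    constructor
    · intro hP
      obtain h5 | h5 := h3 P hP.1.1
      · left
        exact le_antisymm (hP.2 ⟨hφ, bot_le⟩ h5) h5
      · right
        exact le_antisymm (hP.2 ⟨hψ, bot_le⟩ h5) h5
    · rintro (rfl | rfl)
      · refine ⟨⟨hφ, bot_le⟩, fun Q hQ hle => ?_⟩
        obtain h5 | h5 := h3 Q hQ.1
        · exact h5
        · exact (h2 (h5.trans hle)).elim
      · refine ⟨⟨hψ, bot_le⟩, fun Q hQ hle => ?_⟩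
        obtain h5 | h5 := h3 Q hQ.1
        · exact (h1 (h5.trans hle)).elim
        · exact h5
  rw [h4]
  have h5 : RingHom.ker φ ≠ RingHom.ker ψ := fun h => h1 h.le
  change ({RingHom.ker φ, RingHom.ker ψ} : Set (Ideal B)).encard = 2
  exact Set.encard_pair h5

/-- The complete local ring of an ordinary double point has two branches. -/
theorem numBranches_of_isOrdDoublePt {K R : Type u} [Field K] [CommRing R] [Algebra K R] [IsLocalRing R]
    [IsNoetherianRing R] (h : Curv2.IsOrdDoublePt K R) (hdim : ringKrullDim R = 1) :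
    Brnch.numBranches R = 2 := by
  obtain ⟨φ, ψ, hN, -, -⟩ := Groth.Agent.CurvesB.NodeSch.exists_isNodeRing h
  have := K580.Cpl.henselian R
  rw [K580.DimOne.numBranches_eq R hdim, K580.FlatLe.numBranches_of_henselian]
  exact card_minimalPrimes_of_isNodeRing hN

/-- A node of a curve over an algebraically closed field has two branches. -/
theorem numBranches_of_isNode (k : Type u) [Field k] [IsAlgClosed k] (X : Scheme.{u})
    [X.Over (Spec (CommRingCat.of k))] [LocallyOfFiniteType (X ↘ Spec (CommRingCat.of k))] (x : X)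
    (hx : Curv2.IsNode k X x) (hdim : ringKrullDim (X.presheaf.stalk x) = 1) :
    Brnch.numBranches (X.presheaf.stalk x) = 2 := by
  obtain ⟨-, xb, rfl, h⟩ := hx
  have hb : Function.Bijective (algebraMap k (AlgebraicClosure k)) :=
    IsAlgClosed.algebraMap_bijective_of_isIntegral
  have h1 : IsIso (CommRingCat.ofHom (algebraMap k (AlgebraicClosure k))) :=
    (ConcreteCategory.isIso_iff_bijective _).mpr hb
  have h2 : IsIso (Curv2.bcFst k X (AlgebraicClosure k)) := inferInstance
  have hN : IsLocallyNoetherian (Curv2.bc k X (AlgebraicClosure k)) :=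
    LocallyOfFiniteType.isLocallyNoetherian (Curv2.bcSnd k X (AlgebraicClosure k))
  let e : X.presheaf.stalk (Curv2.bcFst k X (AlgebraicClosure k) xb) ≃+*
      (Curv2.bc k X (AlgebraicClosure k)).presheaf.stalk xb :=
    (asIso ((Curv2.bcFst k X (AlgebraicClosure k)).stalkMap xb)).commRingCatIsoToRingEquiv
  rw [numBranches_congr e]
  let _ := @Curv2.stalkAlgebra (AlgebraicClosure k) _ (Curv2.bc k X (AlgebraicClosure k))
    ⟨Curv2.bcSnd k X (AlgebraicClosure k)⟩ xb
  exact numBranches_of_isOrdDoublePt h (by rw [← ringKrullDim_eq_of_ringEquiv e]; exact hdim)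

end K868.NodeBr
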