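import Groth.Agent.Pi1.K868.BcTop
import Groth.Agent.Etbc.H230.ConstSets
import Groth.Agent.Etbc.H235.BCSets
import Groth.Agent.EtpbcB.OshHens
import Groth.Agent.FlatA.ClopenLimit
import Groth.Agent.Pi1C.StrictHensPoint
import Groth.Agent.S3051

/-!
# Proper base change for clopen subsets

`clInj_of_proper`, `clSurj_of_proper`: let `R` be strictly henselian local, `p : Z ⟶ Spec R` proper, `h : N ⟶ Z`
quasi-compact and quasi-separated, `W ⊆ Spec R` closed and non-empty.  If for all the strict localizations `Spec A` of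
`Z` at the points of the closed fibre of `p` the clopen subsets of `N ×_Z Spec A` are (injectively, bijectively)
detected on the part over `W`, the same holds for `N`.
-/

set_option autoImplicit false
universe u

open CategoryTheory CategoryTheory.Limits AlgebraicGeometry Opposite IsLocalRing

namespace K868.Bc.PBC

open EtDesc Groth.Agent.Sga4A.EtStalk Groth.Agent.Etbc.H230.ConstSets Groth.Agent.Etrest.StrictLoc
  Groth.Agent.EtpbcB.StrictLoc Groth.Agent.EtpbcB Groth.Agent.EtpbcB.OshHens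

/-- A two element type. -/
abbrev Two : Type u := ULift.{u} (Fin 2)

section Clop

variable {T : Scheme.{u}} {U : T.Etale}

/-- The clopen subset attached to a section of the constant sheaf. -/
noncomputable def clop (s : sect (C T Two.{u}) U) : Set U.left :=
  {x | sectLC s x = ULift.up 0}

theorem isClopen_clop (s : sect (C T Two.{u}) U) : IsClopen (clop s) :=
  (sectLC s).isLocallyConstant.isClopen_fiber _

theorem exists_clop (D : Set U.left) (hD : IsClopen D) : ∃ s : sect (C T Two.{u}) U, clop s = D := by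
  classical
  obtain ⟨s, hs⟩ := (sectLC_bijective U).2 ((LocallyConstant.ofIsClopen hD).map (ULift.up.{u}))
  refine ⟨s, ?_⟩
  ext x
  have h1 : (LocallyConstant.ofIsClopen hD) x = 0 ↔ x ∈ D :=
    Set.ext_iff.1 (LocallyConstant.ofIsClopen_fiber_zero hD) x
  have h2 : sectLC s x = ULift.up ((LocallyConstant.ofIsClopen hD) x) := by rw [hs]; rfl
  show sectLC s x = ULift.up 0 ↔ x ∈ D
  rw [h2, ← h1]
  exact ⟨fun h => ULift.up_injective h, fun h => by rw [h]⟩

theorem clop_injective : Function.Injective (clop (T := T) (U := U)) := by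
  intro s t h
  apply (sectLC_bijective U).1
  ext x
  have h1 : x ∈ clop s ↔ x ∈ clop t := by rw [h]
  have h2 : ∀ a b : Two.{u}, (a = ULift.up 0 ↔ b = ULift.up 0) → a = b := by
    rintro ⟨a⟩ ⟨b⟩ hab
    have h3 : a = 0 ↔ b = 0 := by
      constructor
      · rintro rfl; exact ULift.up_injective (hab.1 rfl)
      · rintro rfl; exact ULift.up_injective (hab.2 rfl)
    have h4 : a = b := by
      revert h3
      revert a b
      decide
    rw [h4]
  exact congrArg _ (congrArg ULift.down (h2 _ _ h1))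

theorem clop_res {V : T.Etale} (g : V ⟶ U) (s : sect (C T Two.{u}) U) :
    clop ((C T Two.{u}).obj.map g.op s) = g.left ⁻¹' clop s := by
  ext x
  show sectLC _ x = _ ↔ sectLC _ _ = _
  rw [sectLC_res]

end Clop

section Main

variable {Z N : Scheme.{u}} {h : N ⟶ Z} {W E : Set N}

/-- The sheaf of clopen subsets of `N`, on `Z`. -/
noncomputable abbrev GG (h : N ⟶ Z) : Sh Z := (pushSh h).obj (C N Two.{u})

/-- The section `s` induces `E` on `W`. -/
def Ind (h : N ⟶ Z) (W E : Set N) {V : Z.Etale} (s : sect (C N Two.{u}) ((EtCoh.bc h).obj V)) : Prop :=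
  clop s ∩ ((EtCoh.bc h).obj V).hom ⁻¹' W = ((EtCoh.bc h).obj V).hom ⁻¹' E

theorem bc_map_hom_apply {V V' : Z.Etale} (a : V' ⟶ V) (x : ((EtCoh.bc h).obj V').left) :
    ((EtCoh.bc h).obj V).hom (((EtCoh.bc h).map a).left x) = ((EtCoh.bc h).obj V').hom x := by
  rw [← Scheme.Hom.comp_apply, bc_map_hom]

theorem Ind.res {V V' : Z.Etale} (a : V' ⟶ V) {s : sect (C N Two.{u}) ((EtCoh.bc h).obj V)}
    (hs : Ind h W E s) : Ind h W E ((C N Two.{u}).obj.map ((EtCoh.bc h).map a).op s) := by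
  unfold Ind
  rw [clop_res]
  ext x
  have h1 := Set.ext_iff.1 hs (((EtCoh.bc h).map a).left x)
  simp only [Set.mem_inter_iff, Set.mem_preimage, bc_map_hom_apply] at h1 ⊢
  exact h1

section Stage

variable [QuasiCompact h] [QuasiSeparated h] {Ω : Type u} [Field Ω] [IsSepClosed Ω]
    (ρ : Spec (CommRingCat.of Ω) ⟶ Z) {NA : Scheme.{u}} {a : NA ⟶ N} {fA : NA ⟶ Spec (Osh ρ)}
    (sq : IsPullback a fA h (toBase ρ))

/-- Clopen subsets come from étale neighbourhoods. -/
theorem exists_stage (CA : Set NA) (hCA : IsClopen CA) :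
    ∃ (i : Idx ρ) (s : sect (C N Two.{u}) ((EtCoh.bc h).obj ((D ρ).obj i))),
      (legX ρ h sq i) ⁻¹' clop s = CA := by
  obtain ⟨i, t, ht, e⟩ := Groth.Agent.FlatA.ClopenLimit.exists_isClopen (DX ρ h) (coneX ρ h sq)
    (isLimitConeX ρ h sq) CA hCA
  obtain ⟨s, hs⟩ := exists_clop (T := N) (U := (EtCoh.bc h).obj ((D ρ).obj i)) t ht
  refine ⟨i, s, ?_⟩
  rw [hs]
  exact e.symm

theorem exists_shrink_stage (i : Idx ρ)
    (F : Set ((EtCoh.bc h).obj ((D ρ).obj i)).left) (hF : IsClosed F)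
    (hFA : (legX ρ h sq i) ⁻¹' F = ∅) :
    ∃ (j : Idx ρ) (g : j ⟶ i), ((EtCoh.bc h).map ((D ρ).map g)).left ⁻¹' F = ∅ := by
  obtain ⟨j, g, hg⟩ := exists_map_eq_top (DX ρ h) (coneX ρ h sq) (isLimitConeX ρ h sq) (i := i)
    ⟨Fᶜ, hF.isOpen_compl⟩ (by
      ext x
      refine ⟨fun _ => trivial, fun _ => ?_⟩
      have h1 : x ∉ (legX ρ h sq i) ⁻¹' F := by rw [hFA]; exact fun h => h
      exact h1)
  refine ⟨j, g, ?_⟩
  ext x
  simp only [Set.mem_preimage, Set.mem_empty_iff_false, iff_false]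
  intro hx
  have h1 : x ∈ ((DX ρ h).map g) ⁻¹ᵁ (⟨Fᶜ, hF.isOpen_compl⟩ : ((DX ρ h).obj i).Opens) := by
    rw [hg]; trivial
  exact h1 hx

theorem legX_hom_apply (i : Idx ρ) (x : NA) :
    ((EtCoh.bc h).obj ((D ρ).obj i)).hom (legX ρ h sq i x) = a x := by
  rw [← Scheme.Hom.comp_apply, legX_hom]

include sq in
/-- Existence of local sections inducing `E`. -/
theorem exists_ind (hEW : E ⊆ W) (hE : IsClosed E) (hE' : IsClosed (W \ E))
    (hsurj : ClSurj (a ⁻¹' W)) :
    ∃ (i : Idx ρ) (s : sect (C N Two.{u}) ((EtCoh.bc h).obj ((D ρ).obj i))), Ind h W E s := by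
  have hrel : IsClopen ((Subtype.val : W → N) ⁻¹' E) := by
    constructor
    · exact hE.preimage continuous_subtype_val
    · rw [← isClosed_compl_iff]
      have : ((Subtype.val : W → N) ⁻¹' E)ᶜ = (Subtype.val : W → N) ⁻¹' (W \ E) := by
        ext ⟨x, hx⟩
        simp
      rw [this]
      exact hE'.preimage continuous_subtype_val
  obtain ⟨CA, hCA, hCE⟩ := hsurj (a ⁻¹' E) (Set.preimage_mono hEW)
    (relClopen_preimage a.continuous hEW hrel subset_rfl)
  obtain ⟨i, s, hs⟩ := exists_stage ρ sq CA hCA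
  let m := ((EtCoh.bc h).obj ((D ρ).obj i)).hom
  let F : Set ((EtCoh.bc h).obj ((D ρ).obj i)).left := (clop s ∩ m ⁻¹' (W \ E)) ∪ (m ⁻¹' E ∩ (clop s)ᶜ)
  have hF : IsClosed F := ((isClopen_clop s).isClosed.inter (hE'.preimage m.continuous)).union
    ((hE.preimage m.continuous).inter (isClopen_clop s).compl.isClosed)
  obtain ⟨j, g, hg⟩ := exists_shrink_stage ρ sq i F hF (by
    ext x
    simp only [Set.mem_preimage, Set.mem_empty_iff_false, iff_false]
    have h1 : legX ρ h sq i x ∈ clop s ↔ x ∈ CA := by rw [← hs]; rfl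
    have h2 : m (legX ρ h sq i x) = a x := legX_hom_apply ρ sq i x
    have h3 := Set.ext_iff.1 hCE x
    simp only [Set.mem_inter_iff, Set.mem_preimage] at h3
    rintro (⟨h4, h5⟩ | ⟨h4, h5⟩)
    · rw [h1] at h4
      rw [Set.mem_preimage, h2] at h5
      exact h5.2 (h3.1 ⟨h4, h5.1⟩)
    · rw [Set.mem_preimage, h2] at h4
      rw [Set.mem_compl_iff, h1] at h5
      exact h5 (h3.2 h4).1)
  refine ⟨j, (C N Two.{u}).obj.map ((EtCoh.bc h).map ((D ρ).map g)).op s, ?_⟩
  unfold Ind
  rw [clop_res]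
  ext x
  have h0 : ((EtCoh.bc h).map ((D ρ).map g)).left x ∉ F := by
    intro hx
    have : x ∈ ((EtCoh.bc h).map ((D ρ).map g)).left ⁻¹' F := hx
    rw [hg] at this
    exact this
  have h1 : m (((EtCoh.bc h).map ((D ρ).map g)).left x) = ((EtCoh.bc h).obj ((D ρ).obj j)).hom x :=
    bc_map_hom_apply _ _
  simp only [F, Set.mem_union, Set.mem_inter_iff, Set.mem_preimage, h1, Set.mem_sdiff,
    Set.mem_compl_iff] at h0
  simp only [Set.mem_inter_iff, Set.mem_preimage]
  constructor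
  · rintro ⟨h2, h3⟩
    by_contra h4
    exact h0 (Or.inl ⟨h2, h3, h4⟩)
  · intro h2
    refine ⟨?_, hEW h2⟩
    by_contra h4
    exact h0 (Or.inr ⟨h2, h4⟩)

include sq in
/-- Uniqueness of the germs of sections inducing `E`. -/
theorem germ_unique (hinj : ClInj (a ⁻¹' W)) {V : Z.Etale} (l : Spec (CommRingCat.of Ω) ⟶ V.left)
    (hl : l ≫ V.hom = ρ) (s t : sect (C N Two.{u}) ((EtCoh.bc h).obj V))
    (hst : clop s ∩ ((EtCoh.bc h).obj V).hom ⁻¹' W = clop t ∩ ((EtCoh.bc h).obj V).hom ⁻¹' W) :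
    germ (GG h) l hl s = germ (GG h) l hl t := by
  obtain ⟨i, m, hm⟩ := exists_hom ρ V (Over.homMk l hl)
  have hm' : lft ρ i ≫ m.left = l := congrArg CommaMorphism.left hm
  let si := (C N Two.{u}).obj.map ((EtCoh.bc h).map m).op s
  let ti := (C N Two.{u}).obj.map ((EtCoh.bc h).map m).op t
  have e1 : clop si ∩ ((EtCoh.bc h).obj ((D ρ).obj i)).hom ⁻¹' W =
      clop ti ∩ ((EtCoh.bc h).obj ((D ρ).obj i)).hom ⁻¹' W := by
    show clop ((C N Two.{u}).obj.map ((EtCoh.bc h).map m).op s) ∩ _ =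
      clop ((C N Two.{u}).obj.map ((EtCoh.bc h).map m).op t) ∩ _
    rw [clop_res, clop_res]
    ext x
    have h1 := Set.ext_iff.1 hst (((EtCoh.bc h).map m).left x)
    simp only [Set.mem_inter_iff, Set.mem_preimage, bc_map_hom_apply] at h1 ⊢
    exact h1
  have e2 : (legX ρ h sq i) ⁻¹' clop si = (legX ρ h sq i) ⁻¹' clop ti := by
    apply hinj.eq ((isClopen_clop si).preimage (legX ρ h sq i).continuous)
      ((isClopen_clop ti).preimage (legX ρ h sq i).continuous)
    ext x
    have h1 := Set.ext_iff.1 e1 (legX ρ h sq i x)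
    simp only [Set.mem_inter_iff, Set.mem_preimage, legX_hom_apply] at h1 ⊢
    exact h1
  obtain ⟨j, g, hg⟩ := exists_shrink_stage ρ sq i ((clop si \ clop ti) ∪ (clop ti \ clop si))
    (((isClopen_clop si).diff (isClopen_clop ti)).union
      ((isClopen_clop ti).diff (isClopen_clop si))).isClosed (by
    ext x
    have h1 := Set.ext_iff.1 e2 x
    simp only [Set.mem_preimage] at h1
    simp only [Set.mem_preimage, Set.mem_union, Set.mem_sdiff, Set.mem_empty_iff_false, iff_false]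
    tauto)
  refine (germ_eq_iff (GG h) l hl s t).2 ⟨(D ρ).obj j, (D ρ).map g ≫ m, lft ρ j, ?_, ?_⟩
  · have : ((D ρ).map g ≫ m).left = ((D ρ).map g).left ≫ m.left := rfl
    rw [this, lft_map_assoc, hm']
  · show (C N Two.{u}).obj.map ((EtCoh.bc h).map ((D ρ).map g ≫ m)).op s =
      (C N Two.{u}).obj.map ((EtCoh.bc h).map ((D ρ).map g ≫ m)).op t
    have h2 : ∀ r : sect (C N Two.{u}) ((EtCoh.bc h).obj V),
        (C N Two.{u}).obj.map ((EtCoh.bc h).map ((D ρ).map g ≫ m)).op r =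
        (C N Two.{u}).obj.map ((EtCoh.bc h).map ((D ρ).map g)).op
          ((C N Two.{u}).obj.map ((EtCoh.bc h).map m).op r) := by
      intro r
      rw [Functor.map_comp, op_comp, Functor.map_comp]
      rfl
    rw [h2, h2]
    apply clop_injective
    show clop ((C N Two.{u}).obj.map ((EtCoh.bc h).map ((D ρ).map g)).op si) =
      clop ((C N Two.{u}).obj.map ((EtCoh.bc h).map ((D ρ).map g)).op ti)
    rw [clop_res _ si, clop_res _ ti]
    ext x
    have h3 : x ∉ ((EtCoh.bc h).map ((D ρ).map g)).left ⁻¹' ((clop si \ clop ti) ∪ (clop ti \ clop si)) := by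
      rw [hg]; exact fun h => h
    simp only [Set.mem_preimage, Set.mem_union, Set.mem_sdiff] at h3 ⊢
    tauto

end Stage

section Global

variable [QuasiCompact h] [QuasiSeparated h] {R : Type u} [CommRing R] [IsLocalRing R]
  [HenselianLocalRing R] [IsSepClosed (ResidueField R)] (p : Z ⟶ Spec (CommRingCat.of R))

/-- Hypotheses at the geometric points of the closed fibre. -/
structure Hyp (h : N ⟶ Z) (p : Z ⟶ Spec (CommRingCat.of R)) (W E : Set N) : Prop where
  ex : ∀ {Ω : Type u} [Field Ω] [IsSepClosed Ω] (ρ : Spec (CommRingCat.of Ω) ⟶ Z),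
    p (ρ default) = closedPoint R →
    ∃ (V : Z.Etale) (l : Spec (CommRingCat.of Ω) ⟶ V.left) (_ : l ≫ V.hom = ρ)
      (s : sect (C N Two.{u}) ((EtCoh.bc h).obj V)), Ind h W E s
  uniq : ∀ {Ω : Type u} [Field Ω] [IsSepClosed Ω] (ρ : Spec (CommRingCat.of Ω) ⟶ Z),
    p (ρ default) = closedPoint R →
    ∀ {V : Z.Etale} (l : Spec (CommRingCat.of Ω) ⟶ V.left) (hl : l ≫ V.hom = ρ)
      (s t : sect (C N Two.{u}) ((EtCoh.bc h).obj V)), Ind h W E s → Ind h W E t →
      germ (GG h) l hl s = germ (GG h) l hl t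

variable {p}

/-- The germ of a section inducing `E`. -/
noncomputable def Hyp.gm (H : Hyp h p W E) {Ω : Type u} [Field Ω] [IsSepClosed Ω]
    (ρ : Spec (CommRingCat.of Ω) ⟶ Z) (hρ : p (ρ default) = closedPoint R) : Stk (GG h) ρ :=
  germ (GG h) (H.ex ρ hρ).choose_spec.choose (H.ex ρ hρ).choose_spec.choose_spec.choose
    (H.ex ρ hρ).choose_spec.choose_spec.choose_spec.choose

theorem Hyp.gm_eq (H : Hyp h p W E) {Ω : Type u} [Field Ω] [IsSepClosed Ω]
    (ρ : Spec (CommRingCat.of Ω) ⟶ Z) (hρ : p (ρ default) = closedPoint R) {V : Z.Etale}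
    (l : Spec (CommRingCat.of Ω) ⟶ V.left) (hl : l ≫ V.hom = ρ)
    (s : sect (C N Two.{u}) ((EtCoh.bc h).obj V)) (hs : Ind h W E s) :
    H.gm ρ hρ = germ (GG h) l hl s := by
  have h1 := (H.ex ρ hρ).choose_spec.choose_spec.choose_spec.choose_spec
  obtain ⟨V', a, b, n, hn, ha, hb⟩ := exists_common_nhd (H.ex ρ hρ).choose_spec.choose
    (H.ex ρ hρ).choose_spec.choose_spec.choose l hl
  have e1 := germ_res' (GG h) a n hn _ (H.ex ρ hρ).choose_spec.choose_spec.choose ha
    (H.ex ρ hρ).choose_spec.choose_spec.choose_spec.choose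
  have e2 := germ_res' (GG h) b n hn l hl hb s
  unfold Hyp.gm
  rw [← e1, ← e2]
  exact H.uniq ρ hρ n hn _ _ (h1.res a) (hs.res b)

theorem closed_of_fibre (ρ' : ↥(pullback p (resPt R))) : p ((pullback.fst p (resPt R)) ρ') = closedPoint R := by
  rw [← Scheme.Hom.comp_apply, pullback.condition, Scheme.Hom.comp_apply]
  exact resPt_closedPoint R _

/-- The family of germs on the closed fibre. -/
noncomputable def Hyp.fam (H : Hyp h p W E) : Fam (GG h) (pullback.fst p (resPt R)) where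
  val η ρ e := H.gm ρ (by rw [← e, Scheme.Hom.comp_apply]; exact closed_of_fibre _)
  rep y := by
    obtain ⟨Ω, _, _, η₀, rfl⟩ := exists_geomPoint _ y
    obtain ⟨V, l, hl, s, hs⟩ := H.ex (η₀ ≫ pullback.fst p (resPt R)) (by
      rw [Scheme.Hom.comp_apply]; exact closed_of_fibre _)
    have hV : Etale V.hom := inferInstance
    refine ⟨pullback (pullback.fst p (resPt R)) V.hom, pullback.fst _ _, inferInstance,
      (pullback.lift η₀ l hl.symm : Spec (CommRingCat.of Ω) ⟶ _) default, ?_, V, pullback.snd _ _,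
      pullback.condition.symm, s, ?_⟩
    · rw [← Scheme.Hom.comp_apply, pullback.lift_fst]
    · intro Ω' _ _ ζ ρ e e'
      exact H.gm_eq ρ _ (ζ ≫ pullback.snd _ _) e' s hs

/-- Points over the closed point factor through the closed fibre. -/
theorem exists_factor {Ω : Type u} [Field Ω] (ρ : Spec (CommRingCat.of Ω) ⟶ Z)
    (hρ : p (ρ default) = closedPoint R) :
    ∃ ζ : Spec (CommRingCat.of Ω) ⟶ pullback p (resPt R), ζ ≫ pullback.fst p (resPt R) = ρ := by
  have h1 : (ρ ≫ p) (closedPoint Ω) = closedPoint R := by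
    rw [Scheme.Hom.comp_apply, ← hρ]
    exact congrArg (fun y => p (ρ y)) (spec_field_closedPoint _).symm
  obtain ⟨φ, hφ⟩ : ∃ φ : R →+* Ω, spm φ = ρ ≫ p := by
    obtain ⟨φ, hφ⟩ := Spec.map_surjective (ρ ≫ p)
    exact ⟨φ.hom, hφ⟩
  have hloc : IsLocalHom φ := by
    refine ((IsLocalRing.local_hom_TFAE φ).out 4 0).1 ?_
    rw [← hφ] at h1
    have h2 := congrArg PrimeSpectrum.asIdeal h1
    have h3 : (PrimeSpectrum.comap φ (closedPoint Ω)).asIdeal = maximalIdeal R := h2
    rw [PrimeSpectrum.comap_asIdeal] at h3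
    exact h3
  refine ⟨pullback.lift ρ (spm (ResidueField.lift φ)) ?_, pullback.lift_fst _ _ _⟩
  rw [← spm_comp, ResidueField.lift_comp_residue, hφ]

theorem exists_clopen [IsProper p] (H : Hyp h p W E) : ∃ C : Set N, IsClopen C ∧ C ∩ W = E := by
  obtain ⟨U, l, hl, b, hb⟩ := Groth.Agent.S3051.bcsurj_of_isProper p (GG h) (ResidueField R)
    (resPt R) H.fam
  -- the section of `U`
  obtain ⟨t, ht, ht'⟩ := Groth.Agent.Pi1C.StrictHensPoint.exists_lift_of_etale U.hom (l default) R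
    (𝟙 _) (by
      rw [← Scheme.Hom.comp_apply, hl]
      exact (resPt_closedPoint R _).symm)
  have hlt : resPt R ≫ t = l := by
    have h1 : Etale (t ≫ U.hom) := by rw [ht]; infer_instance
    have h2 : Etale t := Etale.of_comp t U.hom
    have h3 : Mono t := by
      have : Mono (t ≫ U.hom) := by rw [ht]; infer_instance
      exact mono_of_mono t U.hom
    have h4 : IsOpenImmersion t := IsOpenImmersion.of_flat_of_mono t
    have hrange : Set.range l ⊆ Set.range t := by
      rintro _ ⟨z, rfl⟩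
      refine ⟨closedPoint R, ?_⟩
      rw [ht']
      congr 1
      exact Subsingleton.elim _ _
    have h5 : IsOpenImmersion.lift t l hrange = resPt R := by
      have h6 := IsOpenImmersion.lift_fac t l hrange
      rw [← hl]
      conv_rhs => rw [← h6, Category.assoc, ht]
      exact (Category.comp_id _).symm
    rw [← h5]
    exact IsOpenImmersion.lift_fac t l hrange
  let a : EtCoh.top (Spec (CommRingCat.of R)) ⟶ U := MorphismProperty.Over.homMk t ht trivial
  let T₀ : Z.Etale := (EtCoh.bc p).obj (EtCoh.top (Spec (CommRingCat.of R)))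
  let b₀ : sect (GG h) T₀ := (GG h).obj.map ((EtCoh.bc p).map a).op b
  have hT₀ : IsIso T₀.hom := by
    show IsIso (pullback.snd (𝟙 (Spec (CommRingCat.of R))) p)
    infer_instance
  -- germs of `b₀` at the geometric points over the closed point
  have hgerm : ∀ {Ω : Type u} [Field Ω] [IsSepClosed Ω] (η : Spec (CommRingCat.of Ω) ⟶ T₀.left)
      (ρ : Spec (CommRingCat.of Ω) ⟶ Z) (e : η ≫ T₀.hom = ρ) (hρ : p (ρ default) = closedPoint R),
      germ (GG h) η e b₀ = H.gm ρ hρ := by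
    intro Ω _ _ η ρ e hρ
    obtain ⟨ζ, hζ⟩ := exists_factor ρ hρ
    have h1 : (ζ ≫ pullback.snd p (resPt R) ≫ l) ≫ U.hom = ρ ≫ p := by
      rw [Category.assoc, Category.assoc, hl, ← pullback.condition, ← Category.assoc, hζ]
    have h2 := hb ζ ρ hζ h1
    have h3 : η ≫ ((EtCoh.bc p).map a).left = bcPt p ρ (ζ ≫ pullback.snd p (resPt R) ≫ l) h1 := by
      apply hom_ext_bc
      · rw [Category.assoc, bc_map_fst, bcPt_fst]
        have h4 : η ≫ bcFst p (EtCoh.top (Spec (CommRingCat.of R))) = ρ ≫ p := by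
          have h5 := bc_condition p (EtCoh.top (Spec (CommRingCat.of R)))
          have h6 : bcFst p (EtCoh.top (Spec (CommRingCat.of R))) = T₀.hom ≫ p := by
            rw [← Category.comp_id (bcFst p _)]
            exact h5
          rw [h6, ← e]
          exact (Category.assoc _ _ _).symm
        have h7 : a.left = t := rfl
        have h8 : ρ ≫ p = ζ ≫ pullback.snd p (resPt R) ≫ resPt R := by
          rw [← hζ, Category.assoc, pullback.condition]
        rw [← Category.assoc, h4, h7, h8, ← hlt]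
        have h9 : (ζ ≫ pullback.snd p (resPt R) ≫ resPt R) ≫ t = ζ ≫ pullback.snd p (resPt R) ≫ resPt R ≫ t := by
          simp only [Category.assoc]
        exact h9
      · rw [Category.assoc, bc_map_hom, bcPt_hom]
        exact e
    have h4 := germ_res' (GG h) ((EtCoh.bc p).map a) η e _ (bcPt_hom _ _ _ _) h3 b
    rw [show b₀ = (GG h).obj.map ((EtCoh.bc p).map a).op b from rfl, h4, ← h2]
    rfl
  -- the locus where `b₀` induces `E`
  let Z₀ : Set T₀.left := {z | ∃ (V : Z.Etale) (g : V ⟶ T₀) (v : V.left), g.left v = z ∧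
    Ind h W E ((GG h).obj.map g.op b₀)}
  have hZ₀ : IsOpen Z₀ := by
    rw [isOpen_iff_forall_mem_open]
    rintro x ⟨V, φ, v, hv, hφ⟩
    refine ⟨Set.range φ.left.base, ?_, ?_, ⟨v, hv⟩⟩
    · rintro _ ⟨w, rfl⟩
      exact ⟨V, φ, w, rfl, hφ⟩
    · have : AlgebraicGeometry.Etale φ.left := inferInstance
      exact (AlgebraicGeometry.Scheme.Hom.isOpenMap φ.left).isOpen_range
  have hcl : ∀ z : T₀.left, p (T₀.hom z) = closedPoint R → z ∈ Z₀ := by
    intro z hz
    obtain ⟨Ω, _, _, η, rfl⟩ := exists_geomPoint _ z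
    have hρ : p ((η ≫ T₀.hom) default) = closedPoint R := by
      rw [Scheme.Hom.comp_apply]; exact hz
    obtain ⟨V, l', hl', s, hs⟩ := H.ex (η ≫ T₀.hom) hρ
    have h1 := (hgerm η _ rfl hρ).trans (H.gm_eq _ hρ l' hl' s hs)
    obtain ⟨V', a', b', n, hn, ha, hb', hab⟩ := (germ_eq_germ_iff (GG h) _ _ _ _ _ _).1 h1
    refine ⟨V', a', n default, ?_, ?_⟩
    · rw [← ha]; rfl
    · rw [hab]
      exact hs.res b'
  have huniv : Z₀ = Set.univ := by
    by_contra hne
    have h1 : IsClosed ((T₀.hom ≫ p) '' Z₀ᶜ) :=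
      (Scheme.Hom.isClosedMap (T₀.hom ≫ p)) _ hZ₀.isClosed_compl
    obtain ⟨z, hz⟩ : (Z₀ᶜ).Nonempty := Set.nonempty_compl.2 hne
    have h2 : closedPoint R ∈ (T₀.hom ≫ p) '' Z₀ᶜ := by
      have h3 : (T₀.hom ≫ p) z ⤳ closedPoint R := IsLocalRing.specializes_closedPoint _
      exact h3.mem_closed h1 ⟨z, hz, rfl⟩
    obtain ⟨z', hz', e⟩ := h2
    exact hz' (hcl z' (by rw [← Scheme.Hom.comp_apply]; exact e))
  have hInd : Ind h W E b₀ := by
    unfold Ind
    ext x
    obtain ⟨V, g, v, hv, hg⟩ : bcFst h T₀ x ∈ Z₀ := by rw [huniv]; trivial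
    have hsq : IsPullback ((EtCoh.bc h).map g).left (bcFst h V) (bcFst h T₀) g.left :=
      EtCoh.isPullback_bc_map h g
    obtain ⟨y, hy1, hy2⟩ := Scheme.exists_preimage_of_isPullback hsq x v hv.symm
    have h1 := Set.ext_iff.1 hg y
    have h2 : y ∈ clop ((GG h).obj.map g.op b₀ : sect (C N Two.{u}) ((EtCoh.bc h).obj V)) ↔ x ∈ clop b₀ := by
      show y ∈ clop ((C N Two.{u}).obj.map ((EtCoh.bc h).map g).op b₀) ↔ _
      rw [clop_res, Set.mem_preimage, hy1]
    have h3 : ((EtCoh.bc h).obj V).hom y = ((EtCoh.bc h).obj T₀).hom x := by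
      rw [← hy1, bc_map_hom_apply]
    simp only [Set.mem_inter_iff, Set.mem_preimage, h3] at h1 ⊢
    rw [← h2]
    exact h1
  have hiso : IsIso ((EtCoh.bc h).obj T₀).hom := by
    show IsIso (pullback.snd T₀.hom h)
    infer_instance
  let e := Scheme.homeoOfIso (asIso ((EtCoh.bc h).obj T₀).hom)
  refine ⟨e '' clop b₀, ⟨e.isClosed_image.2 (isClopen_clop _).isClosed,
    e.isOpen_image.2 (isClopen_clop _).isOpen⟩, ?_⟩
  ext x
  obtain ⟨y, rfl⟩ := e.surjective x
  have h1 := Set.ext_iff.1 hInd y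
  have h2 : e y ∈ e '' clop b₀ ↔ y ∈ clop b₀ := e.injective.mem_set_image
  rw [Set.mem_inter_iff, h2]
  exact h1

section Final

variable (p) in
/-- The local hypothesis at the strict localizations. -/
def LocHyp (h : N ⟶ Z) (W : Set N) (Q : ∀ {T : Scheme.{u}}, Set T → Prop) : Prop :=
  ∀ (A : Type u) [CommRing A] [IsLocalRing A] (σ : Spec (CommRingCat.of A) ⟶ Z), IsStrictLoc σ →
    p (σ (closedPoint A)) = closedPoint R →
    ∀ ⦃NA : Scheme.{u}⦄ (a : NA ⟶ N) (fA : NA ⟶ Spec (CommRingCat.of A)), IsPullback a fA h σ →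
      Q (a ⁻¹' W)

theorem LocHyp.osh {Q : ∀ {T : Scheme.{u}}, Set T → Prop} (H : LocHyp p h W @Q) {Ω : Type u} [Field Ω]
    [IsSepClosed Ω] (ρ : Spec (CommRingCat.of Ω) ⟶ Z) (hρ : p (ρ default) = closedPoint R) :
    Q ((pullback.fst h (toBase ρ)) ⁻¹' W) := by
  refine @H (Osh ρ) _ inferInstance (toBase ρ) (isStrictLoc_toBase ρ) ?_ _ (pullback.fst h (toBase ρ))
    (pullback.snd h (toBase ρ)) (IsPullback.of_hasPullback h (toBase ρ))
  rw [← hρ, ← pt_default ρ]
  congr 1
  rw [← Scheme.Hom.comp_apply, pt_toBase]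

theorem clSurj_of_proper [IsProper p] (hW : IsClosed W) (H₁ : LocHyp p h W (fun W => ClInj W))
    (H₂ : LocHyp p h W (fun W => ClSurj W)) : ClSurj W := by
  intro E hEW hrel
  have hE : IsClosed E := by
    have h1 := hW.isClosedEmbedding_subtypeVal.isClosedMap _ hrel.isClosed
    rwa [Subtype.image_preimage_val, Set.inter_eq_right.2 hEW] at h1
  have hE' : IsClosed (W \ E) := by
    have h1 := hW.isClosedEmbedding_subtypeVal.isClosedMap _ hrel.compl.isClosed
    rwa [← Set.preimage_compl, Subtype.image_preimage_val, ← Set.diff_eq] at h1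
  have H : Hyp h p W E := by
    constructor
    · intro Ω _ _ ρ hρ
      have hs := H₂.osh ρ hρ
      obtain ⟨i, s, hs'⟩ := exists_ind ρ (IsPullback.of_hasPullback h (toBase ρ)) hEW hE hE' hs
      exact ⟨(D ρ).obj i, lft ρ i, lft_hom ρ i, s, hs'⟩
    · intro Ω _ _ ρ hρ V l hl s t hs ht
      have hi := H₁.osh ρ hρ
      exact germ_unique ρ (IsPullback.of_hasPullback h (toBase ρ)) hi l hl s t (hs.trans ht.symm)
  obtain ⟨C, hC, hCE⟩ := exists_clopen H
  exact ⟨C, hC, hCE⟩

theorem clInj_of_proper [IsProper p] (H₁ : LocHyp p h W (fun W => ClInj W)) : ClInj W := by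
  intro C₁ hC₁ hCW
  -- the locus of `Z` over which `C₁` is empty
  let Z₀ : Set Z := {z | ∃ (V : Z.Etale) (v : V.left), V.hom v = z ∧
    ((EtCoh.bc h).obj V).hom ⁻¹' C₁ = ∅}
  have hZ₀ : IsOpen Z₀ := by
    rw [isOpen_iff_forall_mem_open]
    rintro x ⟨V, v, hv, hφ⟩
    refine ⟨Set.range V.hom.base, ?_, ?_, ⟨v, hv⟩⟩
    · rintro _ ⟨w, rfl⟩
      exact ⟨V, w, rfl, hφ⟩
    · have : AlgebraicGeometry.Etale V.hom := inferInstance
      exact (AlgebraicGeometry.Scheme.Hom.isOpenMap V.hom).isOpen_range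
  have hcl : ∀ z : Z, p z = closedPoint R → z ∈ Z₀ := by
    intro z hz
    obtain ⟨Ω, _, _, ρ, rfl⟩ := exists_geomPoint _ z
    have hi := H₁.osh ρ hz
    have hemp : (pullback.fst h (toBase ρ)) ⁻¹' C₁ = ∅ := by
      apply hi _ (hC₁.preimage (pullback.fst h (toBase ρ)).continuous)
      rw [← Set.preimage_inter, hCW, Set.preimage_empty]
    let sq := IsPullback.of_hasPullback h (toBase ρ)
    obtain ⟨j, g, hg⟩ := exists_shrink_stage ρ sq (i₀ ρ)
      (((EtCoh.bc h).obj ((D ρ).obj (i₀ ρ))).hom ⁻¹' C₁)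
      (hC₁.isClosed.preimage ((EtCoh.bc h).obj ((D ρ).obj (i₀ ρ))).hom.continuous) (by
        rw [← hemp]
        ext x
        simp only [Set.mem_preimage, legX_hom_apply])
    refine ⟨(D ρ).obj j, lft ρ j default, ?_, ?_⟩
    · rw [← Scheme.Hom.comp_apply, lft_hom]
    · rw [← hg]
      ext x
      simp only [Set.mem_preimage, bc_map_hom_apply]
  have huniv : Z₀ = Set.univ := by
    by_contra hne
    have h1 : IsClosed (p '' Z₀ᶜ) := (Scheme.Hom.isClosedMap p) _ hZ₀.isClosed_compl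
    obtain ⟨z, hz⟩ : (Z₀ᶜ).Nonempty := Set.nonempty_compl.2 hne
    have h2 : closedPoint R ∈ p '' Z₀ᶜ := by
      have h3 : p z ⤳ closedPoint R := IsLocalRing.specializes_closedPoint _
      exact h3.mem_closed h1 ⟨z, hz, rfl⟩
    obtain ⟨z', hz', e⟩ := h2
    exact hz' (hcl z' e)
  ext x
  simp only [Set.mem_empty_iff_false, iff_false]
  intro hx
  obtain ⟨V, v, hv, hV⟩ : h x ∈ Z₀ := by rw [huniv]; trivial
  have hsq : IsPullback (bcFst h V) ((EtCoh.bc h).obj V).hom V.hom h := IsPullback.of_hasPullback V.hom h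
  obtain ⟨y, hy1, hy2⟩ := Scheme.exists_preimage_of_isPullback hsq v x hv
  have : y ∈ ((EtCoh.bc h).obj V).hom ⁻¹' C₁ := by
    show ((EtCoh.bc h).obj V).hom y ∈ C₁
    rw [show ((EtCoh.bc h).obj V).hom y = x from hy2]
    exact hx
  rw [hV] at this
  exact this

end Final

end Global

end Main

end K868.Bc.PBC
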