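import Groth.Agent.Pi1.K868.BcBase
import Groth.Agent.EtAcyc.K157.Core
import Groth.Agent.EGA4.K113.FieldFib
import Groth.Agent.Etbc.H192.Model
import Groth.Agent.Etbc.H192.ULoc
import Groth.Agent.Hensel.HenselPerm

/-!
# Faithfulness for good pairs

`faith_of_fib`: `g : X ⟶ S` flat, locally of finite presentation, with normal geometric fibres, `V` open in `X`,
dense in the fibres. Then `Faith V.ι g`.
-/

set_option autoImplicit false
universe u

open CategoryTheory CategoryTheory.Limits AlgebraicGeometry Opposite IsLocalRing TensorProduct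

namespace K868.Bc

open Groth.Agent.Etrest.StrictLoc Groth.Agent.Sga1.UlaSL

/-- The local rings of the fibres over all field valued points are normal domains. -/
def FibNor {X S : Scheme.{u}} (g : X ⟶ S) : Prop :=
  ∀ (K : Type u) [Field K] (k : Spec (CommRingCat.of K) ⟶ S) (P : Scheme.{u}) (a : P ⟶ X)
    (b : P ⟶ Spec (CommRingCat.of K)), IsPullback a b g k →
    ∀ z : P, IsDomain (P.presheaf.stalk z) ∧ IsIntegrallyClosed (P.presheaf.stalk z)

theorem FibNor.fibRed {X S : Scheme.{u}} {g : X ⟶ S} (h : FibNor g) : Groth.Agent.Etbc.H192.Model.FibRed g := by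
  intro K _ k
  have h1 := h K k (pullback g k) _ _ (IsPullback.of_hasPullback g k)
  have : ∀ z : ↥(pullback g k), IsReduced ((pullback g k).presheaf.stalk z) := fun z => by
    have := (h1 z).1
    infer_instance
  exact isReduced_of_isReduced_stalk _

/-! ### The topological part -/

theorem mem_closure_iff {N : Type u} [CommRing N] {C : Set (PrimeSpectrum N)} (hC : IsOpen C)
    (hc : IsCompact C) {z : PrimeSpectrum N} (h : z ∈ closure C) : ∃ p ∈ C, p ⤳ z := by
  obtain ⟨p, hp, hpz⟩ := K157.Core.exists_specializes' (⊥ : Ideal N) C hC hc z (by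
    have h1 : PrimeSpectrum.zeroLocus ((⊥ : Ideal N) : Set N) ∩ C = C := by
      simp
    rw [h1]
    exact h)
  exact ⟨p, hp.2, hpz⟩

theorem mem_closure_iff' {T : Scheme.{u}} [IsAffine T] {C : Set T} (hC : IsOpen C)
    (hc : IsCompact C) {z : T} (h : z ∈ closure C) : ∃ p ∈ C, p ⤳ z := by
  let e : T ≃ₜ ↥(Spec Γ(T, ⊤)) := Scheme.homeoOfIso T.isoSpec
  obtain ⟨p, hp, hpz⟩ := mem_closure_iff (N := Γ(T, ⊤)) (C := e '' C) (e.isOpenMap _ hC) (hc.image e.continuous)
    (z := e z) (by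
      have h1 := Set.mem_image_of_mem e h
      rw [e.image_closure] at h1
      exact h1)
  obtain ⟨q, hq, rfl⟩ := hp
  exact ⟨q, hq, e.isInducing.specializes_iff.1 hpz⟩

/-- A clopen subset of a dense open subscheme of a connected unibranch affine scheme. -/
theorem clopen_of_unibranch {T VT : Scheme.{u}} [IsAffine T] [PreconnectedSpace T] (j : VT ⟶ T)
    [IsOpenImmersion j] [QuasiCompact j]
    (hu : ∀ z : T, ∃ η : T, ∀ y : T, y ⤳ z → η ⤳ y)
    (hd : ∀ z : T, ∃ v : VT, j v ⤳ z) {C : Set VT} (hC : IsClopen C) (hne : C.Nonempty) : C = Set.univ := by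
  have hcs : CompactSpace VT := QuasiCompact.compactSpace_of_compactSpace j
  have ho : IsOpenMap j := j.isOpenEmbedding.isOpenMap
  have key : ∀ D : Set VT, IsClopen D → IsOpen (j '' D) ∧ IsCompact (j '' D) := fun D hD =>
    ⟨ho _ hD.isOpen, hD.isClosed.isCompact.image j.continuous⟩
  have h1 := key C hC
  have h2 := key Cᶜ hC.compl
  have hdisj : closure (j '' C) ∩ closure (j '' Cᶜ) = ∅ := by
    rw [Set.eq_empty_iff_forall_notMem]
    rintro z ⟨hz1, hz2⟩
    obtain ⟨p1, hp1, hs1⟩ := mem_closure_iff' h1.1 h1.2 hz1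
    obtain ⟨p2, hp2, hs2⟩ := mem_closure_iff' h2.1 h2.2 hz2
    obtain ⟨η, hη⟩ := hu z
    have h3 : η ∈ j '' C := (hη p1 hs1).mem_open h1.1 hp1
    have h4 : η ∈ j '' Cᶜ := (hη p2 hs2).mem_open h2.1 hp2
    obtain ⟨a, ha, ha'⟩ := h3
    obtain ⟨b, hb, hb'⟩ := h4
    have : a = b := j.injective (ha'.trans hb'.symm)
    subst this
    exact hb ha
  have hcover : closure (j '' C) ∪ closure (j '' Cᶜ) = Set.univ := by
    rw [Set.eq_univ_iff_forall]
    intro z
    obtain ⟨v, hv⟩ := hd z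
    by_cases hvC : v ∈ C
    · exact Or.inl (hv.mem_closed isClosed_closure (subset_closure ⟨v, hvC, rfl⟩))
    · exact Or.inr (hv.mem_closed isClosed_closure (subset_closure ⟨v, hvC, rfl⟩))
  have hclopen : IsClopen (closure (j '' C)) := by
    refine ⟨isClosed_closure, ?_⟩
    have h5 : closure (j '' C) = (closure (j '' Cᶜ))ᶜ := by
      ext z
      constructor
      · intro hz hz'
        have : z ∈ closure (j '' C) ∩ closure (j '' Cᶜ) := ⟨hz, hz'⟩
        rw [hdisj] at this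
        exact this
      · intro hz
        have : z ∈ closure (j '' C) ∪ closure (j '' Cᶜ) := by rw [hcover]; trivial
        exact this.resolve_right hz
    rw [h5]
    exact isClosed_closure.isOpen_compl
  rcases isClopen_iff.1 hclopen with h6 | h6
  · obtain ⟨c, hc⟩ := hne
    have : j c ∈ closure (j '' C) := subset_closure ⟨c, hc, rfl⟩
    rw [h6] at this
    exact this.elim
  · rw [Set.eq_univ_iff_forall]
    intro v
    by_contra hv
    have h7 : j v ∈ closure (j '' C) := by rw [h6]; trivial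
    have h8 : j v ∈ closure (j '' Cᶜ) := subset_closure ⟨v, hv, rfl⟩
    have : j v ∈ closure (j '' C) ∩ closure (j '' Cᶜ) := ⟨h7, h8⟩
    rw [hdisj] at this
    exact this


/-! ### The fibres of a strict localization -/

section Fib

variable {X S : Scheme.{u}} {g : X ⟶ S} {O A : Type u} [CommRing O] [IsLocalRing O] [CommRing A]
  [IsLocalRing A] {t : Spec (CommRingCat.of O) ⟶ S} {Y₁ : Scheme.{u}} {c : Y₁ ⟶ X}
  {b₁ : Y₁ ⟶ Spec (CommRingCat.of O)} (sq₁ : IsPullback c b₁ g t)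
  {σ : Spec (CommRingCat.of A) ⟶ Y₁} (hσ : IsStrictLoc σ)
  {K : Type u} [Field K] {κ : Spec (CommRingCat.of K) ⟶ Spec (CommRingCat.of O)} {T : Scheme.{u}}
  {τ : T ⟶ Spec (CommRingCat.of A)} {s : T ⟶ Spec (CommRingCat.of K)} (sqT : IsPullback τ s (σ ≫ b₁) κ)

include sq₁ hσ sqT in
theorem exists_w : ∃ (XK : Scheme.{u}) (u : XK ⟶ Y₁) (v : XK ⟶ Spec (CommRingCat.of K))
    (_ : IsPullback (u ≫ c) v g (κ ≫ t)) (w : T ⟶ XK), WeaklyEtale w ∧ w ≫ u = τ ≫ σ ∧ w ≫ v = s := by
  have sqK : IsPullback (pullback.fst b₁ κ) (pullback.snd b₁ κ) b₁ κ := IsPullback.of_hasPullback _ _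
  let w : T ⟶ pullback b₁ κ := sqK.lift (τ ≫ σ) s (by rw [Category.assoc, sqT.w])
  have hw1 : w ≫ pullback.fst b₁ κ = τ ≫ σ := sqK.lift_fst _ _ _
  have hw2 : w ≫ pullback.snd b₁ κ = s := sqK.lift_snd _ _ _
  have sqw : IsPullback w τ (pullback.fst b₁ κ) σ := by
    refine IsPullback.of_right (h₁₂ := pullback.snd b₁ κ) (v₁₃ := κ) (h₂₂ := b₁) ?_ hw1 sqK.flip
    rw [hw2]
    exact sqT.flip
  have hwe : WeaklyEtale w :=
    MorphismProperty.of_isPullback (P := @WeaklyEtale) sqw.flip (weaklyEtale_of_isStrictLoc hσ)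
  exact ⟨pullback b₁ κ, pullback.fst b₁ κ, pullback.snd b₁ κ, (sqK.flip.paste_vert sq₁.flip).flip, w, hwe,
    hw1, hw2⟩

include sq₁ hσ sqT in
theorem exists_unibranch (hn : FibNor g) (z : T) : ∃ η : T, ∀ y : T, y ⤳ z → η ⤳ y := by
  obtain ⟨XK, u, v, sqX, w, hw, -, -⟩ := exists_w sq₁ hσ sqT
  obtain ⟨D, _, _, δ, hδ, hδz⟩ := exists_isStrictLoc T z
  have h1 := hδ.comp w
  obtain ⟨_, _, hsh, -⟩ := exists_specOf h1 _ rfl
  have h2 := hn K _ XK _ _ sqX ((δ ≫ w) (closedPoint D))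
  have h3 : IsDomain D ∧ IsIntegrallyClosed D :=
    (Groth.Agent.Hensel.HenselPerm.isNormalDomain_iff_of_lazardEtale _ D
      (Groth.Agent.Hensel.HenselPerm.lazardEtale_of_isStrictHenselization _ D)).1 h2
  have := h3.1
  have hfl : WeaklyEtale δ := weaklyEtale_of_isStrictLoc hδ
  have hfl' : Flat δ := inferInstance
  refine ⟨δ (⊥ : PrimeSpectrum D), fun y hy => ?_⟩
  rw [← hδz] at hy
  obtain ⟨a, -, rfl⟩ := Flat.generalizingMap δ hy
  have h4 : (⊥ : PrimeSpectrum D) ⤳ a := (PrimeSpectrum.le_iff_specializes _ _).1 bot_le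
  exact h4.map δ.continuous

include sq₁ hσ sqT in
theorem exists_dense {V : X.Opens} (hd : ∀ x : X, ∃ y ∈ V, y ⤳ x ∧ g y = g x) (z : T) :
    ∃ y : T, y ⤳ z ∧ c (σ (τ y)) ∈ V := by
  obtain ⟨XK, u, v, sqX, w, hw, hw1, hw2⟩ := exists_w sq₁ hσ sqT
  have hx : c (σ (τ z)) = (u ≫ c) (w z) := by
    rw [← Scheme.Hom.comp_apply σ, ← Scheme.Hom.comp_apply τ, ← Category.assoc, ← hw1]
    simp only [Scheme.Hom.comp_apply]
  obtain ⟨y₀, hy₀, hs, hg⟩ := hd (c (σ (τ z)))
  have hpt : (κ ≫ t) (closedPoint K) = g y₀ := by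
    rw [hg, hx, ← Scheme.Hom.comp_apply, sqX.w, Scheme.Hom.comp_apply v]
    congr 1
    exact Subsingleton.elim _ _
  obtain ⟨e, he⟩ : ∃ e : Spec (CommRingCat.of K) ⟶ Spec (S.residueField (g y₀)),
      e ≫ S.fromSpecResidueField (g y₀) = κ ≫ t := by
    obtain ⟨j, hj⟩ := exists_residueField_hom (κ ≫ t) (g y₀) hpt
    exact ⟨_, hj⟩
  have sqs : IsPullback (pullback.fst g (S.fromSpecResidueField (g y₀)))
    (pullback.snd g (S.fromSpecResidueField (g y₀))) g (S.fromSpecResidueField (g y₀)) :=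
      IsPullback.of_hasPullback _ _
  let m : XK ⟶ pullback g (S.fromSpecResidueField (g y₀)) := sqs.lift (u ≫ c)
    (v ≫ e) (by rw [sqX.w, Category.assoc, he])
  have hm1 : m ≫ pullback.fst g (S.fromSpecResidueField (g y₀)) = u ≫ c := sqs.lift_fst _ _ _
  have hm2 : m ≫ pullback.snd g (S.fromSpecResidueField (g y₀)) = v ≫ e := sqs.lift_snd _ _ _
  have sqm : IsPullback m v (pullback.snd g (S.fromSpecResidueField (g y₀))) e := by
    refine IsPullback.of_right (h₁₂ := pullback.fst g (S.fromSpecResidueField (g y₀))) (v₁₃ := g)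
      (h₂₂ := S.fromSpecResidueField (g y₀)) ?_ hm2 sqs
    rw [hm1, he]
    exact sqX
  have hjf : Flat e := inferInstance
  have hmf : Flat m := MorphismProperty.of_isPullback (P := @Flat) sqm.flip hjf
  have hwf : Flat (w ≫ m) := inferInstance
  obtain ⟨ys, hys, -⟩ := Scheme.Pullback.exists_preimage_pullback (f := g)
    (g := S.fromSpecResidueField (g y₀)) y₀ (closedPoint _) (by
      rw [Scheme.fromSpecResidueField_apply])
  have hspec : ys ⤳ (w ≫ m) z := by
    refine (pullback.fst g (S.fromSpecResidueField (g y₀))).isEmbedding.isInducing.specializes_iff.1 ?_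
    rw [hys, ← Scheme.Hom.comp_apply, Category.assoc, hm1, Scheme.Hom.comp_apply w, ← hx]
    exact hs
  obtain ⟨y, hy, hy'⟩ := Flat.generalizingMap (w ≫ m) hspec
  refine ⟨y, hy, ?_⟩
  have h1 : c (σ (τ y)) = (pullback.fst g (S.fromSpecResidueField (g y₀))) ((w ≫ m) y) := by
    rw [← Scheme.Hom.comp_apply (w ≫ m), Category.assoc, hm1, ← Category.assoc, hw1]
    simp only [Scheme.Hom.comp_apply]
  rw [h1, hy', hys]
  exact hy₀

end Fib

theorem faith_of_fib {X S : Scheme.{u}} (g : X ⟶ S) [Flat g] [LocallyOfFinitePresentation g] (hn : FibNor g)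
    (V : X.Opens) [QuasiCompact V.ι] (hd : ∀ x : X, ∃ y ∈ V, y ⤳ x ∧ g y = g x) : Faith V.ι g := by
  intro O A _ _ _ _ hO hk t Y₁ c b₁ sq₁ σ hσ hcl XA x fA sqA C hC he
  by_contra hne
  obtain ⟨x₀, hx₀⟩ := Set.nonempty_iff_ne_empty.2 hne
  obtain ⟨β, hβ⟩ : ∃ β : O →+* A, spm β = σ ≫ b₁ := ⟨(Spec.preimage (σ ≫ b₁)).hom, Spec.map_preimage _⟩
  have hloc : IsLocalHom β := by
    apply K548.Radicial.isLocalHom_of_closedPoint β
    rw [hβ]
    exact hcl
  obtain ⟨hfl, hconn⟩ : Flat (spm β) ∧ Groth.Agent.Etbc.H192.ZeroAcyc.SepGeomConnected (spm β) := by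
    obtain ⟨U, V', j, i1, i', i2, g', hg', hx, R, B, k1, k2, k3, k4, k5, k6, v, c', hpb⟩ :=
      Groth.Agent.Etbc.H192.Model.hasModel_of_locallyOfFinitePresentation g hn.fibRed (c (σ (closedPoint A)))
    exact Groth.Agent.Etbc.H192.Glue.main sq₁ (isStrictLoc_id O) hσ β (by rw [hβ, Category.comp_id]) j i' g' hg' hx k6
      v c' hpb
  have hfA : IsOpenImmersion fA := MorphismProperty.of_isPullback (P := @IsOpenImmersion) sqA inferInstance
  have hfAq : QuasiCompact fA := MorphismProperty.of_isPullback (P := @QuasiCompact) sqA inferInstance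
  -- points in the image of `fA`
  have hmem : ∀ y : Spec (CommRingCat.of A), c (σ y) ∈ V → ∃ a, fA a = y := by
    intro y hy
    obtain ⟨a, -, ha⟩ := Scheme.exists_preimage_of_isPullback sqA ⟨c (σ y), hy⟩ y rfl
    exact ⟨a, ha⟩
  -- a point of the closed fibre
  obtain ⟨x₁, hx₁⟩ : ∃ x₁ : XA, (fA ≫ σ ≫ b₁) x₁ = closedPoint O := by
    have sqT : IsPullback (pullback.fst (σ ≫ b₁) (resPt O)) (pullback.snd (σ ≫ b₁) (resPt O)) (σ ≫ b₁)
      (resPt O) := IsPullback.of_hasPullback _ _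
    obtain ⟨z, hz, -⟩ := Scheme.Pullback.exists_preimage_pullback (f := σ ≫ b₁) (g := resPt O)
      (closedPoint A) (closedPoint (ResidueField O)) (by
        rw [resPt_closedPoint]
        exact hcl)
    obtain ⟨y, -, hy⟩ := exists_dense sq₁ hσ sqT hd z
    obtain ⟨a, ha⟩ := hmem _ hy
    refine ⟨a, ?_⟩
    rw [Scheme.Hom.comp_apply, ha, ← Scheme.Hom.comp_apply, sqT.w, Scheme.Hom.comp_apply]
    exact resPt_closedPoint O _
  -- the fibre through `x₀`
  set p : Spec (CommRingCat.of O) := (fA ≫ σ ≫ b₁) x₀ with hp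
  let K : Type u := (Spec (CommRingCat.of O)).residueField p
  let κ : Spec (CommRingCat.of K) ⟶ Spec (CommRingCat.of O) := (Spec (CommRingCat.of O)).fromSpecResidueField p
  have hκ : ∀ y, κ y = p := fun y => by
    show (Spec (CommRingCat.of O)).fromSpecResidueField p y = p
    rw [Scheme.fromSpecResidueField_apply]
  have sqT : IsPullback (pullback.fst (σ ≫ b₁) κ) (pullback.snd (σ ≫ b₁) κ) (σ ≫ b₁) κ :=
    IsPullback.of_hasPullback _ _
  have hTc : ConnectedSpace ↥(pullback (σ ≫ b₁) κ) := by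
    let Ω := AlgebraicClosure K
    let e : Spec (CommRingCat.of Ω) ⟶ Spec (CommRingCat.of K) := spm (algebraMap K Ω)
    have h1 : ConnectedSpace ↥(pullback (e ≫ κ) (spm β)) := hconn Ω (e ≫ κ)
    have he : Surjective e := by
      refine ⟨fun y => ⟨closedPoint _, Subsingleton.elim _ _⟩⟩
    let l : pullback (e ≫ κ) (spm β) ⟶ pullback (σ ≫ b₁) κ := pullback.lift (pullback.snd _ _)
      (pullback.fst _ _ ≫ e) (by rw [← hβ, Category.assoc, pullback.condition])
    have hl : IsPullback l (pullback.fst (e ≫ κ) (spm β)) (pullback.snd (σ ≫ b₁) κ) e := by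
      refine IsPullback.of_right (h₁₂ := pullback.fst (σ ≫ b₁) κ) (v₁₃ := σ ≫ b₁) (h₂₂ := κ) ?_
        (pullback.lift_snd _ _ _) sqT
      rw [pullback.lift_fst, ← hβ]
      exact (IsPullback.of_hasPullback (e ≫ κ) (spm β)).flip
    have hls : Surjective l := MorphismProperty.of_isPullback (P := @Surjective) hl.flip he
    exact hls.surj.connectedSpace l.continuous
  have hTa : IsAffine (pullback (σ ≫ b₁) κ) := inferInstance
  let j := pullback.snd fA (pullback.fst (σ ≫ b₁) κ)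
  let a := pullback.fst fA (pullback.fst (σ ≫ b₁) κ)
  have hja : a ≫ fA = j ≫ pullback.fst (σ ≫ b₁) κ := pullback.condition
  have hjo : IsOpenImmersion j := inferInstance
  have hjq : QuasiCompact j := inferInstance
  have hsurj : ∀ y : XA, (fA ≫ σ ≫ b₁) y = p → ∃ v, a v = y := by
    intro y hy
    obtain ⟨z, hz, -⟩ := Scheme.Pullback.exists_preimage_pullback (f := σ ≫ b₁) (g := κ)
      (fA y) (closedPoint K) (by rw [hκ, ← Scheme.Hom.comp_apply]; exact hy)
    obtain ⟨v, hv, -⟩ := Scheme.Pullback.exists_preimage_pullback (f := fA) (g := pullback.fst (σ ≫ b₁) κ)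
      y z hz.symm
    exact ⟨v, hv⟩
  have hall : a ⁻¹' C = Set.univ := by
    refine clopen_of_unibranch j (exists_unibranch sq₁ hσ sqT hn) (fun z => ?_) (hC.preimage a.continuous) ?_
    · obtain ⟨y, hyz, hy⟩ := exists_dense sq₁ hσ sqT hd z
      obtain ⟨a', ha'⟩ := hmem _ hy
      obtain ⟨v, -, hv⟩ := Scheme.Pullback.exists_preimage_pullback (f := fA)
        (g := pullback.fst (σ ≫ b₁) κ) a' y ha'
      exact ⟨v, by rw [show j v = y from hv]; exact hyz⟩
    · obtain ⟨v, hv⟩ := hsurj x₀ rfl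
      exact ⟨v, by rw [Set.mem_preimage, hv]; exact hx₀⟩
  -- conclusion
  have hflat : Flat (fA ≫ σ ≫ b₁) := by
    rw [← hβ]
    infer_instance
  have hsp : p ⤳ (fA ≫ σ ≫ b₁) x₁ := by
    rw [hx₁]
    exact IsLocalRing.specializes_closedPoint (R := O) p
  obtain ⟨x₂, h21, h2p⟩ := Flat.generalizingMap (fA ≫ σ ≫ b₁) hsp
  obtain ⟨v, hv⟩ := hsurj x₂ h2p
  have h2C : x₂ ∈ C := by
    have : v ∈ a ⁻¹' C := by rw [hall]; trivial
    rw [← hv]
    exact this
  have h1C : x₁ ∈ C := h21.mem_closed hC.isClosed h2C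
  have : x₁ ∈ C ∩ cf (fA ≫ σ ≫ b₁) := ⟨h1C, hx₁⟩
  rw [he] at this
  exact this


/-! ### Good pairs -/

theorem stalk_of_equiv {A B : Type u} [CommRing A] [CommRing B] (e : A ≃+* B)
    (h : IsDomain A ∧ IsIntegrallyClosed A) : IsDomain B ∧ IsIntegrallyClosed B := by
  have := h.1
  have := h.2
  have h1 : IsDomain B := e.symm.toMulEquiv.isDomain A
  exact ⟨h1, IsIntegrallyClosed.of_equiv e⟩

theorem stalk_of_isNormalRing (N : Type u) [CommRing N] (hN : EGA4.IsNormalRing N)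
    (z : Spec (CommRingCat.of N)) : IsDomain ((Spec (CommRingCat.of N)).presheaf.stalk z) ∧
      IsIntegrallyClosed ((Spec (CommRingCat.of N)).presheaf.stalk z) := by
  let : Algebra N ((Spec (CommRingCat.of N)).presheaf.stalk z) := StructureSheaf.stalkAlgebra N z
  have hz : z.asIdeal.IsPrime := z.isPrime
  have : IsLocalization.AtPrime ((Spec (CommRingCat.of N)).presheaf.stalk z) z.asIdeal :=
    StructureSheaf.IsLocalization.to_stalk N z
  exact stalk_of_equiv (IsLocalization.algEquiv z.asIdeal.primeCompl (Localization.AtPrime z.asIdeal)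
    ((Spec (CommRingCat.of N)).presheaf.stalk z)).toRingEquiv (hN z.asIdeal)

theorem fibNor_of_affine {X S : Scheme.{u}} (g : X ⟶ S)
    (h : ∀ (U : X.Opens) (W : S.Opens) (_ : IsAffineOpen U) (_ : IsAffineOpen W) (hUW : U ≤ g ⁻¹ᵁ W),
      letI := (g.appLE W U hUW).hom.toAlgebra
      EGA4.IsNormalHom Γ(S, W) Γ(X, U)) : FibNor g := by
  intro K _ k P a b sq z
  obtain ⟨W, hW, hsW, -⟩ := exists_isAffineOpen_mem_and_subset (x := k (closedPoint K)) (U := (⊤ : S.Opens)) trivial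
  have hgz : g (a z) = k (closedPoint K) := by
    rw [← Scheme.Hom.comp_apply, sq.w, Scheme.Hom.comp_apply]
    congr 1
    exact Subsingleton.elim _ _
  obtain ⟨U, hU, hxU, hUW⟩ := exists_isAffineOpen_mem_and_subset (x := a z) (U := g ⁻¹ᵁ W)
    (show g (a z) ∈ W by rw [hgz]; exact hsW)
  have hn := h U W hU hW hUW
  let _ : Algebra Γ(S, W) Γ(X, U) := (g.appLE W U hUW).hom.toAlgebra
  have hsq : spm (algebraMap Γ(S, W) Γ(X, U)) ≫ hW.fromSpec = hU.fromSpec ≫ g :=
    IsAffineOpen.SpecMap_appLE_fromSpec g hW hU hUW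
  obtain ⟨k', hk'⟩ := Groth.Agent.Etbc.H192.Glue.exists_lift hW.fromSpec k (by
    rw [hW.range_fromSpec]
    exact hsW)
  obtain ⟨κ, hκ⟩ : ∃ κ : Γ(S, W) →+* K, spm κ = k' := ⟨(Spec.preimage k').hom, Spec.map_preimage _⟩
  let _ : Algebra Γ(S, W) K := κ.toAlgebra
  have hN := _root_.K113.FieldFib.isNormalRing_field_tensor (A := Γ(S, W)) (B := Γ(X, U)) hn.2 K
  let pK : Spec (CommRingCat.of (K ⊗[Γ(S, W)] Γ(X, U))) ⟶ Spec (CommRingCat.of K) :=
    spm (algebraMap K (K ⊗[Γ(S, W)] Γ(X, U)))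
  let pB : Spec (CommRingCat.of (K ⊗[Γ(S, W)] Γ(X, U))) ⟶ Spec (CommRingCat.of Γ(X, U)) :=
    spm (Algebra.TensorProduct.includeRight : Γ(X, U) →ₐ[Γ(S, W)] K ⊗[Γ(S, W)] Γ(X, U)).toRingHom
  have h0 : IsPullback pB pK (spm (algebraMap Γ(S, W) Γ(X, U))) (spm (algebraMap Γ(S, W) K)) :=
    (isPullback_SpecMap_of_isPushout _ _ _ _
      (CommRingCat.isPushout_tensorProduct Γ(S, W) K Γ(X, U))).flip
  have h1 : IsPullback pB pK (hU.fromSpec ≫ g) k := by
    have h2 : IsPullback pB pK (spm (algebraMap Γ(S, W) Γ(X, U)) ≫ hW.fromSpec)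
        (spm (algebraMap Γ(S, W) K) ≫ hW.fromSpec) :=
      IsPullback.of_isLimit (PullbackCone.isLimitOfCompMono _ _ hW.fromSpec _ h0.isLimit)
    rw [hsq] at h2
    have h3 : spm (algebraMap Γ(S, W) K) ≫ hW.fromSpec = k := by
      rw [← hk', ← hκ]
    rwa [h3] at h2
  let φ : Spec (CommRingCat.of (K ⊗[Γ(S, W)] Γ(X, U))) ⟶ P := sq.lift (pB ≫ hU.fromSpec) pK (by
    rw [Category.assoc]; exact h1.w)
  have hφ1 : φ ≫ a = pB ≫ hU.fromSpec := sq.lift_fst _ _ _
  have hφ2 : φ ≫ b = pK := sq.lift_snd _ _ _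
  have h2 : IsPullback φ pB a hU.fromSpec := by
    refine IsPullback.of_right (h₁₂ := b) (v₁₃ := k) (h₂₂ := g) ?_ hφ1 sq.flip
    rw [hφ2]
    exact h1.flip
  have hφo : IsOpenImmersion φ := MorphismProperty.of_isPullback (P := @IsOpenImmersion) h2.flip inferInstance
  obtain ⟨y, hy⟩ : a z ∈ Set.range hU.fromSpec := by
    rw [hU.range_fromSpec]
    exact hxU
  obtain ⟨z', hz', -⟩ := Scheme.exists_preimage_of_isPullback h2 z y hy.symm
  subst hz'
  exact stalk_of_equiv (asIso (φ.stalkMap z')).symm.commRingCatIsoToRingEquiv (stalk_of_isNormalRing _ hN z')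

theorem GoodPair.flat {X S : Scheme.{u}} {g : X ⟶ S} {V : X.Opens} (h : GoodPair g V) : Flat g :=
  ⟨fun {W} hW {U} hU e => (h.normal U W hU hW e).1⟩

/-- **Faithfulness** for good pairs. -/
theorem faith_of_goodPair {X S : Scheme.{u}} (g : X ⟶ S) (V : X.Opens) [QuasiCompact V.ι] (h : GoodPair g V) :
    Faith V.ι g := by
  have := h.flat
  have := h.fp
  exact faith_of_fib g (fibNor_of_affine g h.normal) V h.dense

end K868.Bc
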