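import Groth.Agent.Pi1.K868.BcLoc
import Groth.Agent.Pi1.K868.BcGood
import Groth.Agent.Pi1.K945.LimNor
import Groth.Agent.S0384

/-!
# Generic faithfulness and full faithfulness over integral bases of finite type over the integers
-/

set_option autoImplicit false
universe u

open CategoryTheory CategoryTheory.Limits AlgebraicGeometry Opposite IsLocalRing

namespace K868.Bc

open Groth.Agent.Etrest.StrictLoc Groth.Agent.Sga1.UlaSL

/-- Good pairs after a generic finite cover. -/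
def Geo : Prop :=
  ∀ {R B : Type u} [CommRing R] [IsDomain R] (_ : Algebra.FiniteType ℤ R) [CommRing B] [Algebra R B]
    [Algebra.FiniteType R B] (V : (Spec (CommRingCat.of B)).Opens),
    ∃ (U : (Spec (CommRingCat.of R)).Opens) (_ : (U : Set (Spec (CommRingCat.of R))).Nonempty) (S₁ X₁ : Scheme.{u})
      (a : S₁ ⟶ (U : Scheme.{u}))
      (p : X₁ ⟶ ((spm (algebraMap R B) ⁻¹ᵁ U : (Spec (CommRingCat.of B)).Opens) : Scheme.{u}))
      (g₁ : X₁ ⟶ S₁), LocallyOfFiniteType a ∧ IsFinite p ∧ p ≫ (spm (algebraMap R B) ∣_ U) = g₁ ≫ a ∧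
      (∀ x, (spm (algebraMap R B) ⁻¹ᵁ U).ι x ∈ V → x ∈ Set.range p) ∧
      GoodPair g₁ (p ⁻¹ᵁ ((spm (algebraMap R B) ⁻¹ᵁ U).ι ⁻¹ᵁ V))

/-- Full faithfulness over normal bases. -/
def FFNor : Prop :=
  ∀ (n : ℕ) {X S : Scheme.{u}} (g : X ⟶ S) (V : X.Opens) (_ : FTZ S) (_ : GoodPair g V), FFnor n V.ι g

theorem isNoetherian_of_open {U X : Scheme.{u}} (j : U ⟶ X) [IsOpenImmersion j] [AlgebraicGeometry.IsNoetherian X] :
    AlgebraicGeometry.IsNoetherian U := by
  have h1 : IsLocallyNoetherian U := isLocallyNoetherian_of_isOpenImmersion j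
  have h2 : TopologicalSpace.NoetherianSpace U := j.isOpenEmbedding.isInducing.noetherianSpace
  exact { toIsLocallyNoetherian := h1, toCompactSpace := inferInstance }

theorem isNoetherian_of_lft {U X : Scheme.{u}} (j : U ⟶ X) [LocallyOfFiniteType j] [QuasiCompact j]
    [AlgebraicGeometry.IsNoetherian X] : AlgebraicGeometry.IsNoetherian U := by
  have h1 : IsLocallyNoetherian U := LocallyOfFiniteType.isLocallyNoetherian j
  have h2 : CompactSpace U := QuasiCompact.compactSpace_of_compactSpace j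
  exact { toIsLocallyNoetherian := h1, toCompactSpace := h2 }

section Affine

variable {S : Scheme.{u}} [IsLocallyNoetherian S] {η : S}

/-- Reduction to the affine case. -/
theorem gFaith_of_affine
    (h : ∀ (X Y : Scheme.{u}) (f : X ⟶ Y) (b : Y ⟶ S) [IsAffine X] [IsAffine Y] [LocallyOfFiniteType f]
      [LocallyOfFiniteType b], GFaith η f b)
    {X Y : Scheme.{u}} (f : X ⟶ Y) (b : Y ⟶ S) [LocallyOfFiniteType f] [LocallyOfFiniteType b]
    [AlgebraicGeometry.IsNoetherian X] [AlgebraicGeometry.IsNoetherian Y] : GFaith η f b := by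
  obtain ⟨J, _, Y', _, i, _, hi⟩ := exists_affine_cover Y
  refine gFaith_of_local i hi (fun j => pullback.fst f (i j)) (fun j => pullback.snd f (i j))
    (fun j => IsPullback.of_hasPullback _ _) (fun j => ?_)
  have hX : AlgebraicGeometry.IsNoetherian (pullback f (i j)) := isNoetherian_of_open (pullback.fst f (i j))
  obtain ⟨J', _, X', _, i', _, hi'⟩ := exists_affine_cover (pullback f (i j))
  refine gFaith_of_cover i' hi' (fun k => ?_)
  exact h _ _ (i' k ≫ pullback.snd f (i j)) (i j ≫ b)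

/-- Reduction to the affine case. -/
theorem gFF_of_affine
    (h : ∀ (X Y : Scheme.{u}) (f : X ⟶ Y) (b : Y ⟶ S) [IsAffine X] [IsAffine Y] [LocallyOfFiniteType f]
      [LocallyOfFiniteType b], GFF η f b)
    (h' : ∀ (X Y : Scheme.{u}) (f : X ⟶ Y) (b : Y ⟶ S) [IsAffine X] [IsAffine Y] [LocallyOfFiniteType f]
      [LocallyOfFiniteType b], GFaith η f b)
    {X Y : Scheme.{u}} (f : X ⟶ Y) (b : Y ⟶ S) [LocallyOfFiniteType f] [LocallyOfFiniteType b]
    [AlgebraicGeometry.IsNoetherian X] [AlgebraicGeometry.IsNoetherian Y] : GFF η f b := by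
  obtain ⟨J, _, Y', _, i, _, hi⟩ := exists_affine_cover Y
  refine gFF_of_local i hi (fun j => pullback.fst f (i j)) (fun j => pullback.snd f (i j))
    (fun j => IsPullback.of_hasPullback _ _) (fun j => ?_)
  have hX : AlgebraicGeometry.IsNoetherian (pullback f (i j)) := isNoetherian_of_open (pullback.fst f (i j))
  have hY : AlgebraicGeometry.IsNoetherian (Y' j) := isNoetherian_of_open (i j)
  obtain ⟨J', _, X', _, i', _, hi'⟩ := exists_affine_cover (pullback f (i j))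
  refine gFF_of_cover i' hi' (fun k => h _ _ (i' k ≫ pullback.snd f (i j)) (i j ≫ b)) (fun k l => ?_)
  have h1 : AlgebraicGeometry.IsNoetherian (X' k) := isNoetherian_of_open (i' k)
  have h2 : AlgebraicGeometry.IsNoetherian (pullback (i' k) (i' l)) :=
    isNoetherian_of_open (pullback.fst (i' k) (i' l))
  exact gFaith_of_affine h' _ _

end Affine


/-! ### The chain of reductions over an open subset -/

section Chain

variable {U X S₁ X₁ : Scheme.{u}} {b : X ⟶ U} {a : S₁ ⟶ U} {p : X₁ ⟶ X} {g₁ : X₁ ⟶ S₁} [IsFinite p]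
  (hcomm : p ≫ b = g₁ ≫ a) (V : X.Opens) (hsurj : ∀ x ∈ V, x ∈ Set.range p) [IsLocallyNoetherian X]

include hsurj in
omit [IsLocallyNoetherian X] [IsFinite p] in
theorem surjective_restrict : Surjective (p ∣_ V) := by
  refine ⟨fun v => ?_⟩
  obtain ⟨y, hy⟩ := hsurj (V.ι v) v.2
  obtain ⟨z, hz, -⟩ := Scheme.exists_preimage_of_isPullback (isPullback_morphismRestrict p V) v y hy.symm
  exact ⟨z, hz⟩

include hcomm hsurj in
/-- Faithfulness from a good pair. -/
theorem faith_of_chain (h : Faith (p ⁻¹ᵁ V).ι g₁) : Faith V.ι b := by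
  have hX₁ : IsLocallyNoetherian X₁ := LocallyOfFiniteType.isLocallyNoetherian p
  have hs := surjective_restrict V hsurj
  have h1 : FaithOn Set.univ (p ⁻¹ᵁ V).ι (g₁ ≫ a) := faithOn_of_base ((faith_iff _ _).1 h)
  rw [← hcomm] at h1
  have h2 : Faith ((p ⁻¹ᵁ V).ι ≫ p) b := faith_of_proper _ p b ((faith_iff _ _).2 h1)
  have h3 : (p ⁻¹ᵁ V).ι ≫ p = (p ∣_ V) ≫ V.ι := (isPullback_morphismRestrict p V).w.symm
  rw [h3] at h2
  exact faith_of_surj _ _ _ h2

include hcomm hsurj in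
/-- Full faithfulness from a good pair. -/
theorem ffOn_of_chain {n : ℕ} {U' : Set U} (h : Faith (p ⁻¹ᵁ V).ι g₁) (h' : FF n (p ⁻¹ᵁ V).ι g₁)
    (h₂ : FaithOn U' ((pullback.fst (p ∣_ V) (p ∣_ V) ≫ (p ∣_ V)) ≫ V.ι) b) : FFOn n U' V.ι b := by
  have hX₁ : IsLocallyNoetherian X₁ := LocallyOfFiniteType.isLocallyNoetherian p
  have hs := surjective_restrict V hsurj
  have h0 : FaithOn Set.univ (p ⁻¹ᵁ V).ι (g₁ ≫ a) := faithOn_of_base ((faith_iff _ _).1 h)
  have h1 : FFOn n Set.univ (p ⁻¹ᵁ V).ι (g₁ ≫ a) := ffOn_of_base ((ff_iff _ _ _).1 h') ((faith_iff _ _).1 h)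
  rw [← hcomm] at h1 h0
  have h2 : FF n ((p ⁻¹ᵁ V).ι ≫ p) b := ff_of_proper _ p b n ((ff_iff _ _ _).2 h1) ((faith_iff _ _).2 h0)
  have h3 : (p ⁻¹ᵁ V).ι ≫ p = (p ∣_ V) ≫ V.ι := (isPullback_morphismRestrict p V).w.symm
  rw [h3] at h2
  have hf : IsFinite (p ∣_ V) := inferInstance
  exact ffOn_of_desc _ _ _ n U' (univSubmersive_of_closed _) (((ff_iff _ _ _).1 h2).mono (Set.subset_univ _)) h₂

end Chain

/-! ### Open immersions into affine schemes -/

section Open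

variable {R : Type u} [CommRing R] [IsDomain R]

theorem ftz_of_lft (hR : Algebra.FiniteType ℤ R) {S₁ : Scheme.{u}} (q : S₁ ⟶ Spec (CommRingCat.of R))
    [LocallyOfFiniteType q] : FTZ S₁ := by
  intro W hW
  have h1 : (q.appLE ⊤ W (by simp)).hom.FiniteType :=
    LocallyOfFiniteType.finiteType_appLE (f := q) (isAffineOpen_top _) hW _
  have h2 : (Scheme.ΓSpecIso (CommRingCat.of R)).inv.hom.FiniteType :=
    RingHom.FiniteType.of_surjective _ (ConcreteCategory.bijective_of_isIso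
      (Scheme.ΓSpecIso (CommRingCat.of R)).inv).2
  have h3 : (Int.castRingHom R).FiniteType := by
    rw [← RingHom.finiteType_algebraMap (A := ℤ) (B := R)] at hR
    convert hR
    exact Subsingleton.elim _ _
  have h4 := (h1.comp h2).comp h3
  rw [← RingHom.finiteType_algebraMap]
  convert h4
  exact Subsingleton.elim _ _

/-- `FaithOn` over an open subscheme of the base. -/
theorem faithOn_comp_ι {X Y S : Scheme.{u}} {U : S.Opens} {f : X ⟶ Y} {b : Y ⟶ (U : Scheme.{u})} {U₂ : Set S}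
    (h : FaithOn U₂ f (b ≫ U.ι)) : FaithOn (U.ι ⁻¹' U₂) f b :=
  faithOn_bc (f := f) (b := b ≫ U.ι) (f' := f) (b' := b) (x' := 𝟙 _) (y := 𝟙 _) (s := U.ι)
    (IsPullback.of_horiz_isIso_mono ⟨by simp⟩) (IsPullback.of_horiz_isIso ⟨by simp⟩) h

theorem faith_open (hgeo : Geo.{u}) (hR : Algebra.FiniteType ℤ R) {B : Type u} [CommRing B] [Algebra R B]
    [Algebra.FiniteType R B] (V : (Spec (CommRingCat.of B)).Opens) :
    ∃ U : (Spec (CommRingCat.of R)).Opens, (U : Set (Spec (CommRingCat.of R))).Nonempty ∧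
      FaithOn (U : Set (Spec (CommRingCat.of R))) V.ι (spm (algebraMap R B)) := by
  obtain ⟨U, hU, S₁, X₁, a, p, g₁, ha, hp, hcomm, hsurj, hgood⟩ := hgeo hR V
  have hNR : IsNoetherianRing R := Algebra.FiniteType.isNoetherianRing ℤ R
  have hNB : IsNoetherianRing B := Algebra.FiniteType.isNoetherianRing R B
  have hX₁ : IsLocallyNoetherian X₁ := LocallyOfFiniteType.isLocallyNoetherian p
  refine ⟨U, hU, ?_⟩
  have h1 := faith_of_chain hcomm ((spm (algebraMap R B) ⁻¹ᵁ U).ι ⁻¹ᵁ V) hsurj (faith_of_goodPair g₁ _ hgood)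
  have h2 := faithOn_of_open (isPullback_morphismRestrict (spm (algebraMap R B)) U).flip
    (isPullback_morphismRestrict (spm (algebraMap R B) ⁻¹ᵁ U).ι V) ((faith_iff _ _).1 h1)
  refine h2.mono ?_
  intro z hz
  exact ⟨⟨z, hz⟩, trivial, rfl⟩

/-- The generic point. -/
def gp (R : Type u) [CommRing R] [IsDomain R] : Spec (CommRingCat.of R) := (⊥ : PrimeSpectrum R)

theorem gp_mem {U : Set (Spec (CommRingCat.of R))} (hU : IsOpen U) (h : U.Nonempty) : gp R ∈ U := by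
  obtain ⟨x, hx⟩ := h
  have h1 : gp R ⤳ x := (PrimeSpectrum.le_iff_specializes (⊥ : PrimeSpectrum R) x).1 bot_le
  exact h1.mem_open hU hx

/-- Affine schemes over `Spec R`. -/
theorem exists_chart {X Z : Scheme.{u}} [IsAffine Z] (j : X ⟶ Z) [IsOpenImmersion j]
    (b : Z ⟶ Spec (CommRingCat.of R)) [LocallyOfFiniteType b] :
    ∃ (B : Type u) (_ : CommRing B) (_ : Algebra R B) (_ : Algebra.FiniteType R B)
      (V : (Spec (CommRingCat.of B)).Opens) (y : Z ⟶ Spec (CommRingCat.of B))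
      (x' : X ⟶ (V : Scheme.{u})), IsPullback y b (spm (algebraMap R B)) (𝟙 _) ∧ IsPullback x' j V.ι y := by
  let φ : R →+* Γ(Z, ⊤) := (Spec.preimage (Z.isoSpec.inv ≫ b)).hom
  have hφ : spm φ = Z.isoSpec.inv ≫ b := Spec.map_preimage _
  let _ : Algebra R Γ(Z, ⊤) := φ.toAlgebra
  have h1 : spm (algebraMap R Γ(Z, ⊤)) = Z.isoSpec.inv ≫ b := hφ
  have hft : Algebra.FiniteType R Γ(Z, ⊤) := by
    have h2 : LocallyOfFiniteType (spm (algebraMap R Γ(Z, ⊤))) := by rw [h1]; infer_instance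
    exact RingHom.finiteType_algebraMap.1 ((HasRingHomProperty.Spec_iff (P := @LocallyOfFiniteType)).1 h2)
  let y : Z ⟶ Spec (CommRingCat.of Γ(Z, ⊤)) := Z.isoSpec.hom
  have hy : IsIso y := inferInstanceAs (IsIso Z.isoSpec.hom)
  have hyb : y ≫ spm (algebraMap R Γ(Z, ⊤)) = b := by
    rw [h1]
    show Z.isoSpec.hom ≫ Z.isoSpec.inv ≫ b = b
    rw [Iso.hom_inv_id_assoc]
  let V : (Spec (CommRingCat.of Γ(Z, ⊤))).Opens := (j ≫ y).opensRange
  let e : X ≅ (V : Scheme.{u}) := IsOpenImmersion.isoOfRangeEq (j ≫ y) V.ι (by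
    rw [Scheme.Opens.range_ι]; rfl)
  have he : e.hom ≫ V.ι = j ≫ y := IsOpenImmersion.isoOfRangeEq_hom_fac _ _ _
  exact ⟨Γ(Z, ⊤), inferInstance, inferInstance, hft, V, y, e.hom,
    IsPullback.of_horiz_isIso ⟨by rw [hyb, Category.comp_id]⟩, IsPullback.of_horiz_isIso ⟨he⟩⟩

theorem gFaith_open (hgeo : Geo.{u}) (hR : Algebra.FiniteType ℤ R) {X Z : Scheme.{u}} [IsAffine Z] (j : X ⟶ Z)
    [IsOpenImmersion j] (b : Z ⟶ Spec (CommRingCat.of R)) [LocallyOfFiniteType b] : GFaith (gp R) j b := by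
  obtain ⟨B, _, _, _, V, y, x', h1, h2⟩ := exists_chart j b
  obtain ⟨U, hU, h3⟩ := faith_open hgeo hR V
  exact ⟨U, gp_mem U.isOpen hU, faithOn_bc h1 h2 h3⟩

theorem gFaith_nagata (hgeo : Geo.{u}) (hR : Algebra.FiniteType ℤ R) (X Y : Scheme.{u}) (f : X ⟶ Y)
    (b : Y ⟶ Spec (CommRingCat.of R)) [IsAffine X] [IsAffine Y] [LocallyOfFiniteType f] [LocallyOfFiniteType b] :
    ∃ (Z : Scheme.{u}) (j : X ⟶ Z) (g : Z ⟶ Y), IsOpenImmersion j ∧ QuasiCompact j ∧ IsProper g ∧ j ≫ g = f ∧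
      AlgebraicGeometry.IsNoetherian Z ∧ GFaith (gp R) j (g ≫ b) := by
  have hNR : IsNoetherianRing R := Algebra.FiniteType.isNoetherianRing ℤ R
  have hY : AlgebraicGeometry.IsNoetherian Y := isNoetherian_of_lft b
  obtain ⟨Z, j, g, hj, hjq, hg, hjg⟩ := Groth.Agent.S0384.result f
  have hZ : AlgebraicGeometry.IsNoetherian Z := isNoetherian_of_lft g
  refine ⟨Z, j, g, hj, hjq, hg, hjg, hZ, ?_⟩
  obtain ⟨J, _, Z', _, i, _, hi⟩ := exists_affine_cover Z
  exact gFaith_of_local i hi (fun k => pullback.fst j (i k)) (fun k => pullback.snd j (i k))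
    (fun k => IsPullback.of_hasPullback _ _)
    (fun k => gFaith_open hgeo hR (pullback.snd j (i k)) (i k ≫ g ≫ b))

/-- **Generic faithfulness** over an integral base of finite type over the integers. -/
theorem gFaith_all (hgeo : Geo.{u}) (hR : Algebra.FiniteType ℤ R) {X Y : Scheme.{u}} (f : X ⟶ Y)
    (b : Y ⟶ Spec (CommRingCat.of R)) [LocallyOfFiniteType f] [LocallyOfFiniteType b]
    [AlgebraicGeometry.IsNoetherian X] [AlgebraicGeometry.IsNoetherian Y] : GFaith (gp R) f b := by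
  have hNR : IsNoetherianRing R := Algebra.FiniteType.isNoetherianRing ℤ R
  refine gFaith_of_affine (fun X Y f b _ _ _ _ => ?_) f b
  obtain ⟨Z, j, g, hj, hjq, hg, rfl, hZ, U, hU, h⟩ := gFaith_nagata hgeo hR X Y f b
  exact ⟨U, hU, faithOn_of_proper j g b h⟩

theorem exists_faith_double (hgeo : Geo.{u}) (hR : Algebra.FiniteType ℤ R) {U : (Spec (CommRingCat.of R)).Opens}
    {X X₁ : Scheme.{u}} [AlgebraicGeometry.IsNoetherian X] (b : X ⟶ (U : Scheme.{u})) [LocallyOfFiniteType b]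
    (p : X₁ ⟶ X) [IsFinite p] (V : X.Opens) :
    ∃ U₂ : (Spec (CommRingCat.of R)).Opens, gp R ∈ U₂ ∧
      FaithOn (U.ι ⁻¹' U₂) ((pullback.fst (p ∣_ V) (p ∣_ V) ≫ (p ∣_ V)) ≫ V.ι) b := by
  have hNV : AlgebraicGeometry.IsNoetherian (V : Scheme.{u}) := isNoetherian_of_open V.ι
  have hpf : IsFinite (p ∣_ V) := inferInstance
  have hN2 : AlgebraicGeometry.IsNoetherian (pullback (p ∣_ V) (p ∣_ V)) :=
    isNoetherian_of_lft (pullback.fst (p ∣_ V) (p ∣_ V) ≫ (p ∣_ V))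
  obtain ⟨U₂, hU₂, h2⟩ := gFaith_all hgeo hR ((pullback.fst (p ∣_ V) (p ∣_ V) ≫ (p ∣_ V)) ≫ V.ι)
    (b ≫ U.ι)
  exact ⟨U₂, hU₂, faithOn_comp_ι h2⟩

theorem gFF_open (hgeo : Geo.{u}) (hnor : FFNor.{u}) (hR : Algebra.FiniteType ℤ R) {B : Type u} [CommRing B]
    [Algebra R B] [Algebra.FiniteType R B] (V : (Spec (CommRingCat.of B)).Opens) :
    ∃ U : (Spec (CommRingCat.of R)).Opens, gp R ∈ U ∧
      ∀ n, FFOn n (U : Set (Spec (CommRingCat.of R))) V.ι (spm (algebraMap R B)) := by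
  obtain ⟨U, hU, S₁, X₁, a, p, g₁, ha, hp, hcomm, hsurj, hgood⟩ := hgeo hR V
  have hNR : IsNoetherianRing R := Algebra.FiniteType.isNoetherianRing ℤ R
  have hNB : IsNoetherianRing B := Algebra.FiniteType.isNoetherianRing R B
  have hX₁ : IsLocallyNoetherian X₁ := LocallyOfFiniteType.isLocallyNoetherian p
  have hS₁ : FTZ S₁ := ftz_of_lft hR (a ≫ U.ι)
  have hf := faith_of_goodPair g₁ _ hgood
  have hff : ∀ n, FF n (p ⁻¹ᵁ ((spm (algebraMap R B) ⁻¹ᵁ U).ι ⁻¹ᵁ V)).ι g₁ := fun n =>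
    K945.LimNor.ff_of_nor' hS₁ _ g₁ hf (hnor n g₁ _ hS₁ hgood)
  have hNX : AlgebraicGeometry.IsNoetherian ((spm (algebraMap R B) ⁻¹ᵁ U : (Spec (CommRingCat.of B)).Opens) : Scheme.{u}) :=
    isNoetherian_of_open (spm (algebraMap R B) ⁻¹ᵁ U).ι
  have hsl : LocallyOfFiniteType (spm (algebraMap R B)) :=
    (HasRingHomProperty.Spec_iff (P := @LocallyOfFiniteType)).2 (RingHom.finiteType_algebraMap.2 inferInstance)
  obtain ⟨U₂, hU₂, h3⟩ := exists_faith_double hgeo hR (spm (algebraMap R B) ∣_ U) p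
    ((spm (algebraMap R B) ⁻¹ᵁ U).ι ⁻¹ᵁ V)
  refine ⟨U ⊓ U₂, ⟨gp_mem U.isOpen hU, hU₂⟩, fun n => ?_⟩
  have h4 := ffOn_of_chain hcomm ((spm (algebraMap R B) ⁻¹ᵁ U).ι ⁻¹ᵁ V) hsurj hf (hff n) h3
  have h5 := ffOn_of_open (isPullback_morphismRestrict (spm (algebraMap R B)) U).flip
    (isPullback_morphismRestrict (spm (algebraMap R B) ⁻¹ᵁ U).ι V) h4
  refine h5.mono ?_
  rintro z ⟨hz, hz2⟩
  exact ⟨⟨z, hz⟩, hz2, rfl⟩

/-- **Generic full faithfulness** over an integral base of finite type over the integers. -/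
theorem gFF_all (hgeo : Geo.{u}) (hnor : FFNor.{u}) (hR : Algebra.FiniteType ℤ R) {X Y : Scheme.{u}} (f : X ⟶ Y)
    (b : Y ⟶ Spec (CommRingCat.of R)) [LocallyOfFiniteType f] [LocallyOfFiniteType b]
    [AlgebraicGeometry.IsNoetherian X] [AlgebraicGeometry.IsNoetherian Y] : GFF (gp R) f b := by
  have hNR : IsNoetherianRing R := Algebra.FiniteType.isNoetherianRing ℤ R
  refine gFF_of_affine (fun X Y f b _ _ _ _ => ?_) (fun X Y f b _ _ _ _ => ?_) f b
  · obtain ⟨Z, j, g, hj, hjq, hg, rfl, hZ, U, hU, h⟩ := gFaith_nagata hgeo hR X Y f b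
    have h1 : GFF (gp R) j (g ≫ b) := by
      obtain ⟨J, _, Z', _, i, _, hi⟩ := exists_affine_cover Z
      refine gFF_of_local i hi (fun k => pullback.fst j (i k)) (fun k => pullback.snd j (i k))
        (fun k => IsPullback.of_hasPullback _ _) (fun k => ?_)
      obtain ⟨B, _, _, _, V, y, x', h1, h2⟩ := exists_chart (pullback.snd j (i k)) (i k ≫ g ≫ b)
      obtain ⟨U, hU, h3⟩ := gFF_open hgeo hnor hR V
      exact ⟨U, hU, fun n => ffOn_bc h1 h2 (h3 n)⟩
    obtain ⟨U₁, hU₁, h2⟩ := h1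
    refine ⟨U ⊓ U₁, ⟨hU, hU₁⟩, fun n => ffOn_of_proper j g b n ((h2 n).mono fun z hz => hz.2)
      (h.mono fun z hz => hz.1)⟩
  · have hY : AlgebraicGeometry.IsNoetherian Y := isNoetherian_of_lft b
    have hX : AlgebraicGeometry.IsNoetherian X := isNoetherian_of_lft f
    exact gFaith_all hgeo hR f b

end Open

end K868.Bc
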