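import Mathlib.AlgebraicGeometry.Morphisms.FlatMono
import Mathlib.AlgebraicGeometry.Morphisms.UniversallyInjective
import Mathlib.AlgebraicGeometry.Morphisms.Etale
import Mathlib.AlgebraicGeometry.Morphisms.Finite
import Mathlib.FieldTheory.IsAlgClosed.AlgebraicClosure

/-! # Geometric points and étale morphisms -/

set_option autoImplicit false

universe u

open CategoryTheory CategoryTheory.Limits AlgebraicGeometry

namespace K868.GeomLem

/-- the geometric point at a point -/
noncomputable def gpt {X : Scheme.{u}} (x : X) :
    Spec (CommRingCat.of (AlgebraicClosure (X.residueField x))) ⟶ X :=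
  Spec.map (CommRingCat.ofHom (algebraMap (X.residueField x)
    (AlgebraicClosure (X.residueField x)))) ≫ X.fromSpecResidueField x

lemma gpt_apply {X : Scheme.{u}} (x : X)
    (z : Spec (CommRingCat.of (AlgebraicClosure (X.residueField x)))) : gpt x z = x := by
  change X.fromSpecResidueField x _ = x
  rw [Scheme.fromSpecResidueField_apply]

/-- A property of points can be tested on geometric points. -/
lemma range_subset_of_geom {T B : Scheme.{u}} (g : T ⟶ B) (W : Set B)
    (h : ∀ (K : Type u) [Field K] [IsAlgClosed K] (t : Spec (CommRingCat.of K) ⟶ T),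
      (t ≫ g) (IsLocalRing.closedPoint K) ∈ W) : Set.range g ⊆ W := by
  rintro _ ⟨t, rfl⟩
  have h1 := h (AlgebraicClosure (T.residueField t)) (gpt t)
  rw [Scheme.Hom.comp_apply, gpt_apply] at h1
  exact h1

/-- Two morphisms into an étale separated scheme which agree on geometric points are equal. -/
theorem eq_of_geom {T A X : Scheme.{u}} (f : A ⟶ X) [Etale f] (u v : T ⟶ A)
    (huv : u ≫ f = v ≫ f)
    (h : ∀ (K : Type u) [Field K] [IsAlgClosed K] (t : Spec (CommRingCat.of K) ⟶ T), t ≫ u = t ≫ v) :
    u = v := by
  let g : T ⟶ pullback f f := pullback.lift u v huv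
  have h1 : Set.range g ⊆ Set.range (pullback.diagonal f) := by
    apply range_subset_of_geom
    intro K _ _ t
    have : t ≫ g = (t ≫ u) ≫ pullback.diagonal f := by
      apply pullback.hom_ext
      · rw [Category.assoc, pullback.lift_fst, Category.assoc, pullback.diagonal_fst, Category.comp_id]
      · rw [Category.assoc, pullback.lift_snd, Category.assoc, pullback.diagonal_snd, Category.comp_id,
          h]
    rw [this, Scheme.Hom.comp_apply]
    exact ⟨_, rfl⟩
  let l := IsOpenImmersion.lift (pullback.diagonal f) g h1
  have hl : l ≫ pullback.diagonal f = g := IsOpenImmersion.lift_fac _ _ _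
  have h2 : u = l := by
    rw [← pullback.lift_fst u v huv, ← Category.comp_id l, ← pullback.diagonal_fst f, ← Category.assoc, hl]
  have h3 : v = l := by
    rw [← pullback.lift_snd u v huv, ← Category.comp_id l, ← pullback.diagonal_snd f, ← Category.assoc, hl]
  rw [h2, h3]

/-- An étale morphism which is bijective on geometric points is an isomorphism. -/
theorem isIso_of_geom {W A : Scheme.{u}} (h : W ⟶ A) [Etale h]
    (hb : ∀ (K : Type u) [Field K] [IsAlgClosed K] (y : Spec (CommRingCat.of K) ⟶ A),
      ∃! w : Spec (CommRingCat.of K) ⟶ W, w ≫ h = y) : IsIso h := by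
  have hs : Surjective h := by
    refine ⟨fun a => ?_⟩
    obtain ⟨w, hw, -⟩ := hb _ (gpt a)
    refine ⟨w (IsLocalRing.closedPoint _), ?_⟩
    rw [← Scheme.Hom.comp_apply, hw, gpt_apply]
  have hu : UniversallyInjective h := by
    refine ((tfae_universallyInjective h).out 0 1).mpr ?_
    intro K _ g₁ g₂ hg
    let e : Spec (CommRingCat.of (AlgebraicClosure K)) ⟶ Spec (CommRingCat.of K) :=
      Spec.map (CommRingCat.ofHom (algebraMap K (AlgebraicClosure K)))
    have hfl : Flat e := by
      rw [HasRingHomProperty.Spec_iff (P := @Flat)]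
      exact (RingHom.flat_algebraMap_iff (R := K) (S := AlgebraicClosure K)).2 inferInstance
    have hsu : Surjective e := ⟨fun x => ⟨IsLocalRing.closedPoint _, Subsingleton.elim (α := PrimeSpectrum K) _ _⟩⟩
    have hepi : Epi e := Flat.epi_of_flat_of_surjective e
    rw [← cancel_epi e]
    have hg' : g₁ ≫ h = g₂ ≫ h := hg
    refine (hb (AlgebraicClosure K) (e ≫ g₁ ≫ h)).unique (Category.assoc _ _ _) ?_
    rw [hg', Category.assoc]
  have h1 : Surjective (pullback.diagonal h) := (UniversallyInjective.iff_diagonal h).mp inferInstance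
  have h2 : IsOpenImmersion (pullback.diagonal h) := inferInstance
  have h3 : IsIso (pullback.diagonal h) :=
    (isIso_iff_isOpenImmersion_and_surjective (pullback.diagonal h)).mpr ⟨inferInstance, inferInstance⟩
  have h4 : Mono h := (pullback.isIso_diagonal_iff h).mp h3
  have h5 : IsOpenImmersion h := IsOpenImmersion.of_flat_of_mono h
  exact (isIso_iff_isOpenImmersion_and_surjective h).mpr ⟨inferInstance, inferInstance⟩

end K868.GeomLem
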