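import Groth.Agent.Pi1.K868.BcDesc
import Groth.Agent.EtAcyc.K548.StrictPts
import Groth.Agent.Sga1.UlaLoc
import Groth.Agent.Etbc.H192.Glue

/-!
# Full faithfulness for principal covers: base change and localization

* `ffAt_bc`, `faithAt_bc`: base change.
* `ffAt_of_local`, `faithAt_of_local`: locality on `Y`.
* `ffAt_of_cover`, `faithAt_of_cover`: locality on `X` (Zariski).
* `ffOn_of_base`, `faithOn_of_base`: composition of the structure morphism with an arbitrary morphism.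
-/

set_option autoImplicit false
universe u

open CategoryTheory CategoryTheory.Limits AlgebraicGeometry Opposite IsLocalRing

namespace K868.Bc

open Groth.Agent.Etrest.StrictLoc Groth.Agent.Sga1.UlaSL

section BC

variable {X Y S X' Y' S' : Scheme.{u}} {f : X ⟶ Y} {b : Y ⟶ S} {f' : X' ⟶ Y'} {b' : Y' ⟶ S'} {x' : X' ⟶ X}
  {y : Y' ⟶ Y} {s : S' ⟶ S} (hy : IsPullback y b' b s) (hx : IsPullback x' f' f y) {O : Type u} [CommRing O]
  [IsLocalRing O] {t' : Spec (CommRingCat.of O) ⟶ S'}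

include hy hx

theorem faithAt_bc (h : FaithAt f b O (t' ≫ s)) : FaithAt f' b' O t' := by
  intro A _ _ Y₁ c b₁ sq₁ σ hσ hcl XA x fA sqA
  refine h A (c ≫ y) b₁ (sq₁.paste_horiz hy) σ hσ hcl (x ≫ x') fA ?_
  rw [← Category.assoc]
  exact sqA.paste_horiz hx

theorem ffAt_bc {n : ℕ} (h : FFAt n f b O (t' ≫ s)) : FFAt n f' b' O t' := by
  intro A _ _ Y₁ c b₁ sq₁ σ hσ hcl XA x fA sqA G _ _ hG P ρ hρ
  refine h A (c ≫ y) b₁ (sq₁.paste_horiz hy) σ hσ hcl (x ≫ x') fA ?_ G hG P ρ hρ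
  rw [← Category.assoc]
  exact sqA.paste_horiz hx

omit [IsLocalRing O] in
theorem faithOn_bc {U : Set S} (h : FaithOn U f b) : FaithOn (s ⁻¹' U) f' b' :=
  fun O _ _ hO hk t ht => faithAt_bc hy hx (h O hO hk (t ≫ s) (by rw [Scheme.Hom.comp_apply]; exact ht))

omit [IsLocalRing O] in
theorem ffOn_bc {n : ℕ} {U : Set S} (h : FFOn n U f b) : FFOn n (s ⁻¹' U) f' b' :=
  fun O _ _ hO hk hn t ht => ffAt_bc hy hx (h O hO hk hn (t ≫ s) (by rw [Scheme.Hom.comp_apply]; exact ht))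

end BC

section Local

variable {X Y S : Scheme.{u}} {f : X ⟶ Y} {b : Y ⟶ S} {O : Type u} [CommRing O]
  [IsLocalRing O] {t : Spec (CommRingCat.of O) ⟶ S}

theorem ffAt_of_local {n : ℕ} (h : ∀ y : Y, ∃ (Y' X' : Scheme.{u}) (i : Y' ⟶ Y) (_ : IsOpenImmersion i) (x' : X' ⟶ X)
    (f' : X' ⟶ Y'), y ∈ Set.range i ∧ IsPullback x' f' f i ∧ FFAt n f' (i ≫ b) O t) : FFAt n f b O t := by
  intro A _ _ Y₁ c b₁ sq₁ σ hσ hcl XA x fA sqA G _ _ hG P ρ hρ
  obtain ⟨Y', X', i, hi, x', f', hy, sqi, hf'⟩ := h (c (σ (closedPoint A)))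
  have sqc : IsPullback (pullback.fst i c) (pullback.snd i c) i c := IsPullback.of_hasPullback i c
  have hoi : IsOpenImmersion (pullback.snd i c) := inferInstance
  obtain ⟨σ', hσ'⟩ := Groth.Agent.Etbc.H192.Glue.exists_lift (pullback.snd i c) σ (by
    obtain ⟨y', hy'⟩ := hy
    obtain ⟨w, -, hw⟩ := Scheme.Pullback.exists_preimage_pullback (f := i) (g := c) y'
      (σ (closedPoint A)) hy'
    exact ⟨w, hw⟩)
  have hσs : IsStrictLoc σ' := by
    rw [← hσ'] at hσ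
    exact hσ.of_comp (pullback.snd i c)
  have e1 : x ≫ f = (fA ≫ σ' ≫ pullback.fst i c) ≫ i := by
    rw [sqA.w, ← hσ']
    simp only [Category.assoc]
    rw [pullback.condition]
  let x₁ : XA ⟶ X' := sqi.lift x (fA ≫ σ' ≫ pullback.fst i c) e1
  have hx1 : x₁ ≫ x' = x := sqi.lift_fst _ _ _
  have hx2 : x₁ ≫ f' = fA ≫ σ' ≫ pullback.fst i c := sqi.lift_snd _ _ _
  have sqA' : IsPullback x₁ fA f' (σ' ≫ pullback.fst i c) := by
    refine IsPullback.of_right (h₁₂ := x') (v₁₃ := f) (h₂₂ := i) ?_ hx2 sqi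
    rw [hx1, Category.assoc, pullback.condition, ← Category.assoc, hσ']
    exact sqA
  have h1 := hf' A (pullback.fst i c) (pullback.snd i c ≫ b₁) (sqc.paste_vert sq₁) σ' hσs (by
    rw [Scheme.Hom.comp_apply, ← hcl, ← hσ', Scheme.Hom.comp_apply]) x₁ fA sqA' G hG P ρ hρ
  rw [← Category.assoc σ', hσ'] at h1
  exact h1

theorem faithAt_of_local (h : ∀ y : Y, ∃ (Y' X' : Scheme.{u}) (i : Y' ⟶ Y) (_ : IsOpenImmersion i) (x' : X' ⟶ X)
    (f' : X' ⟶ Y'), y ∈ Set.range i ∧ IsPullback x' f' f i ∧ FaithAt f' (i ≫ b) O t) : FaithAt f b O t := by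
  intro A _ _ Y₁ c b₁ sq₁ σ hσ hcl XA x fA sqA
  obtain ⟨Y', X', i, hi, x', f', hy, sqi, hf'⟩ := h (c (σ (closedPoint A)))
  have sqc : IsPullback (pullback.fst i c) (pullback.snd i c) i c := IsPullback.of_hasPullback i c
  have hoi : IsOpenImmersion (pullback.snd i c) := inferInstance
  obtain ⟨σ', hσ'⟩ := Groth.Agent.Etbc.H192.Glue.exists_lift (pullback.snd i c) σ (by
    obtain ⟨y', hy'⟩ := hy
    obtain ⟨w, -, hw⟩ := Scheme.Pullback.exists_preimage_pullback (f := i) (g := c) y'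
      (σ (closedPoint A)) hy'
    exact ⟨w, hw⟩)
  have hσs : IsStrictLoc σ' := by
    rw [← hσ'] at hσ
    exact hσ.of_comp (pullback.snd i c)
  have e1 : x ≫ f = (fA ≫ σ' ≫ pullback.fst i c) ≫ i := by
    rw [sqA.w, ← hσ']
    simp only [Category.assoc]
    rw [pullback.condition]
  let x₁ : XA ⟶ X' := sqi.lift x (fA ≫ σ' ≫ pullback.fst i c) e1
  have hx1 : x₁ ≫ x' = x := sqi.lift_fst _ _ _
  have hx2 : x₁ ≫ f' = fA ≫ σ' ≫ pullback.fst i c := sqi.lift_snd _ _ _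
  have sqA' : IsPullback x₁ fA f' (σ' ≫ pullback.fst i c) := by
    refine IsPullback.of_right (h₁₂ := x') (v₁₃ := f) (h₂₂ := i) ?_ hx2 sqi
    rw [hx1, Category.assoc, pullback.condition, ← Category.assoc, hσ']
    exact sqA
  have h1 := hf' A (pullback.fst i c) (pullback.snd i c ≫ b₁) (sqc.paste_vert sq₁) σ' hσs (by
    rw [Scheme.Hom.comp_apply, ← hcl, ← hσ', Scheme.Hom.comp_apply]) x₁ fA sqA'
  rw [← Category.assoc σ', hσ'] at h1
  exact h1

/-- Zariski covers of the source. -/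
theorem faithAt_of_cover {J : Type u} {X' : J → Scheme.{u}} (i : ∀ j, X' j ⟶ X)
    (hc : ∀ x : X, ∃ j, x ∈ Set.range (i j)) (h : ∀ j, FaithAt (i j ≫ f) b O t) : FaithAt f b O t := by
  intro A _ _ Y₁ c b₁ sq₁ σ hσ hcl XA x fA sqA
  refine ClInj.of_family (J := J) (T' := fun j => ↥(pullback (i j) x)) (fun j => pullback.snd (i j) x)
    (fun j => (pullback.snd (i j) x).continuous) (fun z => ?_)
    (W' := fun j => cf ((pullback.snd (i j) x ≫ fA) ≫ σ ≫ b₁)) (fun j => ?_) (fun j => ?_)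
  · obtain ⟨j, y, hy⟩ := hc (x z)
    obtain ⟨w, -, hw⟩ := Scheme.Pullback.exists_preimage_pullback (f := i j) (g := x) y z hy
    exact ⟨j, w, hw⟩
  · rw [Category.assoc, cf_comp]
  · exact h j A c b₁ sq₁ σ hσ hcl (pullback.fst (i j) x) (pullback.snd (i j) x ≫ fA)
      ((IsPullback.of_hasPullback (i j) x).paste_vert sqA)

/-- Zariski covers of the source. -/
theorem ffAt_of_cover {n : ℕ} {J : Type u} {X' : J → Scheme.{u}} (i : ∀ j, X' j ⟶ X)
    [∀ j, IsOpenImmersion (i j)] (hc : ∀ x : X, ∃ j, x ∈ Set.range (i j)) (h : ∀ j, FFAt n (i j ≫ f) b O t)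
    (h₂ : ∀ j k, FaithAt (pullback.fst (i j) (i k) ≫ i j ≫ f) b O t) : FFAt n f b O t := by
  intro A _ _ Y₁ c b₁ sq₁ σ hσ hcl XA x fA sqA G _ _ hG P ρ hρ
  let xj : ∀ j, pullback (i j) x ⟶ XA := fun j => pullback.snd (i j) x
  have hxj : ∀ j, IsOpenImmersion (xj j) := fun j => inferInstance
  let Pj : ∀ j, FEt.Cat (pullback (i j) x) := fun j => (FEt.restrict (xj j)).obj P
  let a : ∀ j, (Pj j).left ⟶ P.left := fun j => pullback.fst P.hom (xj j)
  have sqa : ∀ j, IsPullback (a j) (Pj j).hom P.hom (xj j) := fun j => IsPullback.of_hasPullback _ _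
  have haj : ∀ j, IsOpenImmersion (a j) := fun j => MorphismProperty.of_isPullback (sqa j).flip (hxj j)
  have hrange : ∀ j z, z ∈ Set.range (a j) ↔ P.hom z ∈ Set.range (xj j) := by
    intro j z
    constructor
    · rintro ⟨w, rfl⟩
      exact ⟨(Pj j).hom w, by rw [← Scheme.Hom.comp_apply, ← (sqa j).w, Scheme.Hom.comp_apply]⟩
    · rintro ⟨w, hw⟩
      obtain ⟨w', hw', -⟩ := Scheme.exists_preimage_of_isPullback (sqa j) z w hw.symm
      exact ⟨w', hw'⟩
  refine clSurj_of_cover (J := J) (fun j => Set.range (a j)) (fun j => (a j).isOpenEmbedding.isOpen_range)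
    (fun z => ?_) (fun j => ?_) (fun j k => ?_)
  · obtain ⟨j, y, hy⟩ := hc (x (P.hom z))
    obtain ⟨w, -, hw⟩ := Scheme.Pullback.exists_preimage_pullback (f := i j) (g := x) y (P.hom z) hy
    exact ⟨j, (hrange j z).2 ⟨w, hw⟩⟩
  · have hP₁ := Groth.Agent.Pi1.H408.PrincRestrict.isPrincipal_restrict (xj j) P ρ hρ
    have h1 := h j A c b₁ sq₁ σ hσ hcl (pullback.fst (i j) x) (xj j ≫ fA)
      ((IsPullback.of_hasPullback (i j) x).paste_vert sqA) G hG (Pj j) _ hP₁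
    let e : (Pj j).left ≃ₜ Set.range (a j) := (a j).isOpenEmbedding.isEmbedding.toHomeomorph
    have he : ∀ w, (e w).1 = a j w := fun w => rfl
    apply clSurj_of_homeo e
    have e2 : e ⁻¹' ((Subtype.val : Set.range (a j) → P.left) ⁻¹' cf (P.hom ≫ fA ≫ σ ≫ b₁)) =
        cf ((Pj j).hom ≫ (xj j ≫ fA) ≫ σ ≫ b₁) := by
      have e3 : (Pj j).hom ≫ (xj j ≫ fA) ≫ σ ≫ b₁ = a j ≫ P.hom ≫ fA ≫ σ ≫ b₁ := by
        rw [← Category.assoc (a j), (sqa j).w]
        simp only [Category.assoc]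
      rw [e3, cf_comp (a j)]
      rfl
    rw [e2]
    exact h1
  · -- the overlap
    have h1 := h₂ j k A c b₁ sq₁ σ hσ hcl (pullback.fst (pullback.fst (i j) (i k) ≫ i j) x)
      (pullback.snd (pullback.fst (i j) (i k) ≫ i j) x ≫ fA) (by
        have h3 := (IsPullback.of_hasPullback (pullback.fst (i j) (i k) ≫ i j) x).paste_vert sqA
        rw [Category.assoc] at h3
        exact h3)
    set y := pullback.snd (pullback.fst (i j) (i k) ≫ i j) x with hy
    let Q : FEt.Cat _ := (FEt.restrict y).obj P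
    have h2 := clInj_fet Q h1
    rw [← cf_comp] at h2
    let q : Q.left ⟶ P.left := pullback.fst P.hom y
    have sqq : IsPullback q Q.hom P.hom y := IsPullback.of_hasPullback _ _
    have hyo : IsOpenImmersion y := inferInstance
    have hqo : IsOpenImmersion q := MorphismProperty.of_isPullback sqq.flip hyo
    have hr : Set.range q = (Set.range (a j) ∩ Set.range (a k) : Set P.left) := by
      ext z
      rw [Set.mem_inter_iff, hrange j, hrange k]
      constructor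
      · rintro ⟨w, rfl⟩
        have h5 : P.hom (q w) = y (Q.hom w) := by
          rw [← Scheme.Hom.comp_apply, sqq.w, Scheme.Hom.comp_apply]
        rw [h5]
        have h6 : x (y (Q.hom w)) = (i j) ((pullback.fst (i j) (i k))
            ((pullback.fst (pullback.fst (i j) (i k) ≫ i j) x) (Q.hom w))) := by
          rw [← Scheme.Hom.comp_apply, ← pullback.condition]
          simp only [Scheme.Hom.comp_apply]
        have h7 : x (y (Q.hom w)) = (i k) ((pullback.snd (i j) (i k))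
            ((pullback.fst (pullback.fst (i j) (i k) ≫ i j) x) (Q.hom w))) := by
          have hv : ∀ v, (i j) ((pullback.fst (i j) (i k)) v) =
              (i k) ((pullback.snd (i j) (i k)) v) := by
            intro v
            rw [← Scheme.Hom.comp_apply, pullback.condition, Scheme.Hom.comp_apply]
          rw [h6, hv]
        constructor
        · obtain ⟨w', -, hw'⟩ := Scheme.Pullback.exists_preimage_pullback (f := i j) (g := x) _ _ h6.symm
          exact ⟨w', hw'⟩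
        · obtain ⟨w', -, hw'⟩ := Scheme.Pullback.exists_preimage_pullback (f := i k) (g := x) _ _ h7.symm
          exact ⟨w', hw'⟩
      · rintro ⟨⟨w1, hw1⟩, ⟨w2, hw2⟩⟩
        have h5 : (i j) ((pullback.fst (i j) x) w1) = x (P.hom z) := by
          rw [← Scheme.Hom.comp_apply, pullback.condition, Scheme.Hom.comp_apply]
          exact congrArg x hw1
        have h6 : (i k) ((pullback.fst (i k) x) w2) = x (P.hom z) := by
          rw [← Scheme.Hom.comp_apply, pullback.condition, Scheme.Hom.comp_apply]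
          exact congrArg x hw2
        obtain ⟨v, hv1, -⟩ := Scheme.Pullback.exists_preimage_pullback (f := i j) (g := i k) _ _
          (h5.trans h6.symm)
        obtain ⟨w, -, hw⟩ := Scheme.Pullback.exists_preimage_pullback
          (f := pullback.fst (i j) (i k) ≫ i j) (g := x) v (P.hom z) (by
            rw [Scheme.Hom.comp_apply, hv1]; exact h5)
        obtain ⟨w', hw', -⟩ := Scheme.exists_preimage_of_isPullback sqq z w hw.symm
        exact ⟨w', hw'⟩
    let e : Q.left ≃ₜ Set.range q := q.isOpenEmbedding.isEmbedding.toHomeomorph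
    let e' : Q.left ≃ₜ (Set.range (a j) ∩ Set.range (a k) : Set P.left) := e.trans (Homeomorph.setCongr hr)
    have e2 : e' ⁻¹' ((Subtype.val : (Set.range (a j) ∩ Set.range (a k) : Set P.left) → P.left) ⁻¹'
        cf (P.hom ≫ fA ≫ σ ≫ b₁)) = cf (Q.hom ≫ (y ≫ fA) ≫ σ ≫ b₁) := by
      have e3 : Q.hom ≫ (y ≫ fA) ≫ σ ≫ b₁ = q ≫ P.hom ≫ fA ≫ σ ≫ b₁ := by
        rw [← Category.assoc q, sqq.w]
        simp only [Category.assoc]
      rw [e3, cf_comp q]
      rfl
    have h8 : ClInj (e'.symm ⁻¹' cf (Q.hom ≫ (y ≫ fA) ≫ σ ≫ b₁)) :=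
      clInj_preimage e'.symm.isOpenMap e'.symm.isClosedMap h2
    rw [← e2, ← Set.preimage_comp] at h8
    have e4 : (⇑e' ∘ ⇑e'.symm) = id := by
      ext z; simp
    rw [e4, Set.preimage_id] at h8
    exact h8

end Local


/-! ### Composition of the structure morphism with an arbitrary morphism -/

theorem clSurj_of_two {T T' : Type*} [TopologicalSpace T] [TopologicalSpace T'] {π : T' → T}
    (hπ : Continuous π) {W W₁ : Set T} (hW : W₁ ⊆ W) (hr : Set.range π = W) (h1 : ClSurj W₁)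
    (h2 : ClInj (π ⁻¹' W₁)) : ClSurj W := by
  intro D hD hDc
  have hD1 : IsClopen ((Subtype.val : W₁ → T) ⁻¹' (D ∩ W₁)) := by
    have h3 := relClopen_preimage (p := id) continuous_id hD hDc (W' := W₁) hW
    have h4 : (Subtype.val : W₁ → T) ⁻¹' (D ∩ W₁) = (Subtype.val : W₁ → T) ⁻¹' (id ⁻¹' D) := by
      ext x
      simp
    rw [h4]
    exact h3
  obtain ⟨C, hC, hCD⟩ := h1 (D ∩ W₁) Set.inter_subset_right hD1
  refine ⟨C, hC, ?_⟩
  have hc1 : IsClopen (π ⁻¹' D) := by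
    have hf : Continuous (fun x : T' => (⟨π x, hr ▸ ⟨x, rfl⟩⟩ : W)) := by fun_prop
    exact hDc.preimage hf
  have hc2 : IsClopen (π ⁻¹' C) := hC.preimage hπ
  have he : π ⁻¹' D = π ⁻¹' C := by
    refine h2.eq hc1 hc2 ?_
    rw [← Set.preimage_inter, ← Set.preimage_inter, hCD]
  ext x
  constructor
  · rintro ⟨hx, hxW⟩
    rw [← hr] at hxW
    obtain ⟨z, rfl⟩ := hxW
    have : z ∈ π ⁻¹' C := hx
    rw [← he] at this
    exact this
  · intro hx
    have hxW := hD hx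
    refine ⟨?_, hxW⟩
    rw [← hr] at hxW
    obtain ⟨z, rfl⟩ := hxW
    have : z ∈ π ⁻¹' D := hx
    rw [he] at this
    exact this

theorem range_of_isPullback {P X Y Z : Scheme.{u}} {fst : P ⟶ X} {snd : P ⟶ Y} {f : X ⟶ Z} {g : Y ⟶ Z}
    (h : IsPullback fst snd f g) : Set.range fst = f ⁻¹' Set.range g := by
  ext x
  constructor
  · rintro ⟨p, rfl⟩
    refine ⟨snd p, ?_⟩
    rw [← Scheme.Hom.comp_apply, ← h.w, Scheme.Hom.comp_apply]
  · rintro ⟨y, hy⟩
    obtain ⟨z, hz, -⟩ := Scheme.exists_preimage_of_isPullback h x y hy.symm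
    exact ⟨z, hz⟩

section Base

variable {X Y S₁ S : Scheme.{u}} {f : X ⟶ Y} {g₁ : Y ⟶ S₁} {a : S₁ ⟶ S}

/-- The data over the strict localization of `S₁`. -/
theorem baseData {O : Type u} [CommRing O] [IsLocalRing O] {t : Spec (CommRingCat.of O) ⟶ S}
    {A : Type u} [CommRing A] [IsLocalRing A] {Y₁ : Scheme.{u}} {c : Y₁ ⟶ Y} {b₁ : Y₁ ⟶ Spec (CommRingCat.of O)}
    (sq₁ : IsPullback c b₁ (g₁ ≫ a) t) {σ : Spec (CommRingCat.of A) ⟶ Y₁} (hσ : IsStrictLoc σ)
    (hcl : b₁ (σ (closedPoint A)) = closedPoint O) :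
    ∃ (O₁ : Type u) (_ : CommRing O₁) (_ : IsLocalRing O₁) (S' : Scheme.{u}) (a' : S' ⟶ Spec (CommRingCat.of O))
      (s' : S' ⟶ S₁) (_ : IsPullback s' a' a t) (τ₁ : Spec (CommRingCat.of O₁) ⟶ S')
      (_ : IsStrictLoc τ₁) (Y₂ : Scheme.{u}) (y₂ : Y₂ ⟶ Y₁) (b₂ : Y₂ ⟶ Spec (CommRingCat.of O₁))
      (_ : IsPullback (y₂ ≫ c) b₂ g₁ (τ₁ ≫ s')) (σ₂ : Spec (CommRingCat.of A) ⟶ Y₂)
      (_ : IsStrictLoc σ₂), σ₂ ≫ y₂ = σ ∧ b₂ (σ₂ (closedPoint A)) = closedPoint O₁ ∧
        y₂ ≫ b₁ = b₂ ≫ τ₁ ≫ a' ∧ a' (τ₁ (closedPoint O₁)) = closedPoint O := by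
  have sqS : IsPullback (pullback.fst a t) (pullback.snd a t) a t := IsPullback.of_hasPullback a t
  let w : Y₁ ⟶ pullback a t := sqS.lift (c ≫ g₁) b₁ (by rw [Category.assoc]; exact sq₁.w)
  have hw1 : w ≫ pullback.fst a t = c ≫ g₁ := sqS.lift_fst _ _ _
  have hw2 : w ≫ pullback.snd a t = b₁ := sqS.lift_snd _ _ _
  have sqw : IsPullback c w g₁ (pullback.fst a t) := by
    refine IsPullback.of_bot (v₂₁ := pullback.snd a t) (v₂₂ := a) (h₃₁ := t) ?_ hw1.symm sqS
    rw [hw2]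
    exact sq₁
  obtain ⟨O₁, _, _, τ₁, θ, hτ₁, hθ, hcomm⟩ := Groth.Agent.Sga1.UlaLoc.exists_over w hσ
  have sq2 : IsPullback (pullback.fst w τ₁) (pullback.snd w τ₁) w τ₁ := IsPullback.of_hasPullback w τ₁
  let σ₂ : Spec (CommRingCat.of A) ⟶ pullback w τ₁ := sq2.lift σ (spm θ) hcomm.symm
  have hσ1 : σ₂ ≫ pullback.fst w τ₁ = σ := sq2.lift_fst _ _ _
  have hσ2 : σ₂ ≫ pullback.snd w τ₁ = spm θ := sq2.lift_snd _ _ _
  have hwe : WeaklyEtale (pullback.fst w τ₁) :=
    MorphismProperty.of_isPullback (P := @WeaklyEtale) sq2.flip (weaklyEtale_of_isStrictLoc hτ₁)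
  have hσs : IsStrictLoc σ₂ := by
    rw [← hσ1] at hσ
    exact hσ.of_comp (pullback.fst w τ₁)
  have hθc : (spm θ) (closedPoint A) = closedPoint O₁ := IsLocalRing.comap_closedPoint θ
  have h5 : pullback.fst w τ₁ ≫ b₁ = pullback.snd w τ₁ ≫ τ₁ ≫ pullback.snd a t := by
    rw [← hw2, ← Category.assoc, sq2.w, Category.assoc]
  refine ⟨O₁, inferInstance, inferInstance, pullback a t, pullback.snd a t, pullback.fst a t, sqS, τ₁, hτ₁,
    pullback w τ₁, pullback.fst w τ₁, pullback.snd w τ₁, ?_, σ₂, hσs, hσ1, ?_, h5, ?_⟩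
  · exact (sq2.flip.paste_vert sqw.flip).flip
  · rw [← Scheme.Hom.comp_apply, hσ2]
    exact hθc
  · have h6 : τ₁ ((spm θ) (closedPoint A)) = w (σ (closedPoint A)) := by
      rw [← Scheme.Hom.comp_apply, hcomm, Scheme.Hom.comp_apply]
    rw [← hθc]
    refine (congrArg (fun z => (pullback.snd a t) z) h6).trans ?_
    show (pullback.snd a t) (w (σ (closedPoint A))) = _
    rw [← Scheme.Hom.comp_apply, hw2]
    exact hcl

theorem faithOn_of_base {U : Set S} (h : FaithOn (a ⁻¹' U) f g₁) : FaithOn U f (g₁ ≫ a) := by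
  intro O _ _ hO hk t ht A _ _ Y₁ c b₁ sq₁ σ hσ hcl XA x fA sqA
  obtain ⟨O₁, _, _, S', a', s', sqS, τ₁, hτ₁, Y₂, y₂, b₂, sqY, σ₂, hσ₂, e1, e2, e3, e4⟩ :=
    baseData sq₁ hσ hcl
  have hp : (τ₁ ≫ s') (closedPoint O₁) ∈ a ⁻¹' U := by
    show a ((τ₁ ≫ s') (closedPoint O₁)) ∈ U
    rw [← Scheme.Hom.comp_apply, Category.assoc, sqS.w, Scheme.Hom.comp_apply, Scheme.Hom.comp_apply, e4]
    exact ht
  have h1 := h O₁ hτ₁.henselian hτ₁.sepClosed (τ₁ ≫ s') hp A (y₂ ≫ c) b₂ sqY σ₂ hσ₂ e2 x fA (by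
    rw [← Category.assoc σ₂, e1]
    exact sqA)
  intro C hC he
  apply h1 C hC
  rw [Set.eq_empty_iff_forall_notMem] at he ⊢
  rintro z ⟨hz1, hz2⟩
  apply he z
  refine ⟨hz1, ?_⟩
  show (fA ≫ σ ≫ b₁) z = _
  rw [← e1, Category.assoc, e3]
  have h2 : (fA ≫ σ₂ ≫ b₂) z = closedPoint O₁ := hz2
  have h3 : fA ≫ σ₂ ≫ b₂ ≫ τ₁ ≫ a' = (fA ≫ σ₂ ≫ b₂) ≫ τ₁ ≫ a' := by simp only [Category.assoc]
  rw [h3, Scheme.Hom.comp_apply, h2, Scheme.Hom.comp_apply]
  exact e4

theorem ffOn_of_base {n : ℕ} {U : Set S} (h : FFOn n (a ⁻¹' U) f g₁) (h' : FaithOn (a ⁻¹' U) f g₁) :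
    FFOn n U f (g₁ ≫ a) := by
  intro O _ _ hO hk hn t ht A _ _ Y₁ c b₁ sq₁ σ hσ hcl XA x fA sqA G _ _ hG P ρ hρ
  obtain ⟨O₁, _, _, S', a', s', sqS, τ₁, hτ₁, Y₂, y₂, b₂, sqY, σ₂, hσ₂, e1, e2, e3, e4⟩ :=
    baseData sq₁ hσ hcl
  have hp : (τ₁ ≫ s') (closedPoint O₁) ∈ a ⁻¹' U := by
    show a ((τ₁ ≫ s') (closedPoint O₁)) ∈ U
    rw [← Scheme.Hom.comp_apply, Category.assoc, sqS.w, Scheme.Hom.comp_apply, Scheme.Hom.comp_apply, e4]
    exact ht
  have hn₁ : IsUnit (n : O₁) := by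
    have h1 := hn.map (Spec.preimage (τ₁ ≫ a')).hom
    simpa using h1
  have sqA' : IsPullback x fA f (σ₂ ≫ y₂ ≫ c) := by
    rw [← Category.assoc σ₂, e1]
    exact sqA
  have h1 := h O₁ hτ₁.henselian hτ₁.sepClosed hn₁ (τ₁ ≫ s') hp A (y₂ ≫ c) b₂ sqY σ₂ hσ₂ e2 x fA sqA' G hG P ρ hρ
  -- the fibre over the residue field of `O`
  have sqT : IsPullback (pullback.fst a' (resPt O)) (pullback.snd a' (resPt O)) a' (resPt O) :=
    IsPullback.of_hasPullback _ _
  have hci : IsClosedImmersion (resPt O) :=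
    IsClosedImmersion.spec_of_surjective _ IsLocalRing.residue_surjective
  have hci' : IsClosedImmersion (pullback.fst a' (resPt O)) := inferInstance
  have hrT : Set.range (resPt O) = {closedPoint O} := by
    ext z
    constructor
    · rintro ⟨y, rfl⟩
      exact resPt_closedPoint O y
    · rintro rfl
      exact ⟨closedPoint _, resPt_closedPoint O _⟩
  obtain ⟨Ob, _, _, τb, α, hτb, hα, sqb⟩ := K548.StrictPts.exists_immersion (pullback.fst a' (resPt O)) hτ₁ (by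
    obtain ⟨y, hy⟩ : a' (τ₁ (closedPoint O₁)) ∈ Set.range (resPt O) := by rw [hrT, e4]; rfl
    obtain ⟨w, hw, -⟩ := Scheme.Pullback.exists_preimage_pullback (f := a') (g := resPt O)
      (τ₁ (closedPoint O₁)) y hy.symm
    exact ⟨w, hw⟩)
  have hαi : IsClosedImmersion (spm α) :=
    MorphismProperty.of_isPullback (P := @IsClosedImmersion) sqb inferInstance
  have hαc : (spm α) (closedPoint Ob) = closedPoint O₁ := IsLocalRing.comap_closedPoint α
  have sqYb : IsPullback (pullback.fst b₂ (spm α)) (pullback.snd b₂ (spm α)) b₂ (spm α) :=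
    IsPullback.of_hasPullback _ _
  have hYi : IsClosedImmersion (pullback.fst b₂ (spm α)) := inferInstance
  obtain ⟨Ab, _, _, σb, α', hσb, hα', sqσ⟩ := K548.StrictPts.exists_immersion (pullback.fst b₂ (spm α)) hσ₂ (by
    obtain ⟨w, hw, -⟩ := Scheme.Pullback.exists_preimage_pullback (f := b₂) (g := spm α)
      (σ₂ (closedPoint A)) (closedPoint Ob) (e2.trans hαc.symm)
    exact ⟨w, hw⟩)
  have hα'c : (spm α') (closedPoint Ab) = closedPoint A := IsLocalRing.comap_closedPoint α'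
  have sqX : IsPullback (pullback.fst fA (spm α')) (pullback.snd fA (spm α')) fA (spm α') :=
    IsPullback.of_hasPullback _ _
  have hpb : (((spm α ≫ τ₁) ≫ s') (closedPoint Ob)) ∈ a ⁻¹' U := by
    rw [Category.assoc, Scheme.Hom.comp_apply, hαc]
    exact hp
  have h2 := h' Ob hτb.henselian hτb.sepClosed ((spm α ≫ τ₁) ≫ s') hpb Ab
    (pullback.fst b₂ (spm α) ≫ y₂ ≫ c) (pullback.snd b₂ (spm α)) (by
      rw [Category.assoc (spm α)]
      exact (sqYb.flip.paste_vert sqY.flip).flip) σb hσb (by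
      have h3 : (spm α) ((pullback.snd b₂ (spm α)) (σb (closedPoint Ab))) = (spm α) (closedPoint Ob) := by
        rw [← Scheme.Hom.comp_apply, ← pullback.condition, Scheme.Hom.comp_apply, hαc,
          ← Scheme.Hom.comp_apply σb, sqσ.w, Scheme.Hom.comp_apply, hα'c]
        exact e2
      exact (spm α).injective h3) (pullback.fst fA (spm α') ≫ x) (pullback.snd fA (spm α')) (by
      have h4 : σb ≫ pullback.fst b₂ (spm α) ≫ y₂ ≫ c = spm α' ≫ σ₂ ≫ y₂ ≫ c := by
        rw [← Category.assoc σb, sqσ.w, Category.assoc]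
      rw [h4]
      exact (sqX.flip.paste_vert sqA'.flip).flip)
  -- the cover over the fibre
  let Pb : FEt.Cat (pullback fA (spm α')) := (FEt.restrict (pullback.fst fA (spm α'))).obj P
  let π : Pb.left ⟶ P.left := pullback.fst P.hom (pullback.fst fA (spm α'))
  have sqP : IsPullback π Pb.hom P.hom (pullback.fst fA (spm α')) := IsPullback.of_hasPullback _ _
  -- the big square
  have big : IsPullback π (((((Pb.hom ≫ pullback.snd fA (spm α')) ≫ σb) ≫ pullback.snd b₂ (spm α)) ≫ τb) ≫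
      pullback.snd a' (resPt O)) (((((P.hom ≫ fA) ≫ σ₂) ≫ b₂) ≫ τ₁) ≫ a') (resPt O) := by
    refine (((((sqP.paste_vert sqX.flip.flip).paste_vert ?_).paste_vert sqYb).paste_vert ?_).paste_vert sqT)
    · exact sqσ.flip
    · exact sqb.flip
  have hr : Set.range π = cf (P.hom ≫ fA ≫ σ ≫ b₁) := by
    have h5 := range_of_isPullback big
    rw [h5, hrT]
    have h6 : ((((P.hom ≫ fA) ≫ σ₂) ≫ b₂) ≫ τ₁) ≫ a' = P.hom ≫ fA ≫ σ ≫ b₁ := by
      rw [← e1, Category.assoc σ₂, e3]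
      simp only [Category.assoc]
    rw [h6]
    rfl
  have h7 := clInj_fet Pb h2
  rw [← cf_comp] at h7
  refine clSurj_of_two π.continuous ?_ hr h1 ?_
  · intro z hz
    have h8 : (P.hom ≫ fA ≫ σ₂ ≫ b₂) z = closedPoint O₁ := hz
    show (P.hom ≫ fA ≫ σ ≫ b₁) z = closedPoint O
    have h9 : P.hom ≫ fA ≫ σ ≫ b₁ = (P.hom ≫ fA ≫ σ₂ ≫ b₂) ≫ τ₁ ≫ a' := by
      rw [← e1, Category.assoc σ₂, e3]
      simp only [Category.assoc]
    rw [h9, Scheme.Hom.comp_apply, h8, Scheme.Hom.comp_apply]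
    exact e4
  · have h10 : π ⁻¹' cf (P.hom ≫ fA ≫ σ₂ ≫ b₂) =
        cf (Pb.hom ≫ pullback.snd fA (spm α') ≫ σb ≫ pullback.snd b₂ (spm α)) := by
      rw [← cf_comp π]
      have h11 : π ≫ P.hom ≫ fA ≫ σ₂ ≫ b₂ =
          (Pb.hom ≫ pullback.snd fA (spm α') ≫ σb ≫ pullback.snd b₂ (spm α)) ≫ spm α := by
        rw [← Category.assoc π, sqP.w]
        simp only [Category.assoc]
        rw [← pullback.condition, ← Category.assoc σb, sqσ.w, ← Category.assoc (pullback.fst fA (spm α')),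
          sqX.w]
        simp only [Category.assoc]
      rw [h11]
      ext z
      show ((Pb.hom ≫ pullback.snd fA (spm α') ≫ σb ≫ pullback.snd b₂ (spm α)) ≫ spm α) z = closedPoint O₁ ↔
        (Pb.hom ≫ pullback.snd fA (spm α') ≫ σb ≫ pullback.snd b₂ (spm α)) z = closedPoint Ob
      rw [Scheme.Hom.comp_apply, ← hαc]
      exact (spm α).injective.eq_iff
    rw [h10]
    exact h7

end Base

end K868.Bc
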