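import Groth.Agent.Pi1.K868.BcNoeth
import Groth.Agent.Pi1.K995.Geo
import Groth.Agent.EtAcyc.K157.AlgMain

/-!
# Generic faithfulness and full faithfulness over Noetherian bases: final form
-/

set_option autoImplicit false
universe u

open CategoryTheory CategoryTheory.Limits AlgebraicGeometry Opposite IsLocalRing

namespace K868.Bc

theorem geo : Geo.{u} := by
  intro R B _ _ hR _ _ _ V
  exact K995.Geo.geo hR V

theorem ffNor : FFNor.{u} := by
  intro n X S g V hS h
  exact K157.AlgMain.ffnor n g V hS h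

section

variable {S : Scheme.{u}} [AlgebraicGeometry.IsNoetherian S] {X Y : Scheme.{u}} (f : X ⟶ Y) (b : Y ⟶ S)
    [LocallyOfFiniteType f] [QuasiCompact f] [LocallyOfFiniteType b] [QuasiCompact b]

/-- **Generic full faithfulness**, on a subset of the base. -/
theorem exists_faithOn_ffOn :
    ∃ U : S.Opens, Dense (U : Set S) ∧ FaithOn (U : Set S) f b ∧ ∀ n, FFOn n (U : Set S) f b :=
  exists_dense_open geo ffNor f b

/-- **Generic full faithfulness**, restricted form. -/
theorem exists_faith_ff :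
    ∃ U : S.Opens, Dense (U : Set S) ∧ Faith (f ∣_ (b ⁻¹ᵁ U)) (b ∣_ U) ∧ ∀ n, FF n (f ∣_ (b ⁻¹ᵁ U)) (b ∣_ U) :=
  exists_dense_open' geo ffNor f b

end

end K868.Bc
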