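import Groth.Agent.Pi1.K868.BcDef

/-!
# Generic base change for principal covers: topological lemmas
-/

set_option autoImplicit false
universe u

open CategoryTheory CategoryTheory.Limits AlgebraicGeometry IsLocalRing

namespace K868.Bc

/-- Relatively clopen subsets, reformulated. -/
theorem isClopen_preimage_iff {T : Type*} [TopologicalSpace T] {W D : Set T} (hD : D ⊆ W) :
    IsClopen ((Subtype.val : W → T) ⁻¹' D) ↔
      (∃ U : Set T, IsOpen U ∧ U ∩ W = D) ∧ (∃ U : Set T, IsOpen U ∧ U ∩ W = W \ D) := by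
  constructor
  · rintro ⟨h1, h2⟩
    constructor
    · obtain ⟨U, hU, h⟩ := isOpen_induced_iff.1 h2
      refine ⟨U, hU, ?_⟩
      ext x
      constructor
      · rintro ⟨hx, hW⟩
        have : (⟨x, hW⟩ : W) ∈ Subtype.val ⁻¹' U := hx
        rw [h] at this
        exact this
      · intro hx
        refine ⟨?_, hD hx⟩
        have : (⟨x, hD hx⟩ : W) ∈ Subtype.val ⁻¹' D := hx
        rw [← h] at this
        exact this
    · obtain ⟨U, hU, h⟩ := isOpen_induced_iff.1 h1.isOpen_compl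
      refine ⟨U, hU, ?_⟩
      ext x
      constructor
      · rintro ⟨hx, hW⟩
        have : (⟨x, hW⟩ : W) ∈ Subtype.val ⁻¹' U := hx
        rw [h] at this
        exact ⟨hW, this⟩
      · rintro ⟨hW, hx⟩
        refine ⟨?_, hW⟩
        have : (⟨x, hW⟩ : W) ∈ (Subtype.val ⁻¹' D)ᶜ := hx
        rw [← h] at this
        exact this
  · rintro ⟨⟨U, hU, h1⟩, ⟨V, hV, h2⟩⟩
    constructor
    · rw [← isOpen_compl_iff]
      refine isOpen_induced_iff.2 ⟨V, hV, ?_⟩
      ext ⟨x, hx⟩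
      have : x ∈ V ∩ W ↔ x ∈ W \ D := by rw [h2]
      simp only [Set.mem_preimage, Set.mem_compl_iff]
      constructor
      · intro hV'; exact (this.1 ⟨hV', hx⟩).2
      · intro hn; exact (this.2 ⟨hx, hn⟩).1
    · refine isOpen_induced_iff.2 ⟨U, hU, ?_⟩
      ext ⟨x, hx⟩
      have : x ∈ U ∩ W ↔ x ∈ D := by rw [h1]
      simp only [Set.mem_preimage]
      constructor
      · intro hV'; exact this.1 ⟨hV', hx⟩
      · intro hn; exact (this.2 hn).1

/-- pull back relatively clopen subsets. -/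
theorem relClopen_preimage {T T' : Type*} [TopologicalSpace T] [TopologicalSpace T'] {p : T' → T}
    (hp : Continuous p) {W D : Set T} (hD : D ⊆ W) (h : IsClopen ((Subtype.val : W → T) ⁻¹' D))
    {W' : Set T'} (hW : W' ⊆ p ⁻¹' W) :
    IsClopen ((Subtype.val : W' → T') ⁻¹' (p ⁻¹' D)) := by
  have hc : Continuous (fun x : W' => (⟨p x.1, hW x.2⟩ : W)) := by fun_prop
  exact h.preimage hc

theorem ClInj.eq {T : Type*} [TopologicalSpace T] {W : Set T} (h : ClInj W) {C C' : Set T} (hC : IsClopen C)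
    (hC' : IsClopen C') (he : C ∩ W = C' ∩ W) : C = C' := by
  have h1 : C \ C' = ∅ := by
    apply h _ (hC.diff hC')
    ext x
    simp only [Set.mem_inter_iff, Set.mem_diff, Set.mem_empty_iff_false, iff_false]
    rintro ⟨⟨h1, h2⟩, h3⟩
    have : x ∈ C' ∩ W := he ▸ ⟨h1, h3⟩
    exact h2 this.1
  have h2 : C' \ C = ∅ := by
    apply h _ (hC'.diff hC)
    ext x
    simp only [Set.mem_inter_iff, Set.mem_diff, Set.mem_empty_iff_false, iff_false]
    rintro ⟨⟨h1, h2⟩, h3⟩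
    have : x ∈ C ∩ W := he ▸ ⟨h1, h3⟩
    exact h2 this.1
  exact Set.Subset.antisymm (Set.diff_eq_empty.1 h1) (Set.diff_eq_empty.1 h2)

theorem ClInj.of_surj {T T' : Type*} [TopologicalSpace T] [TopologicalSpace T'] {p : T' → T}
    (hp : Continuous p) (hs : Function.Surjective p) {W : Set T} {W' : Set T'} (hW : W' ⊆ p ⁻¹' W)
    (h : ClInj W') : ClInj W := by
  intro C hC he
  have h1 : p ⁻¹' C = ∅ := by
    apply h _ (hC.preimage hp)
    ext x
    simp only [Set.mem_inter_iff, Set.mem_preimage, Set.mem_empty_iff_false, iff_false]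
    rintro ⟨h1, h2⟩
    have : p x ∈ C ∩ W := ⟨h1, hW h2⟩
    rw [he] at this
    exact this
  ext x
  simp only [Set.mem_empty_iff_false, iff_false]
  intro hx
  obtain ⟨y, rfl⟩ := hs x
  have : y ∈ p ⁻¹' C := hx
  rw [h1] at this
  exact this

theorem ClInj.of_family {T : Type*} [TopologicalSpace T] {J : Type*} {T' : J → Type*}
    [∀ j, TopologicalSpace (T' j)] (p : ∀ j, T' j → T) (hp : ∀ j, Continuous (p j))
    (hs : ∀ x, ∃ j y, p j y = x) {W : Set T} {W' : ∀ j, Set (T' j)} (hW : ∀ j, W' j ⊆ p j ⁻¹' W)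
    (h : ∀ j, ClInj (W' j)) : ClInj W := by
  intro C hC he
  ext x
  simp only [Set.mem_empty_iff_false, iff_false]
  intro hx
  obtain ⟨j, y, rfl⟩ := hs x
  have h1 : p j ⁻¹' C = ∅ := by
    apply h j _ (hC.preimage (hp j))
    ext x
    simp only [Set.mem_inter_iff, Set.mem_preimage, Set.mem_empty_iff_false, iff_false]
    rintro ⟨h1, h2⟩
    have : p j x ∈ C ∩ W := ⟨h1, hW j h2⟩
    rw [he] at this
    exact this
  have : y ∈ p j ⁻¹' C := hx
  rw [h1] at this
  exact this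

/-- Disjoint unions. -/
theorem ClSurj.of_disjoint {T : Type*} [TopologicalSpace T] {J : Type*} {T' : J → Type*}
    [∀ j, TopologicalSpace (T' j)] (p : ∀ j, T' j → T) (hp : ∀ j, Topology.IsOpenEmbedding (p j))
    (hs : ∀ x, ∃ j y, p j y = x) (hd : ∀ i j x y, p i x = p j y → i = j) {W : Set T}
    (h : ∀ j, ClSurj (p j ⁻¹' W)) : ClSurj W := by
  intro D hD hDc
  have h1 : ∀ j, ∃ C : Set (T' j), IsClopen C ∧ C ∩ (p j ⁻¹' W) = p j ⁻¹' D := fun j =>
    h j (p j ⁻¹' D) (Set.preimage_mono hD) (relClopen_preimage (hp j).continuous hD hDc subset_rfl)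
  choose C hC hCD using h1
  refine ⟨⋃ j, p j '' C j, ⟨?_, ?_⟩, ?_⟩
  · rw [← isOpen_compl_iff]
    have : (⋃ j, p j '' C j)ᶜ = ⋃ j, p j '' (C j)ᶜ := by
      ext x
      simp only [Set.mem_compl_iff, Set.mem_iUnion, Set.mem_image, not_exists, not_and]
      constructor
      · intro hx
        obtain ⟨j, y, rfl⟩ := hs x
        exact ⟨j, y, fun hy => hx j y hy rfl, rfl⟩
      · rintro ⟨j, y, hy, rfl⟩ i z hz he
        obtain rfl := hd i j z y he
        exact hy ((hp i).injective he ▸ hz)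
    rw [this]
    exact isOpen_iUnion fun j => (hp j).isOpenMap _ (hC j).compl.isOpen
  · exact isOpen_iUnion fun j => (hp j).isOpenMap _ (hC j).isOpen
  · ext x
    simp only [Set.mem_inter_iff, Set.mem_iUnion, Set.mem_image]
    constructor
    · rintro ⟨⟨j, y, hy, rfl⟩, hW⟩
      have : y ∈ C j ∩ (p j ⁻¹' W) := ⟨hy, hW⟩
      rw [hCD j] at this
      exact this
    · intro hx
      obtain ⟨j, y, rfl⟩ := hs x
      have : y ∈ C j ∩ (p j ⁻¹' W) := by rw [hCD j]; exact hx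
      exact ⟨⟨j, y, this.1, rfl⟩, this.2⟩

/-- **Descent** of `ClSurj`. -/
theorem clSurj_of_desc {T T₁ T₂ : Type*} [TopologicalSpace T] [TopologicalSpace T₁] [TopologicalSpace T₂]
    (p : T₁ → T) (q₁ q₂ : T₂ → T₁) (hp : Topology.IsQuotientMap p) (hq₁ : Continuous q₁) (hq₂ : Continuous q₂)
    (he : ∀ z, p (q₁ z) = p (q₂ z)) (hex : ∀ a b, p a = p b → ∃ c, q₁ c = a ∧ q₂ c = b) {W : Set T}
    (h₁ : ClSurj (p ⁻¹' W)) (h₂ : ClInj ((fun z => p (q₁ z)) ⁻¹' W)) : ClSurj W := by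
  intro D hD hDc
  obtain ⟨C₁, hC₁, hC₁D⟩ := h₁ (p ⁻¹' D) (Set.preimage_mono hD)
    (relClopen_preimage hp.continuous hD hDc subset_rfl)
  have key : q₁ ⁻¹' C₁ = q₂ ⁻¹' C₁ := by
    apply h₂.eq (hC₁.preimage hq₁) (hC₁.preimage hq₂)
    ext z
    simp only [Set.mem_inter_iff, Set.mem_preimage]
    constructor
    · rintro ⟨h1, h2⟩
      refine ⟨?_, h2⟩
      have h3 : q₁ z ∈ C₁ ∩ p ⁻¹' W := ⟨h1, h2⟩
      rw [hC₁D] at h3
      have h4 : q₂ z ∈ p ⁻¹' D := by
        show p (q₂ z) ∈ D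
        rw [← he z]; exact h3
      rw [← hC₁D] at h4
      exact h4.1
    · rintro ⟨h1, h2⟩
      refine ⟨?_, h2⟩
      have h3 : q₂ z ∈ C₁ ∩ p ⁻¹' W := ⟨h1, by show p (q₂ z) ∈ W; rw [← he z]; exact h2⟩
      rw [hC₁D] at h3
      have h4 : q₁ z ∈ p ⁻¹' D := by
        show p (q₁ z) ∈ D
        rw [he z]; exact h3
      rw [← hC₁D] at h4
      exact h4.1
  have hsat : p ⁻¹' (p '' C₁) = C₁ := by
    ext a
    simp only [Set.mem_preimage, Set.mem_image]
    constructor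
    · rintro ⟨b, hb, hab⟩
      obtain ⟨c, rfl, rfl⟩ := hex a b hab.symm
      have : c ∈ q₂ ⁻¹' C₁ := hb
      rw [← key] at this
      exact this
    · intro ha; exact ⟨a, ha, rfl⟩
  refine ⟨p '' C₁, ?_, ?_⟩
  · constructor
    · rw [← hp.isClosed_preimage, hsat]; exact hC₁.isClosed
    · rw [← hp.isOpen_preimage, hsat]; exact hC₁.isOpen
  · ext x
    simp only [Set.mem_inter_iff, Set.mem_image]
    constructor
    · rintro ⟨⟨a, ha, rfl⟩, hW⟩
      have : a ∈ C₁ ∩ p ⁻¹' W := ⟨ha, hW⟩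
      rw [hC₁D] at this
      exact this
    · intro hx
      obtain ⟨a, rfl⟩ := hp.surjective x
      have : a ∈ C₁ ∩ p ⁻¹' W := by rw [hC₁D]; exact hx
      exact ⟨⟨a, this.1, rfl⟩, hD hx⟩

theorem clSurj_of_homeo {T T' : Type*} [TopologicalSpace T] [TopologicalSpace T'] (e : T' ≃ₜ T)
    {W : Set T} (h : ClSurj (e ⁻¹' W)) : ClSurj W :=
  ClSurj.of_disjoint (J := Unit) (fun _ => e) (fun _ => e.isOpenEmbedding)
    (fun x => ⟨(), e.symm x, e.apply_symm_apply x⟩) (fun _ _ _ _ _ => rfl) (fun _ => h)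

/-- for the open covers -/
theorem clSurj_of_cover {T : Type*} [TopologicalSpace T] {J : Type*} (U : J → Set T) (hU : ∀ j, IsOpen (U j))
    (hc : ∀ x, ∃ j, x ∈ U j) {W : Set T} (h : ∀ j, ClSurj ((Subtype.val : U j → T) ⁻¹' W))
    (h₂ : ∀ i j, ClInj ((Subtype.val : (U i ∩ U j : Set T) → T) ⁻¹' W)) : ClSurj W := by
  intro D hD hDc
  have h1 : ∀ j, ∃ C : Set (U j), IsClopen C ∧
      C ∩ ((Subtype.val : U j → T) ⁻¹' W) = (Subtype.val : U j → T) ⁻¹' D := fun j =>
    h j _ (Set.preimage_mono hD) (relClopen_preimage continuous_subtype_val hD hDc subset_rfl)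
  choose C hC hCD using h1
  -- agreement on the overlaps
  have key : ∀ i j (x : T) (hi : x ∈ U i) (hj : x ∈ U j), (⟨x, hi⟩ : U i) ∈ C i → (⟨x, hj⟩ : U j) ∈ C j := by
    intro i j
    let a : (U i ∩ U j : Set T) → U i := fun x => ⟨x.1, x.2.1⟩
    let b : (U i ∩ U j : Set T) → U j := fun x => ⟨x.1, x.2.2⟩
    have ha : Continuous a := by fun_prop
    have hb : Continuous b := by fun_prop
    have e : a ⁻¹' C i = b ⁻¹' C j := by
      apply (h₂ i j).eq ((hC i).preimage ha) ((hC j).preimage hb)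
      ext x
      simp only [Set.mem_inter_iff, Set.mem_preimage]
      have h3 := Set.ext_iff.1 (hCD i) (a x)
      have h4 := Set.ext_iff.1 (hCD j) (b x)
      simp only [Set.mem_inter_iff, Set.mem_preimage] at h3 h4
      constructor
      · rintro ⟨h5, h6⟩
        exact ⟨(h4.2 (h3.1 ⟨h5, h6⟩)).1, h6⟩
      · rintro ⟨h5, h6⟩
        exact ⟨(h3.2 (h4.1 ⟨h5, h6⟩)).1, h6⟩
    intro x hi hj hx
    have : (⟨x, hi, hj⟩ : (U i ∩ U j : Set T)) ∈ a ⁻¹' C i := hx
    rw [e] at this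
    exact this
  have hmem : ∀ j (x : T) (hj : x ∈ U j), x ∈ (⋃ j, Subtype.val '' C j) ↔ (⟨x, hj⟩ : U j) ∈ C j := by
    intro j x hj
    simp only [Set.mem_iUnion, Set.mem_image]
    constructor
    · rintro ⟨i, ⟨y, hy⟩, hyC, rfl⟩
      exact key i j y hy hj hyC
    · intro hx; exact ⟨j, ⟨x, hj⟩, hx, rfl⟩
  refine ⟨⋃ j, Subtype.val '' C j, ⟨?_, ?_⟩, ?_⟩
  · rw [← isOpen_compl_iff]
    have : (⋃ j, Subtype.val '' C j : Set T)ᶜ = ⋃ j, Subtype.val '' (C j)ᶜ := by
      ext x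
      obtain ⟨j, hj⟩ := hc x
      rw [Set.mem_compl_iff, hmem j x hj]
      simp only [Set.mem_iUnion, Set.mem_image, Set.mem_compl_iff]
      constructor
      · intro h; exact ⟨j, ⟨x, hj⟩, h, rfl⟩
      · rintro ⟨i, ⟨y, hy⟩, h5, rfl⟩ h6
        exact h5 (key j i y hj hy h6)
    rw [this]
    exact isOpen_iUnion fun j => (hU j).isOpenEmbedding_subtypeVal.isOpenMap _ (hC j).compl.isOpen
  · exact isOpen_iUnion fun j => (hU j).isOpenEmbedding_subtypeVal.isOpenMap _ (hC j).isOpen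
  · ext x
    obtain ⟨j, hj⟩ := hc x
    rw [Set.mem_inter_iff, hmem j x hj]
    have h4 := Set.ext_iff.1 (hCD j) ⟨x, hj⟩
    simp only [Set.mem_inter_iff, Set.mem_preimage] at h4
    exact h4

/-- Submersive maps with connected fibres: clopen subsets correspond. -/
theorem exists_clopen_of_submersive {T T' : Type*} [TopologicalSpace T] [TopologicalSpace T'] (g : T' → T)
    (hg : Topology.IsQuotientMap g) (hc : ∀ x, IsPreconnected (g ⁻¹' {x})) (D : Set T') (hD : IsClopen D) :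
    ∃ C : Set T, IsClopen C ∧ g ⁻¹' C = D := by
  have hsat : g ⁻¹' (g '' D) = D := by
    ext a
    simp only [Set.mem_preimage, Set.mem_image]
    constructor
    · rintro ⟨b, hb, hab⟩
      have h1 := (hc (g a)).subset_isClopen hD ⟨b, hab, hb⟩
      exact h1 rfl
    · intro ha; exact ⟨a, ha, rfl⟩
  refine ⟨g '' D, ?_, hsat⟩
  constructor
  · rw [← hg.isClosed_preimage, hsat]; exact hD.isClosed
  · rw [← hg.isOpen_preimage, hsat]; exact hD.isOpen

end K868.Bc
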