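import Groth.Prelude.Def_FEt
import Groth.Agent.Sga1.ProperDesc
import Groth.Agent.Pi1.K868.GeomLem

/-! # Descent of finite étale covers along proper surjective morphisms, by equivalence relations

`exists_quotient`: a clopen equivalence relation on a finite étale cover `A` of `X'` (over `p : X' ⟶ X`
proper surjective) which is bijective on fibres comes from a finite étale cover of `X`.
-/

set_option autoImplicit false

universe u

open CategoryTheory CategoryTheory.Limits AlgebraicGeometry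

namespace K868.EffRel

open K868.GeomLem

variable {A X : Scheme.{u}} (a : A ⟶ X)

/-- the pair of points `(u, v)` lies in `W` -/
def Rel (W : (pullback a a).Opens) {T : Scheme.{u}} (u v : T ⟶ A) : Prop :=
  ∃ g : T ⟶ pullback a a, g ≫ pullback.fst a a = u ∧ g ≫ pullback.snd a a = v ∧
    Set.range g ⊆ (W : Set ↥(pullback a a))

variable {a} {W : (pullback a a).Opens}

lemma Rel.comp_eq {T : Scheme.{u}} {u v : T ⟶ A} (h : Rel a W u v) : u ≫ a = v ≫ a := by
  obtain ⟨g, rfl, rfl, -⟩ := h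
  rw [Category.assoc, pullback.condition, Category.assoc]

lemma Rel.precomp {T T' : Scheme.{u}} {u v : T ⟶ A} (h : Rel a W u v) (t : T' ⟶ T) :
    Rel a W (t ≫ u) (t ≫ v) := by
  obtain ⟨g, rfl, rfl, hg⟩ := h
  refine ⟨t ≫ g, Category.assoc _ _ _, Category.assoc _ _ _, ?_⟩
  rintro _ ⟨x, rfl⟩
  exact hg ⟨t x, rfl⟩

lemma rel_of_geom {T : Scheme.{u}} {u v : T ⟶ A} (huv : u ≫ a = v ≫ a)
    (h : ∀ (K : Type u) [Field K] [IsAlgClosed K] (t : Spec (CommRingCat.of K) ⟶ T),
      Rel a W (t ≫ u) (t ≫ v)) : Rel a W u v := by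
  refine ⟨pullback.lift u v huv, pullback.lift_fst _ _ _, pullback.lift_snd _ _ _, ?_⟩
  apply range_subset_of_geom
  intro K _ _ t
  obtain ⟨g, hg1, hg2, hg⟩ := h K t
  have : t ≫ pullback.lift u v huv = g := by
    apply pullback.hom_ext
    · rw [Category.assoc, pullback.lift_fst, hg1]
    · rw [Category.assoc, pullback.lift_snd, hg2]
  rw [this]
  exact hg ⟨_, rfl⟩

variable {X' : Scheme.{u}} (π : A ⟶ X') (p : X' ⟶ X)

/-- Conditions for an open subset of `A ×_X A` to be a descent relation for `π : A ⟶ X'` along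
`p : X' ⟶ X`, on geometric points. -/
structure IsDescRel (W : (pullback (π ≫ p) (π ≫ p)).Opens) : Prop where
  ex : ∀ (K : Type u) [Field K] [IsAlgClosed K] (v : Spec (CommRingCat.of K) ⟶ A)
    (y : Spec (CommRingCat.of K) ⟶ X'), v ≫ π ≫ p = y ≫ p →
    ∃! v' : Spec (CommRingCat.of K) ⟶ A, v' ≫ π = y ∧ Rel (π ≫ p) W v v'
  refl : ∀ (K : Type u) [Field K] [IsAlgClosed K] (v : Spec (CommRingCat.of K) ⟶ A),
    Rel (π ≫ p) W v v
  trans : ∀ (K : Type u) [Field K] [IsAlgClosed K] (v₀ v₁ v₂ : Spec (CommRingCat.of K) ⟶ A),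
    Rel (π ≫ p) W v₀ v₁ → Rel (π ≫ p) W v₁ v₂ → Rel (π ≫ p) W v₀ v₂

variable {π p} {W : (pullback (π ≫ p) (π ≫ p)).Opens}

section

variable (hW : IsDescRel π p W)

include hW in
lemma IsDescRel.rel_refl {T : Scheme.{u}} (v : T ⟶ A) : Rel (π ≫ p) W v v :=
  rel_of_geom rfl fun K _ _ _ => hW.refl K _

include hW in
lemma IsDescRel.rel_trans {T : Scheme.{u}} {v₀ v₁ v₂ : T ⟶ A} (h₁ : Rel (π ≫ p) W v₀ v₁)
    (h₂ : Rel (π ≫ p) W v₁ v₂) : Rel (π ≫ p) W v₀ v₂ :=
  rel_of_geom (h₁.comp_eq.trans h₂.comp_eq) fun K _ _ t =>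
    hW.trans K _ _ _ (h₁.precomp t) (h₂.precomp t)

end

/-- the map from the relation to `A ×_X X'` -/
noncomputable def relMap (π : A ⟶ X') (p : X' ⟶ X) (W : (pullback (π ≫ p) (π ≫ p)).Opens) :
    (W : Scheme.{u}) ⟶ pullback (π ≫ p) p :=
  W.ι ≫ pullback.map (π ≫ p) (π ≫ p) (π ≫ p) p (𝟙 A) π (𝟙 X) (by simp) (by simp)

@[reassoc (attr := simp)] lemma relMap_fst : relMap π p W ≫ pullback.fst _ _ = W.ι ≫ pullback.fst _ _ := by
  unfold relMap
  rw [Category.assoc, pullback.map, pullback.lift_fst, Category.comp_id]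

@[reassoc (attr := simp)] lemma relMap_snd : relMap π p W ≫ pullback.snd _ _ = W.ι ≫ pullback.snd _ _ ≫ π := by
  unfold relMap
  rw [Category.assoc, pullback.map, pullback.lift_snd]

instance etale_relMap [Etale π] : Etale (relMap π p W) := by
  have : Etale (pullback.map (π ≫ p) (π ≫ p) (π ≫ p) p (𝟙 A) π (𝟙 X) (by simp) (by simp)) :=
    MorphismProperty.pullbackMap (P := @Etale) (inferInstanceAs (Etale (𝟙 A))) ‹Etale π› (by simp) rfl
  unfold relMap
  infer_instance

theorem isIso_relMap [Etale π] (hW : IsDescRel π p W) : IsIso (relMap π p W) := by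
  apply isIso_of_geom
  intro K _ _ y
  have hy : (y ≫ pullback.fst (π ≫ p) p) ≫ π ≫ p = (y ≫ pullback.snd (π ≫ p) p) ≫ p := by
    rw [Category.assoc, pullback.condition, Category.assoc]
  obtain ⟨v', ⟨hv1, g, hg1, hg2, hgW⟩, huniq⟩ := hW.ex K _ _ hy
  have hr : Set.range g ⊆ Set.range W.ι := by rwa [Scheme.Opens.range_ι]
  let w := IsOpenImmersion.lift W.ι g hr
  have hw : w ≫ W.ι = g := IsOpenImmersion.lift_fac _ _ _
  refine ⟨w, ?_, ?_⟩
  · apply pullback.hom_ext
    · rw [Category.assoc, relMap_fst, ← Category.assoc, hw, hg1]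
    · rw [Category.assoc, relMap_snd, ← Category.assoc, hw, ← Category.assoc, hg2, hv1]
  · intro w' hw'
    rw [← cancel_mono W.ι, hw]
    have h1 : (w' ≫ W.ι) ≫ pullback.fst _ _ = y ≫ pullback.fst (π ≫ p) p := by
      rw [Category.assoc, ← relMap_fst, ← Category.assoc, hw']
    have h2 : ((w' ≫ W.ι) ≫ pullback.snd _ _) ≫ π = y ≫ pullback.snd (π ≫ p) p := by
      rw [Category.assoc, Category.assoc, ← relMap_snd, ← Category.assoc, hw']
    have h3 : Rel (π ≫ p) W (y ≫ pullback.fst (π ≫ p) p) ((w' ≫ W.ι) ≫ pullback.snd _ _) := by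
      refine ⟨w' ≫ W.ι, h1, rfl, ?_⟩
      rintro _ ⟨x, rfl⟩
      rw [Scheme.Hom.comp_apply, ← Scheme.Opens.range_ι W]
      exact ⟨_, rfl⟩
    have h4 := huniq _ ⟨h2, h3⟩
    apply pullback.hom_ext
    · rw [h1, hg1]
    · rw [hg2, ← h4]

/-- transport along the relation -/
noncomputable def tr [Etale π] (hW : IsDescRel π p W) {T : Scheme.{u}} (v : T ⟶ A) (x : T ⟶ X')
    (h : v ≫ π ≫ p = x ≫ p) : T ⟶ A :=
  haveI := isIso_relMap hW
  pullback.lift v x h ≫ inv (relMap π p W) ≫ W.ι ≫ pullback.snd _ _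

section

variable [Etale π] (hW : IsDescRel π p W)

lemma tr_comp {T : Scheme.{u}} (v : T ⟶ A) (x : T ⟶ X') (h : v ≫ π ≫ p = x ≫ p) :
    tr hW v x h ≫ π = x := by
  haveI := isIso_relMap hW
  unfold tr
  rw [Category.assoc, Category.assoc, Category.assoc, ← relMap_snd, IsIso.inv_hom_id_assoc,
    pullback.lift_snd]

lemma rel_tr {T : Scheme.{u}} (v : T ⟶ A) (x : T ⟶ X') (h : v ≫ π ≫ p = x ≫ p) :
    Rel (π ≫ p) W v (tr hW v x h) := by
  haveI := isIso_relMap hW
  refine ⟨pullback.lift v x h ≫ inv (relMap π p W) ≫ W.ι, ?_, ?_, ?_⟩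
  · rw [Category.assoc, Category.assoc, ← relMap_fst, IsIso.inv_hom_id_assoc, pullback.lift_fst]
  · unfold tr
    rw [Category.assoc, Category.assoc]
  · rintro _ ⟨x, rfl⟩
    rw [← Scheme.Opens.range_ι W]
    exact ⟨_, rfl⟩

lemma eq_tr_of_rel {T : Scheme.{u}} {v v' : T ⟶ A} (x : T ⟶ X') (h : v ≫ π ≫ p = x ≫ p)
    (hr : Rel (π ≫ p) W v v') (hx : v' ≫ π = x) : v' = tr hW v x h := by
  haveI := isIso_relMap hW
  obtain ⟨g, hg1, hg2, hgW⟩ := hr
  have hr : Set.range g ⊆ Set.range W.ι := by rwa [Scheme.Opens.range_ι]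
  let w := IsOpenImmersion.lift W.ι g hr
  have hw : w ≫ W.ι = g := IsOpenImmersion.lift_fac _ _ _
  have h1 : w ≫ relMap π p W = pullback.lift v x h := by
    apply pullback.hom_ext
    · rw [Category.assoc, relMap_fst, ← Category.assoc, hw, hg1, pullback.lift_fst]
    · rw [Category.assoc, relMap_snd, ← Category.assoc, hw, ← Category.assoc, hg2, hx, pullback.lift_snd]
  have h2 : w = pullback.lift v x h ≫ inv (relMap π p W) := by
    rw [← h1, Category.assoc, IsIso.hom_inv_id, Category.comp_id]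
  unfold tr
  rw [← hg2, ← hw, h2, Category.assoc, Category.assoc]

include hW in
lemma rel_unique {T : Scheme.{u}} {v v₁ v₂ : T ⟶ A} (h₁ : Rel (π ≫ p) W v v₁)
    (h₂ : Rel (π ≫ p) W v v₂) (h : v₁ ≫ π = v₂ ≫ π) : v₁ = v₂ := by
  have hx : v ≫ π ≫ p = (v₁ ≫ π) ≫ p := by
    have := h₁.comp_eq
    rw [Category.assoc]
    exact this
  rw [eq_tr_of_rel hW (v₁ ≫ π) hx h₁ rfl, eq_tr_of_rel hW (v₁ ≫ π) hx h₂ h.symm]

/-- the descent datum of a descent relation -/
noncomputable def toDD : Desc.SchDD p where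
  obj := Over.mk π
  φ T x₀ x₁ h :=
    { toFun := fun v => ⟨tr hW v.1 x₁ (by
        have h2 : v.1 ≫ π = x₀ := v.2
        rw [← Category.assoc, h2, h]), tr_comp hW _ _ _⟩
      invFun := fun v => ⟨tr hW v.1 x₀ (by
        have h2 : v.1 ≫ π = x₁ := v.2
        rw [← Category.assoc, h2, h]), tr_comp hW _ _ _⟩
      left_inv := fun v => by
        have h2 : v.1 ≫ π = x₀ := v.2
        apply Subtype.ext
        refine rel_unique hW (v := v.1) (hW.rel_trans (rel_tr hW _ _ _) (rel_tr hW _ _ _)) (hW.rel_refl _) ?_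
        rw [tr_comp]
        exact h2.symm
      right_inv := fun v => by
        have h2 : v.1 ≫ π = x₁ := v.2
        apply Subtype.ext
        refine rel_unique hW (v := v.1) (hW.rel_trans (rel_tr hW _ _ _) (rel_tr hW _ _ _)) (hW.rel_refl _) ?_
        rw [tr_comp]
        exact h2.symm }
  φ_natural T T' g x₀ x₁ h h' v v' hv' := by
    have h2 : v.1 ≫ π = x₀ := v.2
    have h3 : v'.1 ≫ π ≫ p = (g ≫ x₁) ≫ p := by
      rw [hv', Category.assoc, ← Category.assoc v.1, h2, h, Category.assoc]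
    change tr hW v'.1 (g ≫ x₁) h3 = g ≫ tr hW v.1 x₁ _
    refine rel_unique hW (rel_tr hW _ _ _) ?_ ?_
    · rw [hv']
      exact (rel_tr hW _ _ _).precomp g
    · rw [tr_comp, Category.assoc, tr_comp]
  φ_self T x v := by
    have h2 : v.1 ≫ π = x := v.2
    apply Subtype.ext
    refine rel_unique hW (rel_tr hW _ _ _) (hW.rel_refl _) ?_
    exact (tr_comp hW _ _ _).trans h2.symm
  φ_comp T x₀ x₁ x₂ h₀₁ h₁₂ v := by
    have h2 : v.1 ≫ π = x₀ := v.2
    apply Subtype.ext
    refine rel_unique hW (v := v.1) (hW.rel_trans (rel_tr hW _ _ _) (rel_tr hW _ _ _)) (rel_tr hW _ _ _) ?_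
    exact (tr_comp hW _ _ _).trans (tr_comp hW _ _ _).symm

end

/-- A descent relation on a finite étale cover, along a proper surjective morphism, is the kernel
pair of a finite étale quotient. -/
theorem exists_quotient [IsFinite π] [Etale π] [IsProper p] [Surjective p]
    [LocallyOfFinitePresentation p] (hW : IsDescRel π p W) :
    ∃ (U : FEt.Cat X) (θ : A ⟶ U.left), IsPullback θ π U.hom p ∧
      ∀ (T : Scheme.{u}) (v v' : T ⟶ A), Rel (π ≫ p) W v v' ↔ v ≫ θ = v' ≫ θ := by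
  have h1 : IsFinite (toDD hW).obj.hom := ‹IsFinite π›
  have h2 : Etale (toDD hW).obj.hom := ‹Etale π›
  obtain ⟨U, hU1, hU2, ⟨e⟩⟩ := Groth.Agent.Sga1.ProperDesc.effective p (toDD hW)
  -- the isomorphism of schemes over `X'`
  let r : pullback p U.hom ⟶ A := e.hom.hom.left
  let s : A ⟶ pullback p U.hom := e.inv.hom.left
  have hrs : r ≫ s = 𝟙 _ := by
    have := congrArg (fun k => k.hom.left) e.hom_inv_id
    exact this
  have hsr : s ≫ r = 𝟙 _ := by
    have := congrArg (fun k => k.hom.left) e.inv_hom_id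
    exact this
  have hs : s ≫ pullback.fst p U.hom = π := Over.w e.inv.hom
  have hpb : IsPullback (s ≫ pullback.snd p U.hom) π U.hom p := by
    have h3 : IsPullback (pullback.snd p U.hom) (pullback.fst p U.hom) U.hom p :=
      (IsPullback.of_hasPullback p U.hom).flip
    exact IsPullback.of_iso h3 ⟨r, s, hrs, hsr⟩ (Iso.refl _) (Iso.refl _) (Iso.refl _)
      (by
        change pullback.snd p U.hom ≫ 𝟙 _ = r ≫ s ≫ pullback.snd p U.hom
        rw [Category.comp_id, ← Category.assoc, hrs, Category.id_comp])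
      (by
        change pullback.fst p U.hom ≫ 𝟙 _ = r ≫ π
        rw [Category.comp_id, ← hs, ← Category.assoc, hrs, Category.id_comp])
      (by simp) (by simp)
  have key : ∀ (T : Scheme.{u}) (v v' : T ⟶ A), Rel (π ≫ p) W v v' →
      v ≫ s ≫ pullback.snd p U.hom = v' ≫ s ≫ pullback.snd p U.hom := by
    intro T v v' hr
    have hx : (v ≫ π) ≫ p = (v' ≫ π) ≫ p := by
      have := hr.comp_eq
      rw [Category.assoc, Category.assoc]
      exact this
    have hx' : v ≫ π ≫ p = (v' ≫ π) ≫ p := by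
      rw [← hx, Category.assoc]
    let v1 : Desc.Lifts (toDD hW).obj (v ≫ π) := ⟨v, rfl⟩
    let w1 : Desc.Lifts ((Desc.toDD p).obj U).obj (v ≫ π) := ⟨v ≫ s, by
      change (v ≫ s) ≫ pullback.fst p U.hom = v ≫ π
      rw [Category.assoc, hs]⟩
    have h5 := e.inv.comm (v ≫ π) (v' ≫ π) hx v1 w1 rfl
    have h6 : ((toDD hW).φ (v ≫ π) (v' ≫ π) hx v1).1 = v' :=
      (eq_tr_of_rel hW _ hx' hr rfl).symm
    rw [h6] at h5
    have h7 : (((Desc.toDD p).obj U).φ (v ≫ π) (v' ≫ π) hx w1).1 ≫ pullback.snd p U.hom =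
        (v ≫ s) ≫ pullback.snd p U.hom := pullback.lift_snd _ _ _
    rw [← Category.assoc, ← Category.assoc, ← h7, h5]
    rfl
  refine ⟨MorphismProperty.Over.mk ⊤ U.hom ⟨hU1, hU2⟩, s ≫ pullback.snd p U.hom, hpb, ?_⟩
  intro T v v'
  refine ⟨key T v v', fun h => ?_⟩
  have hx' : v ≫ π ≫ p = (v' ≫ π) ≫ p := by
    rw [Category.assoc]
    rw [← hpb.w]
    exact (Category.assoc _ _ _).symm.trans ((congrArg (· ≫ U.hom) h).trans (Category.assoc _ _ _))
  have h8 := key T v (tr hW v (v' ≫ π) hx') (rel_tr hW _ _ _)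
  have h9 : v' = tr hW v (v' ≫ π) hx' := by
    apply hpb.hom_ext
    · exact h.symm.trans h8
    · rw [tr_comp]
  rw [h9]
  exact rel_tr hW _ _ _

end K868.EffRel
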