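import Groth.Agent.Pi1.K868.VKGlue

/-! # The fundamental group of a pinched scheme is a free profinite product -/

set_option autoImplicit false

universe u v

set_option linter.unusedSectionVars false

open CategoryTheory CategoryTheory.Limits AlgebraicGeometry

namespace K868.VKMain

open K868.GeomLem K868.PtLem K868.EffRel K868.Pinch K868.VKPath K868.VKGen K868.VKGlue
open Groth.Agent.Pi1.H418.TopGen (mul_apply one_apply inv_apply path_mem_iff exists_clopen
  topGenerates_of_transitive naturality)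
open Groth.Agent.Pi1.H418.Push Groth.Agent.Pi1.H538.Act Groth.Agent.Pi1.H538.Base
open Groth.Agent.Pi1.H538.Sets (app_inv_app inv_app_app exists_cover map_hom_inv_apply map_inv_hom_apply)

section

variable {F : Type u} [Field F] {X : Scheme.{u}} {V : Type u}
  {Y : V → Scheme.{u}} {f : ∀ i, Y i ⟶ X} {E : Type v}
  {D : Data F (Sigma.desc f) E} (P : Lift D) {Ω : Type u} [Field Ω]
  {ξ : Spec (CommRingCat.of Ω) ⟶ X}
  {Ω' : V → Type u} [∀ i, Field (Ω' i)] {ξ' : ∀ i, Spec (CommRingCat.of (Ω' i)) ⟶ Y i}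

variable (σ : ∀ e, FEt.fiber (ξ' (P.v e)) ≅ FEt.fiber (P.c e))

/-- transport of paths through a pinched point -/
noncomputable def trans (e : E) : FEt.restrict (f (P.v e)) ⋙ FEt.fiber (ξ' (P.v e)) ≅
    FEt.restrict (f (P.v (D.inv e))) ⋙ FEt.fiber (ξ' (P.v (D.inv e))) :=
  Functor.isoWhiskerLeft (FEt.restrict (f (P.v e))) (σ e) ≪≫ (fiberPush (f (P.v e)) (P.c e)).symm ≪≫
    fiberCongr (P.comp_eq e) ≪≫ fiberPush (f (P.v (D.inv e))) (P.c (D.inv e)) ≪≫
      (Functor.isoWhiskerLeft (FEt.restrict (f (P.v (D.inv e)))) (σ (D.inv e))).symm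

lemma loop_eq_one (τ : ∀ i, FEt.fiber ξ ≅ FEt.restrict (f i) ⋙ FEt.fiber (ξ' i)) (e : E)
    (h : τ (P.v e) ≪≫ trans P σ e = τ (P.v (D.inv e))) : loop P σ τ e = 1 := by
  have h1 : edge P σ τ (D.inv e) = edge P σ τ e ≪≫ fiberCongr (P.comp_eq e) := by
    unfold edge
    rw [← h]
    unfold trans
    simp only [Iso.trans_assoc, Iso.symm_self_id_assoc]
    congr 4
    simp
  unfold loop loop'
  rw [h1, ← Iso.trans_assoc, Iso.self_symm_id]
  rfl

end

variable {F : Type u} [Field F] {X : Scheme.{u}} {V : Type u}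
  {Y : V → Scheme.{u}} {f : ∀ i, Y i ⟶ X} {J : Type v} [Finite J]

variable [IsAlgClosed F] [Finite V] [ConnectedSpace X]
  [∀ i, ConnectedSpace (Y i)] [IsProper (Sigma.desc f)] [Surjective (Sigma.desc f)]
  [LocallyOfFinitePresentation (Sigma.desc f)]

/-- **The fundamental group of a pinched scheme.** -/
theorem main (D : Data F (Sigma.desc f) (J × Bool)) (hinv : ∀ j b, D.inv (j, b) = (j, !b))
    {Ω : Type u} [Field Ω] [IsAlgClosed Ω] (ξ : Spec (CommRingCat.of Ω) ⟶ X)
    (Ω' : V → Type u) [∀ i, Field (Ω' i)] [∀ i, IsAlgClosed (Ω' i)]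
    (ξ' : ∀ i, Spec (CommRingCat.of (Ω' i)) ⟶ Y i) :
    ∃ (ι : ∀ i, FEt.piOne (Y i) (ξ' i) →* FEt.piOne X ξ) (hι : ∀ i, Continuous (ι i))
      (T : Finset J) (δ : J → FEt.piOne X ξ), T.card + 1 = Nat.card V ∧
      ∀ (Q : Type u) [Group Q] [Finite Q] [TopologicalSpace Q] [DiscreteTopology Q],
        Function.Bijective (fun φ : {φ : FEt.piOne X ξ →* Q // Continuous φ} =>
          ((fun i => (⟨φ.1.comp (ι i), φ.2.comp (hι i)⟩ :
              {ψ : FEt.piOne (Y i) (ξ' i) →* Q // Continuous ψ})),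
            (fun j : {j // j ∉ T} => φ.1 (δ j)))) := by
  classical
  obtain ⟨P⟩ := exists_lift D
  have hV : Nonempty V := by
    obtain ⟨x⟩ := (inferInstance : Nonempty X)
    obtain ⟨y, hy⟩ := (Sigma.desc f).surjective x
    obtain ⟨i, -, -⟩ := (sigmaOpenCover Y).exists_eq y
    exact ⟨i⟩
  let σ : ∀ e, FEt.fiber (ξ' (P.v e)) ≅ FEt.fiber (P.c e) := fun e => (Groth.Agent.S0296.result _ _).some
  have hne : ∀ i, Nonempty (FEt.fiber ξ ≅ FEt.restrict (f i) ⋙ FEt.fiber (ξ' i)) := fun i =>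
    ⟨(Groth.Agent.S0296.result ξ (ξ' i ≫ f i)).some ≪≫ fiberPush (f i) (ξ' i)⟩
  have htrue : ∀ j, D.inv (j, false) = (j, true) := fun j => hinv j false
  have hfalse : ∀ j, D.inv (j, true) = (j, false) := fun j => hinv j true
  obtain ⟨T, τ, hT, hτ, hTc⟩ := Tree.exists_tree (fun j : J => P.v (j, false))
    (fun j => P.v (D.inv (j, false))) (by
      intro Q hQ u w
      refine graph_connected P Q ?_ u w
      rintro ⟨j, _ | _⟩ hj
      · exact (hQ j).mp hj
      · have h1 := (hQ j).mpr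
        rw [htrue] at h1
        rw [hfalse]
        exact h1 hj)
    (fun i => FEt.fiber ξ ≅ FEt.restrict (f i) ⋙ FEt.fiber (ξ' i))
    (fun j => ⟨fun t => t ≪≫ trans P σ (j, false), fun t => t ≪≫ (trans P σ (j, false)).symm,
      fun t => by simp, fun t => by simp⟩)
  have hloop : ∀ j ∈ T, loop P σ τ (j, false) = 1 := fun j hj =>
    loop_eq_one P σ τ _ (hτ j hj)
  refine ⟨fun i => conj (f i) (τ i), fun i => conj_continuous (f i) (τ i), T,
    fun j => loop P σ τ (j, false), hT, ?_⟩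
  intro Q _ _ _ _
  constructor
  · rintro ⟨φ, hφ⟩ ⟨φ', hφ'⟩ h
    have h1 := congrArg Prod.fst h
    have h2 := congrArg Prod.snd h
    have h1' : ∀ i g, φ (conj (f i) (τ i) g) = φ' (conj (f i) (τ i) g) := fun i g =>
      DFunLike.congr_fun (congrArg Subtype.val (congrFun h1 i)) g
    have h2' : ∀ j, φ (loop P σ τ (j, false)) = φ' (loop P σ τ (j, false)) := by
      intro j
      by_cases hj : j ∈ T
      · rw [hloop j hj, map_one, map_one]
      · exact congrFun h2 ⟨j, hj⟩
    have h3 : Subgroup.closure (gens P σ τ) ≤ φ.eqLocus φ' := by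
      rw [Subgroup.closure_le]
      rintro g (hg | ⟨e, rfl⟩)
      · obtain ⟨i, g, rfl⟩ := Set.mem_iUnion.mp hg
        exact h1' i g
      · obtain ⟨j, _ | _⟩ := e
        · exact h2' j
        · change φ _ = φ' _
          rw [← htrue, loop_inv, map_inv, map_inv, h2']
    have h4 : IsClosed {g | φ g = φ' g} := isClosed_eq hφ hφ'
    have h5 : {g | φ g = φ' g} = Set.univ := by
      rw [← h4.closure_eq]
      exact ((topGenerates P σ τ).mono h3).closure_eq
    apply Subtype.ext
    apply MonoidHom.ext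
    intro g
    exact (h5 ▸ Set.mem_univ g : g ∈ {g | φ g = φ' g})
  · rintro ⟨ψ, q⟩
    let q' : J × Bool → Q := fun e =>
      let a := if h : e.1 ∉ T then q ⟨e.1, h⟩ else 1
      bif e.2 then a⁻¹ else a
    have hq' : ∀ e, q' (D.inv e) = (q' e)⁻¹ := by
      rintro ⟨j, _ | _⟩
      · rw [htrue]
        rfl
      · rw [hfalse]
        exact (inv_inv _).symm
    have hq1 : ∀ j ∈ T, q' (j, false) = 1 := fun j hj => dif_neg (not_not.mpr hj)
    have hq2 : ∀ (j : J) (hj : j ∉ T), q' (j, false) = q ⟨j, hj⟩ := fun j hj => dif_pos hj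
    obtain ⟨U, lam, hl1, hl2⟩ := exists_mono P σ τ (fun i => (ψ i).1) (fun i => (ψ i).2) q' hq'
    obtain ⟨u₀⟩ := hV
    have hlam : ∀ i, lam i = lam u₀ := by
      intro i
      refine hTc (fun w => lam w = lam u₀) ?_ u₀ i rfl
      intro j hj
      have h1 : lam (P.v (D.inv (j, false))) = lam (P.v (j, false)) := by
        ext x
        have h2 := hl2 (j, false) x
        rw [hloop j hj, hq1 j hj, one_mul] at h2
        exact h2
      rw [h1]
    let lam0 := lam u₀
    have h1 : ∀ i g (x : FEt.fiberObj ξ U), lam0 ((conj (f i) (τ i) g).hom.app U x) = (ψ i).1 g * lam0 x := by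
      intro i g x
      have h := hl1 i g x
      rwa [hlam] at h
    have h2 : ∀ e (x : FEt.fiberObj ξ U), lam0 ((loop P σ τ e).hom.app U x) = q' e * lam0 x := by
      intro e x
      have h := hl2 e x
      rw [hlam (P.v (D.inv e)), hlam (P.v e)] at h
      exact h
    let S : Set (FEt.piOne X ξ) := {g | ∃ a : Q, ∀ x : FEt.fiberObj ξ U, lam0 (g.hom.app U x) = a * lam0 x}
    have hS : IsClosed S := isClosed_setOf_fiber U (fun ψ => ∃ a : Q, ∀ x, lam0 (ψ x) = a * lam0 x)
    have hS1 : ∀ g ∈ Subgroup.closure (gens P σ τ), g ∈ S := by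
      intro g hg
      induction hg using Subgroup.closure_induction with
      | mem g hg =>
        obtain hg | ⟨e, rfl⟩ := hg
        · obtain ⟨i, g, rfl⟩ := Set.mem_iUnion.mp hg
          exact ⟨_, h1 i g⟩
        · exact ⟨_, h2 e⟩
      | one => exact ⟨1, fun x => (one_mul _).symm⟩
      | mul g g' _ _ hg hg' =>
        obtain ⟨a, ha⟩ := hg
        obtain ⟨a', ha'⟩ := hg'
        refine ⟨a * a', fun x => ?_⟩
        rw [mul_apply, ha, ha', mul_assoc]
      | inv g _ hg =>
        obtain ⟨a, ha⟩ := hg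
        refine ⟨a⁻¹, fun x => ?_⟩
        have h3 := ha ((g⁻¹).hom.app U x)
        rw [app_inv_app] at h3
        rw [h3, inv_mul_cancel_left]
    have hS2 : S = Set.univ := by
      rw [← hS.closure_eq]
      exact ((topGenerates P σ τ).mono hS1).closure_eq
    let x₀ : FEt.fiberObj ξ U := lam0.symm 1
    have hx₀ : lam0 x₀ = 1 := lam0.apply_symm_apply 1
    have hΦ : ∀ (g : FEt.piOne X ξ) (x : FEt.fiberObj ξ U),
        lam0 (g.hom.app U x) = lam0 (g.hom.app U x₀) * lam0 x := by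
      intro g x
      obtain ⟨a, ha⟩ : g ∈ S := hS2 ▸ Set.mem_univ g
      rw [ha, ha x₀, hx₀, mul_one]
    let Φ : FEt.piOne X ξ →* Q := MonoidHom.mk' (fun g => lam0 (g.hom.app U x₀)) (fun g g' => by
      rw [mul_apply]
      exact hΦ g _)
    have hΦc : Continuous Φ := by
      rw [continuous_discrete_rng]
      intro a
      have h3 : Φ ⁻¹' {a} = {g : FEt.piOne X ξ | g.hom.app U x₀ = lam0.symm a} := by
        ext g
        exact (Equiv.eq_symm_apply lam0).symm
      rw [h3]
      exact isOpen_setOf_app_eq U _ _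
    refine ⟨⟨Φ, hΦc⟩, ?_⟩
    refine Prod.ext ?_ ?_
    · funext i
      apply Subtype.ext
      apply MonoidHom.ext
      intro g
      exact (h1 i g x₀).trans (by rw [hx₀, mul_one])
    · funext ⟨j, hj⟩
      exact (h2 (j, false) x₀).trans (by rw [hx₀, mul_one, hq2 j hj])

end K868.VKMain
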