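import Groth.Agent.Pi1.K868.NodeFib
import Groth.Agent.Pi1.K868.VKMain
import Groth.Agent.CurvSt.K903.CINodal
import Groth.Agent.S1585
import Groth.Prelude.Def_Curv2

/-! # A nodal curve is obtained from its normalization by pinching -/

set_option autoImplicit false

universe u

set_option linter.unusedSectionVars false

open CategoryTheory CategoryTheory.Limits AlgebraicGeometry IsLocalRing

namespace K868.NodalData

open K868.NodeBr K868.NodeFib K868.Pinch K868.PtLem K868.VKPath

variable {F : Type u} [Field F] [IsAlgClosed F]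

section Points

/-- A field valued point whose image is a closed point factors through the rational point. -/
lemma exists_factor_closedPoint {Z : Scheme.{u}} (g : Z ⟶ Spec (CommRingCat.of F)) [LocallyOfFiniteType g]
    [IsSeparated g] {K : Type u} [Field K] (y : Spec (CommRingCat.of K) ⟶ Z) (w : Z)
    (hw : IsClosed ({w} : Set Z)) (h : pt y = w) : y = (y ≫ g) ≫ pointOfClosedPoint g w hw := by
  have h1 : IsClosedImmersion (pointOfClosedPoint g w hw) :=
    isClosedImmersion_of_comp_eq_id g _ (pointOfClosedPoint_comp g w hw)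
  obtain ⟨k, hk⟩ := exists_factor (pointOfClosedPoint g w hw) y
    ⟨IsLocalRing.closedPoint F, (pointOfClosedPoint_apply g w hw _).trans h.symm⟩
  have h2 : y ≫ g = k := by
    rw [← hk, Category.assoc, pointOfClosedPoint_comp, Category.comp_id]
  rw [h2, hk]

/-- Points over a closed point of a finite morphism are closed. -/
lemma isClosed_of_finite {Z W : Scheme.{u}} (p : Z ⟶ W) [IsFinite p] (z : Z)
    (h : IsClosed ({p z} : Set W)) : IsClosed ({z} : Set Z) := by
  have h1 := p.isDiscrete_preimage_singleton (p z)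
  have h2 : IsClosed (p ⁻¹' {p z}) := h.preimage p.continuous
  have : DiscreteTopology ↥(p ⁻¹' {p z}) := h1.to_subtype
  have h3 : IsClosed ({⟨z, rfl⟩} : Set ↥(p ⁻¹' {p z})) := isClosed_discrete _
  have h4 := h2.isClosedEmbedding_subtypeVal.isClosedMap _ h3
  rwa [Set.image_singleton] at h4

end Points

section Data

variable {X X' : Scheme.{u}} (g : X ⟶ Spec (CommRingCat.of F)) [LocallyOfFiniteType g] [IsSeparated g]
  (p : X' ⟶ X) [IsFinite p]

include g in
/-- The pinching data of a finite morphism to a scheme over an algebraically closed field. -/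
theorem exists_data {J : Type*} (x : J → X) (hxc : ∀ j, IsClosed ({x j} : Set X))
    (hxi : Function.Injective x)
    (h2 : ∀ j, ∃ w₀ w₁ : X', w₀ ≠ w₁ ∧ p w₀ = x j ∧ p w₁ = x j ∧ ∀ w, p w = x j → w = w₀ ∨ w = w₁)
    (h1 : ∀ z : X, IsClosed ({z} : Set X) → z ∉ Set.range x → ∀ w w' : X', p w = z → p w' = z → w = w')
    (h0 : ∀ z : X, ¬ IsClosed ({z} : Set X) → ∀ (K : Type u) [Field K] [IsAlgClosed K]
      (y y' : Spec (CommRingCat.of K) ⟶ X'), y ≫ p = y' ≫ p → pt (y ≫ p) = z → y = y') :
    ∃ D : Data F p (J × Bool), ∀ j b, D.inv (j, b) = (j, !b) := by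
  choose w₀ w₁ hne hw₀ hw₁ hall using h2
  let w : J × Bool → X' := fun e => bif e.2 then w₁ e.1 else w₀ e.1
  have hpw : ∀ e, p (w e) = x e.1 := by
    rintro ⟨j, _ | _⟩
    · exact hw₀ j
    · exact hw₁ j
  have hwc : ∀ e, IsClosed ({w e} : Set X') := fun e => isClosed_of_finite p _ (by
    rw [hpw]
    exact hxc _)
  have hwinj : ∀ e e', w e = w e' → e = e' := by
    intro e e' h
    have h3 : e.1 = e'.1 := hxi (by rw [← hpw, ← hpw, h])
    obtain ⟨j, b⟩ := e
    obtain ⟨j', b'⟩ := e'
    obtain rfl : j = j' := h3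
    cases b <;> cases b'
    · rfl
    · exact (hne j h).elim
    · exact (hne j h.symm).elim
    · rfl
  have hcomp : ∀ e, pointOfClosedPoint (p ≫ g) (w e) (hwc e) ≫ p =
      pointOfClosedPoint g (x e.1) (hxc e.1) := by
    intro e
    refine ext_of_apply_closedPoint_eq g ?_ (pointOfClosedPoint_comp _ _ _) ?_
    · rw [Category.assoc, pointOfClosedPoint_comp]
    · rw [Scheme.Hom.comp_apply, pointOfClosedPoint_apply, pointOfClosedPoint_apply, hpw]
  refine ⟨{ c := fun e => pointOfClosedPoint (p ≫ g) (w e) (hwc e)
            inv := fun e => (e.1, !e.2)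
            inv_inv := fun e => Prod.ext rfl (Bool.not_not _)
            inv_ne := fun e h => Bool.not_ne_self e.2 (congrArg Prod.snd h)
            comp := fun e => by rw [hcomp, hcomp]
            closed := fun e => isClosedImmersion_of_comp_eq_id (p ≫ g) _ (pointOfClosedPoint_comp _ _ _)
            inj := fun e e' h => by
              apply hwinj
              have h3 : ∀ e, pt (pointOfClosedPoint (p ≫ g) (w e) (hwc e)) = w e := fun e =>
                pointOfClosedPoint_apply _ _ _ _
              exact (h3 e).symm.trans (h.trans (h3 e'))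
            prop := ?_ }, fun j b => rfl⟩
  intro K _ _ y y' hyy
  have hz : p (pt y) = pt (y ≫ p) := rfl
  have hz' : p (pt y') = pt (y ≫ p) := by
    rw [hyy]
    rfl
  by_cases hc : IsClosed ({pt (y ≫ p)} : Set X)
  · have hyc : IsClosed ({pt y} : Set X') := isClosed_of_finite p _ (by rw [hz]; exact hc)
    have hyc' : IsClosed ({pt y'} : Set X') := isClosed_of_finite p _ (by rw [hz']; exact hc)
    have hstr : y ≫ p ≫ g = y' ≫ p ≫ g := by
      rw [← Category.assoc, hyy, Category.assoc]
    by_cases heq : pt y = pt y'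
    · left
      rw [exists_factor_closedPoint (p ≫ g) y (pt y) hyc rfl,
        exists_factor_closedPoint (p ≫ g) y' (pt y) hyc heq.symm, hstr]
    · right
      have hJ : pt (y ≫ p) ∈ Set.range x := by
        by_contra hcon
        exact heq (h1 _ hc hcon _ _ hz hz')
      obtain ⟨j, hj⟩ := hJ
      have h3 := hall j _ (hz.trans hj.symm)
      have h4 := hall j _ (hz'.trans hj.symm)
      have key : ∀ b, pt y = w (j, b) → pt y' = w (j, !b) →
          ∃ (e : J × Bool) (k : Spec (CommRingCat.of K) ⟶ Spec (CommRingCat.of F)),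
            y = k ≫ pointOfClosedPoint (p ≫ g) (w e) (hwc e) ∧
            y' = k ≫ pointOfClosedPoint (p ≫ g) (w (e.1, !e.2)) (hwc (e.1, !e.2)) := by
        intro b hb hb'
        refine ⟨(j, b), y ≫ p ≫ g, exists_factor_closedPoint (p ≫ g) y _ _ hb, ?_⟩
        rw [hstr]
        exact exists_factor_closedPoint (p ≫ g) y' _ _ hb'
      obtain h3 | h3 := h3
      · obtain h4 | h4 := h4
        · exact (heq (h3.trans h4.symm)).elim
        · exact key false h3 h4
      · obtain h4 | h4 := h4
        · exact key true h3 h4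
        · exact (heq (h3.trans h4.symm)).elim
  · left
    exact h0 _ hc K y y' hyy rfl

end Data

end K868.NodalData
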