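import Groth.Agent.Pi1.K868.NodalData
import Groth.Agent.Sga1.SigmaFinite
import Groth.Agent.CalgA.SerreLocal
import Groth.Agent.CurvesB.DimPts

/-! # The fundamental group of a nodal curve -/

set_option autoImplicit false

universe u

set_option linter.unusedSectionVars false

open CategoryTheory CategoryTheory.Limits AlgebraicGeometry IsLocalRing

namespace K868.NodalMain

open K868.NodeBr K868.NodeFib K868.Pinch K868.PtLem K868.VKPath K868.NodalData

section General

variable (F : Type u) [Field F] [IsAlgClosed F] (X : Scheme.{u}) [X.Over (Spec (CommRingCat.of F))]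
  [IsProper (X ↘ Spec (CommRingCat.of F))] [AlgebraicGeometry.IsReduced X]

/-- the singular closed points -/
abbrev Sing : Type u := {x : ↥X // IsClosed ({x} : Set ↥X) ∧
  ∀ U : X.Opens, x ∈ U → ¬ Smooth (U.ι ≫ (X ↘ Spec (CommRingCat.of F)))}

instance : LocallyOfFinitePresentation (X ↘ Spec (CommRingCat.of F)) :=
  LocallyOfFinitePresentation.iff_locallyOfFiniteType.2 inferInstance

lemma mem_smoothLocus_iff (x : X) : x ∉ (X ↘ Spec (CommRingCat.of F)).smoothLocus ↔
    ∀ U : X.Opens, x ∈ U → ¬ Smooth (U.ι ≫ (X ↘ Spec (CommRingCat.of F))) := by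
  rw [K903.NonsmoothFin.mem_smoothLocus_iff_exists]
  push Not
  rfl

include F in
lemma isNoetherian : IsNoetherian X := by
  have h1 : IsLocallyNoetherian X := LocallyOfFiniteType.isLocallyNoetherian (X ↘ Spec (CommRingCat.of F))
  have h2 : CompactSpace X := QuasiCompact.compactSpace_of_compactSpace (X ↘ Spec (CommRingCat.of F))
  exact {}

lemma finite_sing (hdim : topologicalKrullDim X = 1) : Finite (Sing F X) := by
  have hN := isNoetherian F X
  let Z : Set X := ((X ↘ Spec (CommRingCat.of F)).smoothLocus : Set X)ᶜ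
  have hZ : IsClosed Z := (X ↘ Spec (CommRingCat.of F)).smoothLocus.2.isClosed_compl
  have hZc : ∀ z ∈ Z, IsClosed ({z} : Set X) := fun z hz =>
    K903.CINodal.isClosed_of_nonsmooth F X hdim.le z hz
  have hZf : Z.Finite := by
    obtain ⟨S, hS, hSc, hSi, hSZ⟩ := TopologicalSpace.NoetherianSpace.exists_finite_set_isClosed_irreducible hZ
    rw [hSZ]
    refine hS.sUnion ?_
    intro T hT
    have hTi := hSi T hT
    have h1 : hTi.genericPoint ∈ T := by
      have h3 := hTi.genericPoint_closure_eq
      rw [(hSc T hT).closure_eq] at h3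
      exact h3.subset (subset_closure rfl)
    have h2 : hTi.genericPoint ∈ Z := by
      rw [hSZ]
      exact ⟨T, hT, h1⟩
    have h3 := hTi.genericPoint_closure_eq
    rw [(hSc T hT).closure_eq, (hZc _ h2).closure_eq] at h3
    rw [← h3]
    exact Set.finite_singleton _
  have : Finite Z := hZf
  refine Finite.of_injective (β := Z) (fun x : Sing F X => ⟨x.1, (mem_smoothLocus_iff F X x.1).mpr x.2.2⟩) ?_
  intro x x' h
  have h1 : x.1 = x'.1 := congrArg (fun z : Z => z.1) h
  exact Subtype.ext h1

lemma ringKrullDim_eq_one (hdim : topologicalKrullDim X = 1) (x : X)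
    (hx : x ∉ (X ↘ Spec (CommRingCat.of F)).smoothLocus) : ringKrullDim (X.presheaf.stalk x) = 1 := by
  refine le_antisymm ((Groth.Agent.CurvesB.DimPts.ringKrullDim_stalk_le x).trans hdim.le) ?_
  by_contra hlt
  have h2 : ringKrullDim (X.presheaf.stalk x) ≤ 0 := by
    have h3 : ringKrullDim (X.presheaf.stalk x) < ((0 : ℕ) : WithBot ℕ∞) + 1 := by
      rw [Nat.cast_zero, zero_add]
      exact not_le.1 hlt
    exact ENat.WithBot.lt_add_one_iff.1 h3
  have h3 : Ring.KrullDimLE 0 (X.presheaf.stalk x) := Ring.krullDimLE_iff.2 h2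
  have h4 : IsField (X.presheaf.stalk x) := by
    rw [isField_iff_maximalIdeal_eq, ← Ring.KrullDimLE.nilradical_eq_maximalIdeal,
      nilradical_eq_bot_iff]
    infer_instance
  have h5 : IsRegularLocalRing (X.presheaf.stalk x) := by
    have := h4.isDomain
    have := h4.isPrincipalIdealRing
    infer_instance
  exact hx (((Groth.Agent.S1561.result F X).1 x).2 h5)

lemma numBranches_smooth (hdim : topologicalKrullDim X = 1) (x : X)
    (hx : x ∈ (X ↘ Spec (CommRingCat.of F)).smoothLocus) : Brnch.numBranches (X.presheaf.stalk x) = 1 := by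
  have h1 : IsRegularLocalRing (X.presheaf.stalk x) := ((Groth.Agent.S1561.result F X).1 x).1 hx
  obtain ⟨h2, h3⟩ := Groth.Agent.CalgA.SerreLocal.isIntegrallyClosed_of_isRegularLocalRing
    ((Groth.Agent.CurvesB.DimPts.ringKrullDim_stalk_le x).trans hdim.le)
  exact numBranches_of_normal _

lemma numBranches_node (hdim : topologicalKrullDim X = 1) (hnod : Curv2.AtWorstNodal F X) (x : Sing F X) :
    Brnch.numBranches (X.presheaf.stalk x.1) = 2 := by
  have h1 := (mem_smoothLocus_iff F X x.1).mpr x.2.2
  obtain ⟨U, hxU, hU⟩ | h := hnod x.1 x.2.1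
  · exact (x.2.2 U hxU hU).elim
  · exact numBranches_of_isNode F X x.1 h (ringKrullDim_eq_one F X hdim x.1 h1)

end General

section Curve

variable (F : Type u) [Field F] [IsAlgClosed F] (X : Scheme.{u}) [X.Over (Spec (CommRingCat.of F))]
  [IsProper (X ↘ Spec (CommRingCat.of F))] [AlgebraicGeometry.IsReduced X]
  {V : Type u} [Finite V] (C : V → Scheme.{u}) (κ : ∀ j, C j ⟶ X) [∀ j, IsClosedImmersion (κ j)]
  [∀ j, AlgebraicGeometry.IsIntegral (C j)]
  (hC : ∀ j, Set.range (fun c : ↥(C j) => (κ j) c) ∈ irreducibleComponents ↥X)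
  (hCb : Function.Bijective (fun j : V =>
    (⟨Set.range (fun c : ↥(C j) => (κ j) c), hC j⟩ : irreducibleComponents ↥X)))
  [∀ j, QuasiCompact ((C j).fromSpecStalk (genericPoint (C j)))]
  [∀ j, QuasiSeparated ((C j).fromSpecStalk (genericPoint (C j)))]

/-- the normalization of a component, mapped to the curve -/
noncomputable abbrev nf (j : V) : Curv2.normalization (C j) ⟶ X := Curv2.normalizationι (C j) ≫ κ j

include F κ in
lemma normalization_data (j : V) : IsFinite (Curv2.normalizationι (C j)) ∧
    IsDominant (Curv2.normalizationι (C j)) ∧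
    (∃ U : (C j).Opens, (U : Set (C j)).Nonempty ∧ IsIso (Curv2.normalizationι (C j) ∣_ U)) ∧
    AlgebraicGeometry.IsIntegral (Curv2.normalization (C j)) ∧
    Pi1.IsNormalScheme (Curv2.normalization (C j)) := by
  let _ : (C j).Over (Spec (CommRingCat.of F)) := ⟨κ j ≫ (X ↘ Spec (CommRingCat.of F))⟩
  have : LocallyOfFiniteType ((C j) ↘ Spec (CommRingCat.of F)) :=
    inferInstanceAs (LocallyOfFiniteType (κ j ≫ (X ↘ Spec (CommRingCat.of F))))
  exact Groth.Agent.S1585.result F (C j)

include F in
lemma isFinite_p : IsFinite (Sigma.desc (nf X C κ)) := by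
  have h : ∀ j, IsFinite (nf X C κ j) := fun j => by
    have := (normalization_data F X C κ j).1
    infer_instance
  exact Groth.Agent.Sga1.SigmaFinite.isFinite_sigmaDesc (nf X C κ)

include hCb in
lemma card_fibre_p (x : X) : ENat.card {w : ↥(∐ fun j => Curv2.normalization (C j)) //
    Sigma.desc (nf X C κ) w = x} = Brnch.numBranches (X.presheaf.stalk x) := by
  rw [← card_fibre C κ hC hCb x]
  refine (ENat.card_congr ((sigmaMk (fun j => Curv2.normalization (C j))).toEquiv.subtypeEquiv ?_)).symm
  rintro ⟨j, y⟩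
  have h1 : Sigma.desc (nf X C κ) (sigmaMk (fun j => Curv2.normalization (C j)) ⟨j, y⟩) =
      κ j (Curv2.normalizationι (C j) y) := by
    rw [sigmaMk_mk, ← Scheme.Hom.comp_apply, Sigma.ι_desc]
    rfl
  exact iff_of_eq (congrArg (· = x) h1.symm)

include F hCb in
lemma surjective_p : Surjective (Sigma.desc (nf X C κ)) := by
  refine ⟨fun x => ?_⟩
  obtain ⟨j, hj⟩ := hCb.2 ⟨irreducibleComponent x, irreducibleComponent_mem_irreducibleComponents x⟩
  have hj' : Set.range (κ j) = irreducibleComponent x := congrArg Subtype.val hj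
  obtain ⟨c, rfl⟩ : x ∈ Set.range (κ j) := hj' ▸ mem_irreducibleComponent
  obtain ⟨h1, h2, -⟩ := normalization_data F X C κ j
  have h3 : Surjective (Curv2.normalizationι (C j)) := by
    refine ⟨fun z => ?_⟩
    have h4 : Set.range (Curv2.normalizationι (C j)) = Set.univ := by
      rw [← (Curv2.normalizationι (C j)).isClosedMap.isClosed_range.closure_eq]
      exact (Curv2.normalizationι (C j)).denseRange.closure_range
    have h5 : z ∈ Set.range (Curv2.normalizationι (C j)) := by rw [h4]; trivial
    exact h5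
  obtain ⟨w, rfl⟩ := h3.surj c
  refine ⟨Sigma.ι (fun j => Curv2.normalization (C j)) j w, ?_⟩
  rw [← Scheme.Hom.comp_apply, Sigma.ι_desc]
  rfl

include F in
lemma lofp_p : LocallyOfFinitePresentation (Sigma.desc (nf X C κ)) := by
  have h1 : IsLocallyNoetherian X := LocallyOfFiniteType.isLocallyNoetherian (X ↘ Spec (CommRingCat.of F))
  have h2 := isFinite_p F X C κ
  exact LocallyOfFinitePresentation.iff_locallyOfFiniteType.2 inferInstance

include F hCb in
/-- Points of the normalization with the same non-closed image agree. -/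
lemma eq_of_not_isClosed (hdim : topologicalKrullDim X = 1) (z : X) (hz : ¬ IsClosed ({z} : Set X))
    {K : Type u} [Field K] (y y' : Spec (CommRingCat.of K) ⟶ ∐ fun j => Curv2.normalization (C j))
    (hyy : y ≫ Sigma.desc (nf X C κ) = y' ≫ Sigma.desc (nf X C κ))
    (hyz : pt (y ≫ Sigma.desc (nf X C κ)) = z) : y = y' := by
  obtain ⟨i, y, rfl⟩ := exists_factor_sigma _ y
  obtain ⟨i', y', rfl⟩ := exists_factor_sigma _ y'
  rw [Category.assoc, Sigma.ι_desc] at hyz
  rw [Category.assoc, Category.assoc, Sigma.ι_desc, Sigma.ι_desc] at hyy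
  have hgen : ∀ q : X, q ⤳ z → q = z := by
    intro q hq
    by_contra hne
    exact hz (K903.CINodal.isClosed_of_chain hdim.le hq hne)
  -- the image on the component is the generic point
  have key : ∀ (i : V) (y : Spec (CommRingCat.of K) ⟶ Curv2.normalization (C i)),
      pt (y ≫ nf X C κ i) = z → κ i (genericPoint (C i)) = z ∧
        Curv2.normalizationι (C i) (pt y) = genericPoint (C i) := by
    intro i y h
    have h1 : κ i (Curv2.normalizationι (C i) (pt y)) = z := h
    have h2 : κ i (genericPoint (C i)) ⤳ z := by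
      rw [← h1]
      exact (genericPoint_specializes _).map (κ i).continuous
    have h3 := hgen _ h2
    exact ⟨h3, (κ i).isClosedEmbedding.injective (h1.trans h3.symm)⟩
  obtain ⟨h1, h2⟩ := key i y hyz
  obtain ⟨h1', h2'⟩ := key i' y' (by rw [← hyy]; exact hyz)
  have hii : i = i' := by
    apply hCb.1
    apply Subtype.ext
    change Set.range (κ i) = Set.range (κ i')
    rw [← closure_generic (κ i), ← closure_generic (κ i'), h1, h1']
  subst hii
  congr 1
  have h3 : y ≫ Curv2.normalizationι (C i) = y' ≫ Curv2.normalizationι (C i) := by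
    rw [← cancel_mono (κ i), Category.assoc, Category.assoc]
    exact hyy
  obtain ⟨-, -, ⟨U, hU, hiso⟩, -⟩ := normalization_data F X C κ i
  have hηU : genericPoint (C i) ∈ U := by
    obtain ⟨u, hu⟩ := hU
    exact (genericPoint_specializes u).mem_open U.2 hu
  have hlift : ∀ y : Spec (CommRingCat.of K) ⟶ Curv2.normalization (C i),
      Curv2.normalizationι (C i) (pt y) = genericPoint (C i) →
      ∃ t : Spec (CommRingCat.of K) ⟶ ((Curv2.normalizationι (C i) ⁻¹ᵁ U : _) : Scheme.{u}),
        t ≫ (Curv2.normalizationι (C i) ⁻¹ᵁ U).ι = y := by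
    intro y hy
    refine ⟨IsOpenImmersion.lift _ y ?_, IsOpenImmersion.lift_fac _ _ _⟩
    rw [Scheme.Opens.range_ι]
    rintro _ ⟨x, rfl⟩
    obtain rfl : x = IsLocalRing.closedPoint K := Subsingleton.elim (α := PrimeSpectrum K) _ _
    change Curv2.normalizationι (C i) (pt y) ∈ U
    rw [hy]
    exact hηU
  obtain ⟨t, rfl⟩ := hlift y h2
  obtain ⟨t', rfl⟩ := hlift y' h2'
  congr 1
  rw [Category.assoc, Category.assoc, ← morphismRestrict_ι, ← Category.assoc, ← Category.assoc,
    cancel_mono, cancel_mono] at h3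
  exact h3

include hCb in
theorem exists_data (hdim : topologicalKrullDim X = 1) (hnod : Curv2.AtWorstNodal F X) :
    ∃ D : Data F (Sigma.desc (nf X C κ)) (Sing F X × Bool), ∀ j b, D.inv (j, b) = (j, !b) := by
  have hfin := isFinite_p F X C κ
  refine NodalData.exists_data (X ↘ Spec (CommRingCat.of F)) (Sigma.desc (nf X C κ))
    (fun x : Sing F X => x.1) (fun x => x.2.1) Subtype.val_injective ?_ ?_ ?_
  · intro x
    have h1 := card_fibre_p X C κ hC hCb x.1
    rw [numBranches_node F X hdim hnod x] at h1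
    have h2 : Nat.card {w : ↥(∐ fun j => Curv2.normalization (C j)) //
        Sigma.desc (nf X C κ) w = x.1} = 2 := by
      change ENat.toNat (ENat.card _) = 2
      rw [h1]
      rfl
    obtain ⟨a, b, hab, huniv⟩ := Nat.card_eq_two_iff.mp h2
    refine ⟨a.1, b.1, fun h => hab (Subtype.ext h), a.2, b.2, fun w hw => ?_⟩
    have h3 : (⟨w, hw⟩ : {w : ↥(∐ fun j => Curv2.normalization (C j)) //
        Sigma.desc (nf X C κ) w = x.1}) ∈ ({a, b} : Set _) := huniv ▸ Set.mem_univ _
    obtain h3 | h3 := h3
    · exact Or.inl (congrArg Subtype.val h3)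
    · exact Or.inr (congrArg Subtype.val h3)
  · intro z hz hzx w w' hw hw'
    have hs : z ∈ (X ↘ Spec (CommRingCat.of F)).smoothLocus := by
      by_contra hcon
      exact hzx ⟨⟨z, hz, (mem_smoothLocus_iff F X z).mp hcon⟩, rfl⟩
    have h1 := card_fibre_p X C κ hC hCb z
    rw [numBranches_smooth F X hdim z hs] at h1
    have h2 : Nat.card {w : ↥(∐ fun j => Curv2.normalization (C j)) //
        Sigma.desc (nf X C κ) w = z} = 1 := by
      change ENat.toNat (ENat.card _) = 1
      rw [h1]
      rfl
    obtain ⟨h3, -⟩ := Nat.card_eq_one_iff_unique.mp h2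
    exact congrArg Subtype.val (h3.elim ⟨w, hw⟩ ⟨w', hw'⟩)
  · intro z hz K _ _ y y' hyy hyz
    exact eq_of_not_isClosed F X C κ hC hCb hdim z hz y y' hyy hyz

end Curve

end K868.NodalMain
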