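import Groth.Agent.S7657
import Groth.Agent.Brnch.K580.SumMin
import Groth.Agent.StrictSS.K866.StalkAlg
import Groth.Agent.VarietyA.GeomRed
import Groth.Agent.Pi1.K868.NodeBr

/-! # The fibres of the normalization of a scheme with finitely many components -/

set_option autoImplicit false

universe u

open CategoryTheory CategoryTheory.Limits AlgebraicGeometry IsLocalRing

namespace K868.NodeFib

open K868.NodeBr

section

variable {W X : Scheme.{u}} (e : W ⟶ X) [IsClosedImmersion e] [IsIntegral W]
  (hZ : Set.range e ∈ irreducibleComponents X)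

lemma closure_generic : closure {e (genericPoint W)} = Set.range e := by
  have h1 : IsGenericPoint (genericPoint W) (Set.univ : Set W) := genericPoint_spec W
  have h2 := h1.image e.continuous
  rw [Set.image_univ, e.isClosedEmbedding.isClosed_range.closure_eq] at h2
  exact h2

include hZ in
/-- The local ring of an irreducible component is the quotient by a minimal prime. -/
theorem exists_stalkHom (w : W) (x : X) (h : e w = x) :
    ∃ φ : X.presheaf.stalk x →+* W.presheaf.stalk w, Function.Surjective φ ∧
      ∃ hm : RingHom.ker φ ∈ minimalPrimes (X.presheaf.stalk x),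
        X.fromSpecStalk x (⟨RingHom.ker φ, hm.1.1⟩ : PrimeSpectrum (X.presheaf.stalk x)) =
          e (genericPoint W) := by
  subst h
  have hm := K866.StalkAlg.ker_stalkMap_mem_minimalPrimes e hZ w
  refine ⟨(e.stalkMap w).hom, e.stalkMap_surjective w, hm, ?_⟩
  let bw : Spec (W.presheaf.stalk w) := (⟨⊥, Ideal.isPrime_bot⟩ : PrimeSpectrum _)
  let pp : Spec (X.presheaf.stalk (e w)) := (⟨RingHom.ker (e.stalkMap w).hom, hm.1.1⟩ : PrimeSpectrum _)
  have h1 : Spec.map (e.stalkMap w) bw = pp := by
    apply PrimeSpectrum.ext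
    rfl
  have h2 : X.fromSpecStalk (e w) pp = e (W.fromSpecStalk w bw) := by
    rw [← h1, ← Scheme.Hom.comp_apply, Scheme.SpecMap_stalkMap_fromSpecStalk,
      Scheme.Hom.comp_apply]
  have h3 : W.fromSpecStalk w bw = genericPoint W := by
    have h4 : genericPoint W ∈ Set.range (W.fromSpecStalk w) := by
      rw [Scheme.range_fromSpecStalk]
      exact genericPoint_specializes w
    obtain ⟨g, hg⟩ := h4
    have h5 : bw ⤳ g := (PrimeSpectrum.le_iff_specializes _ _).1 bot_le
    have h6 : W.fromSpecStalk w bw ⤳ genericPoint W := by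
      rw [← hg]
      exact h5.map (W.fromSpecStalk w).continuous
    exact (h6.antisymm (genericPoint_specializes _)).eq
  rw [← h3]
  exact h2

end

variable {X : Scheme.{u}} {ι : Type*} [Finite ι] (C : ι → Scheme.{u}) (κ : ∀ j, C j ⟶ X)
  [∀ j, IsClosedImmersion (κ j)] [∀ j, IsIntegral (C j)]
  (hC : ∀ j, Set.range (fun c : ↥(C j) => (κ j) c) ∈ irreducibleComponents ↥X)
  (hCb : Function.Bijective (fun j : ι =>
    (⟨Set.range (fun c : ↥(C j) => (κ j) c), hC j⟩ : irreducibleComponents ↥X)))
  [∀ j, QuasiCompact ((C j).fromSpecStalk (genericPoint (C j)))]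
  [∀ j, QuasiSeparated ((C j).fromSpecStalk (genericPoint (C j)))]

include hCb in
/-- The number of points of the normalization over a point is the number of branches. -/
theorem card_fibre (x : X) :
    ENat.card {z : Σ j, ↥(Curv2.normalization (C j)) //
      κ z.1 (Curv2.normalizationι (C z.1) z.2) = x} = Brnch.numBranches (X.presheaf.stalk x) := by
  classical
  let S := {j : ι // x ∈ Set.range (κ j)}
  choose c hc using fun j : S => j.2
  have h1 : ∀ j : S, ∃ φ : X.presheaf.stalk x →+* (C j.1).presheaf.stalk (c j), Function.Surjective φ ∧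
      ∃ hm : RingHom.ker φ ∈ minimalPrimes (X.presheaf.stalk x),
        X.fromSpecStalk x (⟨RingHom.ker φ, hm.1.1⟩ : PrimeSpectrum (X.presheaf.stalk x)) =
          κ j.1 (genericPoint (C j.1)) := fun j => exists_stalkHom (κ j.1) (hC j.1) (c j) x (hc j)
  choose φ hφs hφm hφg using h1
  let Ψ : S → minimalPrimes (X.presheaf.stalk x) := fun j => ⟨RingHom.ker (φ j), hφm j⟩
  have hΨ : Function.Bijective Ψ := by
    constructor
    · intro j j' h
      have h2 : κ j.1 (genericPoint (C j.1)) = κ j'.1 (genericPoint (C j'.1)) := by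
        rw [← hφg j, ← hφg j']
        congr 1
        apply PrimeSpectrum.ext
        exact congrArg Subtype.val h
      have h3 : Set.range (κ j.1) = Set.range (κ j'.1) := by
        rw [← closure_generic (κ j.1), ← closure_generic (κ j'.1), h2]
      exact Subtype.ext (hCb.1 (Subtype.ext h3))
    · rintro ⟨q, hq⟩
      let w : Spec (X.presheaf.stalk x) := (⟨q, hq.1.1⟩ : PrimeSpectrum (X.presheaf.stalk x))
      have h2 : closure {X.fromSpecStalk x w} ∈ irreducibleComponents (X : Type u) :=
        Groth.Agent.VarietyA.GeomRed.closure_mem_irreducibleComponents x w hq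
      obtain ⟨j, hj⟩ := hCb.2 ⟨_, h2⟩
      have hj' : Set.range (κ j) = closure {X.fromSpecStalk x w} := congrArg Subtype.val hj
      have h3 : X.fromSpecStalk x w ⤳ x := by
        have : X.fromSpecStalk x w ∈ Set.range (X.fromSpecStalk x) := ⟨w, rfl⟩
        rwa [Scheme.range_fromSpecStalk] at this
      have hjS : x ∈ Set.range (κ j) := by
        rw [hj', ← specializes_iff_mem_closure]
        exact h3
      refine ⟨⟨j, hjS⟩, ?_⟩
      apply Subtype.ext
      have h4 := hφg ⟨j, hjS⟩
      have h5 : κ j (genericPoint (C j)) = X.fromSpecStalk x w := by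
        have h6 : closure {κ j (genericPoint (C j))} = closure {X.fromSpecStalk x w} := by
          rw [closure_generic, hj']
        exact (inseparable_iff_closure_eq.mpr h6).eq
      have h7 := (X.fromSpecStalk x).isEmbedding.injective (h4.trans h5)
      exact congrArg PrimeSpectrum.asIdeal h7
  have hfinS : Finite S := inferInstance
  have hfin : Finite (minimalPrimes (X.presheaf.stalk x)) := Finite.of_surjective Ψ hΨ.2
  have hfin' : (minimalPrimes (X.presheaf.stalk x)).Finite := Set.toFinite _
  cases nonempty_fintype S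
  cases nonempty_fintype (minimalPrimes (X.presheaf.stalk x))
  rw [K580.SumMin.numBranches_eq_sum _ hfin', finsum_eq_sum_of_fintype]
  rw [← (Equiv.ofBijective Ψ hΨ).sum_comp]
  let T := fun j : S => {y : ↥(Curv2.normalization (C j.1)) // Curv2.normalizationι (C j.1) y = c j}
  let Θ : {z : Σ j, ↥(Curv2.normalization (C j)) //
      κ z.1 (Curv2.normalizationι (C z.1) z.2) = x} ≃ Σ j : S, T j :=
    { toFun := fun z => ⟨⟨z.1.1, ⟨_, z.2⟩⟩, ⟨z.1.2, (κ z.1.1).isClosedEmbedding.injective
        (z.2.trans (hc ⟨z.1.1, ⟨_, z.2⟩⟩).symm)⟩⟩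
      invFun := fun t => ⟨⟨t.1.1, t.2.1⟩, by
        rw [t.2.2]
        exact hc t.1⟩
      left_inv := fun z => rfl
      right_inv := fun t => rfl }
  rw [ENat.card_congr Θ, K580.PiSpec.enatCard_sigma]
  refine Finset.sum_congr rfl fun j _ => ?_
  have h8 := (Groth.Agent.S7657.result (C j.1) (c j)).1
  refine h8.symm.trans ?_
  have hpr : (RingHom.ker (φ j)).IsPrime := (hφm j).1.1
  have hloc := K580.SumMin.isLocalRing_quot (X.presheaf.stalk x) (RingHom.ker (φ j))
  exact (numBranches_congr (RingHom.quotientKerEquivOfSurjective (hφs j))).symm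

end K868.NodeFib
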