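import Mathlib.AlgebraicGeometry.AlgClosed.Basic
import Mathlib.AlgebraicGeometry.Morphisms.ClosedImmersion
import Mathlib.AlgebraicGeometry.Morphisms.QuasiFinite
import Mathlib.AlgebraicGeometry.Morphisms.FlatMono
import Groth.Agent.Pi1.K868.GeomLem

/-! # Geometric points, closed immersions and finite morphisms -/

set_option autoImplicit false

universe u

open CategoryTheory CategoryTheory.Limits AlgebraicGeometry

namespace K868.PtLem

/-- A morphism between spectra of fields is an epimorphism. -/
theorem epi_Spec {K L : Type u} [Field K] [Field L]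
    (a : Spec (CommRingCat.of L) ⟶ Spec (CommRingCat.of K)) : Epi a := by
  obtain ⟨φ, rfl⟩ := Spec.map_surjective a
  algebraize [φ.hom]
  have h1 : Flat (Spec.map φ) := by
    rw [Flat.SpecMap_iff]
    exact inferInstanceAs (Module.Flat K L)
  have h2 : Surjective (Spec.map φ) :=
    ⟨fun x => ⟨IsLocalRing.closedPoint L, Subsingleton.elim (α := PrimeSpectrum K) _ _⟩⟩
  exact Flat.epi_of_flat_of_surjective _

/-- A field valued point whose image lies in a closed subscheme factors through it. -/
theorem exists_factor {Z Y : Scheme.{u}} (i : Z ⟶ Y) [IsClosedImmersion i] {K : Type u} [Field K]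
    (g : Spec (CommRingCat.of K) ⟶ Y) (h : g (IsLocalRing.closedPoint K) ∈ Set.range i) :
    ∃ k : Spec (CommRingCat.of K) ⟶ Z, k ≫ i = g := by
  have hs : Surjective (pullback.snd i g) := by
    refine ⟨fun x => ?_⟩
    obtain ⟨z, hz⟩ := h
    have hx : x = IsLocalRing.closedPoint K := Subsingleton.elim (α := PrimeSpectrum K) _ _
    subst hx
    obtain ⟨w, -, hw⟩ := Scheme.Pullback.exists_preimage_pullback z _ hz
    exact ⟨w, hw⟩
  have hi : IsIso (pullback.snd i g) := isIso_of_isClosedImmersion_of_surjective _
  refine ⟨inv (pullback.snd i g) ≫ pullback.fst i g, ?_⟩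
  rw [Category.assoc, pullback.condition, IsIso.inv_hom_id_assoc]

/-- A point of a finite scheme over `X'` with values in an algebraically closed extension is already
defined over the smaller algebraically closed field. -/
theorem exists_descent {A X' : Scheme.{u}} (π : A ⟶ X') [IsFinite π] {F K : Type u} [Field F]
    [IsAlgClosed F] [Field K] (c : Spec (CommRingCat.of F) ⟶ X')
    (k : Spec (CommRingCat.of K) ⟶ Spec (CommRingCat.of F)) (v : Spec (CommRingCat.of K) ⟶ A)
    (h : v ≫ π = k ≫ c) :
    ∃ s : Spec (CommRingCat.of F) ⟶ A, s ≫ π = c ∧ k ≫ s = v := by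
  have hd : DiscreteTopology ↥(pullback π c) := by
    let z : Spec (CommRingCat.of F) := IsLocalRing.closedPoint F
    have h1 := (pullback.snd π c).isDiscrete_preimage_singleton z
    have h2 : (pullback.snd π c) ⁻¹' {z} = Set.univ := by
      refine Set.eq_univ_of_forall fun w => ?_
      exact Subsingleton.elim (α := PrimeSpectrum F) _ _
    rw [h2] at h1
    exact isDiscrete_univ_iff.mp h1
  let w : Spec (CommRingCat.of K) ⟶ pullback π c := pullback.lift v k h
  let x := w (IsLocalRing.closedPoint K)
  have hx : IsClosed ({x} : Set ↥(pullback π c)) := isClosed_discrete _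
  let s₀ := pointOfClosedPoint (pullback.snd π c) x hx
  have h3 : s₀ ≫ pullback.snd π c = 𝟙 _ := pointOfClosedPoint_comp _ _ _
  have h4 : IsClosedImmersion s₀ := isClosedImmersion_of_comp_eq_id _ _ h3
  obtain ⟨k', hk'⟩ := exists_factor s₀ w ⟨IsLocalRing.closedPoint F, pointOfClosedPoint_apply _ _ _ _⟩
  have h5 : k' = k := by
    rw [← Category.comp_id k', ← h3, ← Category.assoc, hk', pullback.lift_snd]
  refine ⟨s₀ ≫ pullback.fst π c, ?_, ?_⟩
  · rw [Category.assoc, pullback.condition, ← Category.assoc, h3, Category.id_comp]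
  · rw [← h5, ← Category.assoc, hk', pullback.lift_fst]

end K868.PtLem
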