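import Groth.Agent.S0294
import Groth.Agent.Pi1.K868.EffRel
import Groth.Agent.Pi1.K868.PtLem

/-! # Gluing finite étale covers along pairs of rational points

`p : X' ⟶ X` is a proper surjective morphism which, on geometric points, only identifies the points
`c e` and `c (inv e)` for `e` in a finite set `E`.  A finite étale cover `A` of `X'` together with an
identification of the fibres over `c e` and `c (inv e)` comes from a finite étale cover of `X`.
-/

set_option autoImplicit false

universe u v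

set_option linter.unusedSectionVars false

open CategoryTheory CategoryTheory.Limits AlgebraicGeometry

namespace K868.Pinch

open K868.GeomLem K868.PtLem K868.EffRel

/-- the point of a field valued point -/
noncomputable abbrev pt {K : Type u} [Field K] {Y : Scheme.{u}} (y : Spec (CommRingCat.of K) ⟶ Y) : Y :=
  y (IsLocalRing.closedPoint K)

lemma pt_comp {K : Type u} [Field K] {Y Z : Scheme.{u}} (y : Spec (CommRingCat.of K) ⟶ Y) (f : Y ⟶ Z) :
    pt (y ≫ f) = f (pt y) := rfl

lemma pt_precomp {K L : Type u} [Field K] [Field L] {Y : Scheme.{u}}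
    (k : Spec (CommRingCat.of L) ⟶ Spec (CommRingCat.of K)) (y : Spec (CommRingCat.of K) ⟶ Y) :
    pt (k ≫ y) = pt y := by
  rw [pt_comp]
  exact congrArg y (Subsingleton.elim (α := PrimeSpectrum K) _ _)

variable (F : Type u) [Field F] {X' X : Scheme.{u}}

/-- A morphism which, on geometric points, only identifies the rational points `c e` and `c (inv e)`. -/
structure Data (p : X' ⟶ X) (E : Type v) where
  c : E → (Spec (CommRingCat.of F) ⟶ X')
  inv : E → E
  inv_inv : ∀ e, inv (inv e) = e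
  inv_ne : ∀ e, inv e ≠ e
  comp : ∀ e, c (inv e) ≫ p = c e ≫ p
  closed : ∀ e, IsClosedImmersion (c e)
  inj : ∀ e e', pt (c e) = pt (c e') → e = e'
  prop : ∀ (K : Type u) [Field K] [IsAlgClosed K] (y y' : Spec (CommRingCat.of K) ⟶ X'), y ≫ p = y' ≫ p →
    y = y' ∨ ∃ (e : E) (k : Spec (CommRingCat.of K) ⟶ Spec (CommRingCat.of F)),
      y = k ≫ c e ∧ y' = k ≫ c (inv e)

variable {F} {p : X' ⟶ X} {E : Type v} (D : Data F p E)

attribute [instance] Data.closed

lemma Data.eq_of_comp {K : Type u} [Field K] {e e' : E} {k k' : Spec (CommRingCat.of K) ⟶ Spec (CommRingCat.of F)}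
    (h : k ≫ D.c e = k' ≫ D.c e') : e = e' ∧ k = k' := by
  have h1 : e = e' := by
    apply D.inj
    rw [← pt_precomp k, ← pt_precomp k', h]
  subst h1
  exact ⟨rfl, (cancel_mono (D.c e)).mp h⟩

variable {A : Scheme.{u}} (π : A ⟶ X')

/-- Identifications of the fibres over `c e` and `c (inv e)`. -/
structure Gluing where
  φ : (Spec (CommRingCat.of F) ⟶ A) → (Spec (CommRingCat.of F) ⟶ A)
  ov : ∀ e s, s ≫ π = D.c e → φ s ≫ π = D.c (D.inv e)
  invol : ∀ e s, s ≫ π = D.c e → φ (φ s) = s

variable {D π} (G : Gluing D π)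

/-- the relation on field valued points -/
def Gluing.R {K : Type u} [Field K] (v v' : Spec (CommRingCat.of K) ⟶ A) : Prop :=
  v = v' ∨ ∃ (e : E) (s : Spec (CommRingCat.of F) ⟶ A) (k : Spec (CommRingCat.of K) ⟶ Spec (CommRingCat.of F)),
    s ≫ π = D.c e ∧ v = k ≫ s ∧ v' = k ≫ G.φ s

lemma Gluing.comp_eq {e : E} {s : Spec (CommRingCat.of F) ⟶ A} (hs : s ≫ π = D.c e) :
    s ≫ π ≫ p = G.φ s ≫ π ≫ p := by
  have h1 := G.ov e s hs
  rw [← Category.assoc, hs, ← Category.assoc, h1, D.comp]

lemma Gluing.R.comp_eq {K : Type u} [Field K] {v v' : Spec (CommRingCat.of K) ⟶ A} (h : G.R v v') :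
    v ≫ π ≫ p = v' ≫ π ≫ p := by
  obtain rfl | ⟨e, s, k, hs, rfl, rfl⟩ := h
  · rfl
  · rw [Category.assoc, G.comp_eq hs, Category.assoc]

/-- the points of the fibre product given by the gluing -/
def Gluing.P : Set ↥(pullback (π ≫ p) (π ≫ p)) :=
  {z | ∃ (e : E) (s : Spec (CommRingCat.of F) ⟶ A) (hs : s ≫ π = D.c e),
    z = pt (pullback.lift s (G.φ s) (G.comp_eq hs))}

/-- the set of points of the relation -/
def Gluing.Wset : Set ↥(pullback (π ≫ p) (π ≫ p)) :=
  Set.range (pullback.diagonal (π ≫ p)) ∪ G.P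

/-- the points of the fibre product over pairs of different points -/
def offSet (D : Data F p E) (π : A ⟶ X') : Set ↥(pullback (π ≫ p) (π ≫ p)) :=
  {z | ∃ (e : E) (s s' : Spec (CommRingCat.of F) ⟶ A) (hs : s ≫ π = D.c e) (hs' : s' ≫ π = D.c (D.inv e)),
    z = pt (pullback.lift s s' (show s ≫ π ≫ p = s' ≫ π ≫ p by
      rw [← Category.assoc, hs, ← Category.assoc, hs', D.comp]))}

lemma Gluing.P_subset : G.P ⊆ offSet D π := by
  rintro _ ⟨e, s, hs, rfl⟩
  exact ⟨e, s, G.φ s, hs, G.ov e s hs, rfl⟩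

lemma finite_points [IsFinite π] [Etale π] (c : Spec (CommRingCat.of F) ⟶ X') :
    {s : Spec (CommRingCat.of F) ⟶ A | s ≫ π = c}.Finite := by
  have := Groth.Agent.S0294.result c (MorphismProperty.Over.mk ⊤ π ⟨‹IsFinite π›, ‹Etale π›⟩ : FEt.Cat X')
  exact this

lemma finite_offSet [Finite E] [IsFinite π] [Etale π] : (offSet D π).Finite := by
  classical
  let T : Type _ := Σ e : E, {s : Spec (CommRingCat.of F) ⟶ A // s ≫ π = D.c e} ×
    {s : Spec (CommRingCat.of F) ⟶ A // s ≫ π = D.c (D.inv e)}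
  have h1 : ∀ c, Finite {s : Spec (CommRingCat.of F) ⟶ A // s ≫ π = c} := fun c =>
    (finite_points c).to_subtype
  have : Finite T := by
    dsimp only [T]
    infer_instance
  have h2 : offSet D π ⊆ Set.range (fun t : T => pt (pullback.lift t.2.1.1 t.2.2.1
      (show t.2.1.1 ≫ π ≫ p = t.2.2.1 ≫ π ≫ p by
        rw [← Category.assoc, t.2.1.2, ← Category.assoc, t.2.2.2, D.comp]))) := by
    rintro _ ⟨e, s, s', hs, hs', rfl⟩
    exact ⟨⟨e, ⟨s, hs⟩, ⟨s', hs'⟩⟩, rfl⟩
  exact (Set.finite_range _).subset h2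

variable [IsFinite π] [IsProper p]

lemma closed_lift {e : E} {s s' : Spec (CommRingCat.of F) ⟶ A} (hs : s ≫ π = D.c e)
    (h : s ≫ π ≫ p = s' ≫ π ≫ p) : IsClosedImmersion (pullback.lift s s' h) := by
  have h1 : IsClosedImmersion (s ≫ π) := by rw [hs]; infer_instance
  have h2 : IsClosedImmersion s := IsClosedImmersion.of_comp s π
  have h3 : IsClosedImmersion (pullback.lift s s' h ≫ pullback.fst _ _) := by
    rw [pullback.lift_fst]
    exact h2
  exact IsClosedImmersion.of_comp _ (pullback.fst (π ≫ p) (π ≫ p))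

lemma isClosed_pt_lift {e : E} {s s' : Spec (CommRingCat.of F) ⟶ A} (hs : s ≫ π = D.c e)
    (h : s ≫ π ≫ p = s' ≫ π ≫ p) : IsClosed ({pt (pullback.lift s s' h)} : Set _) := by
  have h1 := closed_lift (s' := s') hs h
  have h2 : ({pt (pullback.lift s s' h)} : Set ↥(pullback (π ≫ p) (π ≫ p))) =
      Set.range (pullback.lift s s' h) := by
    ext z
    constructor
    · rintro rfl
      exact ⟨_, rfl⟩
    · rintro ⟨x, rfl⟩
      exact congrArg _ (Subsingleton.elim (α := PrimeSpectrum F) _ _)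
  rw [h2]
  exact (pullback.lift s s' h).isClosedEmbedding.isClosed_range

lemma isClosed_of_subset_offSet [Finite E] [Etale π] {S : Set ↥(pullback (π ≫ p) (π ≫ p))}
    (hS : S ⊆ offSet D π) : IsClosed S := by
  have h1 : S.Finite := finite_offSet.subset hS
  rw [← Set.biUnion_of_singleton S]
  refine h1.isClosed_biUnion fun z hz => ?_
  obtain ⟨e, s, s', hs, hs', rfl⟩ := hS hz
  exact isClosed_pt_lift hs _

/-- the closed immersion `A ×_{X'} A ⟶ A ×_X A` -/
noncomputable def jm (π : A ⟶ X') (p : X' ⟶ X) : pullback π π ⟶ pullback (π ≫ p) (π ≫ p) :=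
  pullback.mapDesc π π p

omit [IsFinite π] [IsProper p] in
@[reassoc (attr := simp)] lemma jm_fst : jm π p ≫ pullback.fst _ _ = pullback.fst _ _ := by
  unfold jm
  rw [pullback.mapDesc, pullback.map, pullback.lift_fst, Category.comp_id]

omit [IsFinite π] [IsProper p] in
@[reassoc (attr := simp)] lemma jm_snd : jm π p ≫ pullback.snd _ _ = pullback.snd _ _ := by
  unfold jm
  rw [pullback.mapDesc, pullback.map, pullback.lift_snd, Category.comp_id]

instance : IsClosedImmersion (jm π p) := by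
  unfold jm
  infer_instance

lemma offSet_or [Etale π] [IsAlgClosed F] (z : ↥(pullback (π ≫ p) (π ≫ p))) :
    z ∈ Set.range (jm π p) ∨ z ∈ offSet D π := by
  let y := gpt z
  have h1 : ((y ≫ pullback.fst _ _) ≫ π) ≫ p = ((y ≫ pullback.snd _ _) ≫ π) ≫ p := by
    rw [Category.assoc, Category.assoc, pullback.condition, Category.assoc, Category.assoc]
  have hz : pt y = z := gpt_apply _ _
  obtain h | ⟨e, k, hk, hk'⟩ := D.prop _ _ _ h1
  · left
    refine ⟨pt (pullback.lift _ _ h), ?_⟩
    rw [← pt_comp]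
    refine Eq.trans ?_ hz
    congr 1
    apply pullback.hom_ext
    · rw [Category.assoc, jm_fst, pullback.lift_fst]
    · rw [Category.assoc, jm_snd, pullback.lift_snd]
  · right
    obtain ⟨s, hs, hs2⟩ := exists_descent π _ _ _ hk
    obtain ⟨s', hs', hs2'⟩ := exists_descent π _ _ _ hk'
    refine ⟨e, s, s', hs, hs', ?_⟩
    rw [← pt_precomp k]
    refine hz.symm.trans ?_
    congr 1
    apply pullback.hom_ext
    · rw [Category.assoc, pullback.lift_fst, hs2]
    · rw [Category.assoc, pullback.lift_snd, hs2']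

lemma disjoint_offSet : Disjoint (Set.range (jm π p)) (offSet D π) := by
  rw [Set.disjoint_left]
  rintro _ hz ⟨e, s, s', hs, hs', rfl⟩
  obtain ⟨k, hk⟩ := exists_factor (jm π p) _ hz
  have h1 : k ≫ pullback.fst π π = s := by
    have := congrArg (· ≫ pullback.fst _ _) hk
    simpa only [Category.assoc, jm_fst, pullback.lift_fst] using this
  have h2 : k ≫ pullback.snd π π = s' := by
    have := congrArg (· ≫ pullback.snd _ _) hk
    simpa only [Category.assoc, jm_snd, pullback.lift_snd] using this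
  apply D.inv_ne e
  apply D.inj
  rw [← hs, ← hs', ← h1, ← h2, Category.assoc, Category.assoc, pullback.condition]

lemma diag_comp_jm : pullback.diagonal π ≫ jm π p = pullback.diagonal (π ≫ p) := by
  apply pullback.hom_ext
  · simp
  · simp

theorem isOpen_Wset [Finite E] [Etale π] [IsAlgClosed F] : IsOpen G.Wset := by
  rw [← isClosed_compl_iff]
  have h1 : G.Wsetᶜ = (offSet D π \ G.P) ∪ (jm π p) '' (Set.range (pullback.diagonal π))ᶜ := by
    ext z
    constructor
    · intro hz
      have hz1 : z ∉ Set.range (pullback.diagonal (π ≫ p)) := fun h => hz (Or.inl h)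
      have hz2 : z ∉ G.P := fun h => hz (Or.inr h)
      obtain ⟨w, rfl⟩ | h := offSet_or (D := D) z
      · right
        refine ⟨w, ?_, rfl⟩
        rintro ⟨x, rfl⟩
        apply hz1
        rw [← diag_comp_jm]
        exact ⟨x, rfl⟩
      · exact Or.inl ⟨h, hz2⟩
    · rintro (⟨hz1, hz2⟩ | ⟨w, hw, rfl⟩)
      · rintro (h | h)
        · obtain ⟨x, rfl⟩ := h
          refine Set.disjoint_left.mp disjoint_offSet ?_ hz1
          rw [← diag_comp_jm]
          exact ⟨pullback.diagonal π x, rfl⟩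
        · exact hz2 h
      · rintro (h | h)
        · obtain ⟨x, hx⟩ := h
          rw [← diag_comp_jm] at hx
          exact hw ⟨x, (jm π p).isClosedEmbedding.injective hx⟩
        · exact Set.disjoint_left.mp disjoint_offSet ⟨w, rfl⟩ (G.P_subset h)
  rw [h1]
  refine IsClosed.union (isClosed_of_subset_offSet Set.sdiff_subset) ?_
  refine (jm π p).isClosedEmbedding.isClosedMap _ ?_
  rw [isClosed_compl_iff]
  exact (pullback.diagonal π).isOpenEmbedding.isOpen_range

/-- the open subset of the relation -/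
def Gluing.W [Finite E] [Etale π] [IsAlgClosed F] : (pullback (π ≫ p) (π ≫ p)).Opens :=
  ⟨G.Wset, isOpen_Wset G⟩

theorem rel_iff [Finite E] [Etale π] [IsAlgClosed F] {K : Type u} [Field K] [IsAlgClosed K]
    (v v' : Spec (CommRingCat.of K) ⟶ A) : Rel (π ≫ p) G.W v v' ↔ G.R v v' := by
  constructor
  · rintro ⟨g, rfl, rfl, hg⟩
    obtain h | ⟨e, s, hs, h⟩ := hg ⟨IsLocalRing.closedPoint K, rfl⟩
    · obtain ⟨k, rfl⟩ := exists_factor (pullback.diagonal (π ≫ p)) g h
      left
      simp
    · right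
      have h1 := closed_lift hs (G.comp_eq hs)
      obtain ⟨k, rfl⟩ := exists_factor (pullback.lift s (G.φ s) (G.comp_eq hs)) g ⟨_, h.symm⟩
      refine ⟨e, s, k, hs, ?_, ?_⟩
      · rw [Category.assoc, pullback.lift_fst]
      · rw [Category.assoc, pullback.lift_snd]
  · intro h
    refine ⟨pullback.lift v v' (Gluing.R.comp_eq G h), pullback.lift_fst _ _ _, pullback.lift_snd _ _ _, ?_⟩
    rintro _ ⟨x, rfl⟩
    obtain rfl : x = IsLocalRing.closedPoint K := Subsingleton.elim (α := PrimeSpectrum K) _ _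
    have hc := Gluing.R.comp_eq G h
    obtain rfl | ⟨e, s, k, hs, rfl, rfl⟩ := h
    · left
      refine ⟨pt v, ?_⟩
      rw [← pt_comp]
      congr 1
      apply pullback.hom_ext
      · rw [Category.assoc, pullback.diagonal_fst, pullback.lift_fst, Category.comp_id]
      · rw [Category.assoc, pullback.diagonal_snd, pullback.lift_snd, Category.comp_id]
    · right
      refine ⟨e, s, hs, ?_⟩
      rw [← pt_precomp k]
      change pt _ = pt _
      congr 1
      apply pullback.hom_ext
      · rw [Category.assoc, pullback.lift_fst, pullback.lift_fst]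
      · rw [Category.assoc, pullback.lift_snd, pullback.lift_snd]

theorem isDescRel [Finite E] [Etale π] [IsAlgClosed F] : IsDescRel π p G.W where
  ex K _ _ v y h := by
    have h' : (v ≫ π) ≫ p = y ≫ p := by rw [Category.assoc, h]
    obtain h1 | ⟨e, k, hk, rfl⟩ := D.prop K _ _ h'
    · refine ⟨v, ⟨h1, (rel_iff G _ _).mpr (Or.inl rfl)⟩, ?_⟩
      rintro v' ⟨hv1, hv2⟩
      obtain rfl | ⟨e, s, k, hs, rfl, rfl⟩ := (rel_iff G _ _).mp hv2
      · rfl
      · exfalso
        rw [← hv1, Category.assoc, Category.assoc, hs, G.ov e s hs] at h1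
        exact D.inv_ne e (D.eq_of_comp h1).1.symm
    · obtain ⟨s, hs, rfl⟩ := exists_descent π _ _ _ hk
      have hs' := G.ov e s hs
      refine ⟨k ≫ G.φ s, ⟨by rw [Category.assoc, hs'], (rel_iff G _ _).mpr (Or.inr ⟨e, s, k, hs, rfl, rfl⟩)⟩, ?_⟩
      rintro v' ⟨hv1, hv2⟩
      obtain rfl | ⟨e', s', k', hs', h2, rfl⟩ := (rel_iff G _ _).mp hv2
      · exfalso
        rw [hv1] at hk
        exact D.inv_ne e (D.eq_of_comp hk).1
      · have h3 : k ≫ D.c e = k' ≫ D.c e' := by
          rw [← hs, ← hs', ← Category.assoc, h2, Category.assoc]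
        obtain ⟨rfl, rfl⟩ := D.eq_of_comp h3
        have := epi_Spec k
        rw [cancel_epi] at h2
        rw [h2]
  refl K _ _ v := (rel_iff G _ _).mpr (Or.inl rfl)
  trans K _ _ v₀ v₁ v₂ h₀₁ h₁₂ := by
    rw [rel_iff] at h₀₁ h₁₂ ⊢
    obtain rfl | ⟨e, s, k, hs, rfl, rfl⟩ := h₀₁
    · exact h₁₂
    obtain rfl | ⟨e', s', k', hs', h2, rfl⟩ := h₁₂
    · exact Or.inr ⟨e, s, k, hs, rfl, rfl⟩
    left
    have h3 : k ≫ D.c (D.inv e) = k' ≫ D.c e' := by
      rw [← G.ov e s hs, ← hs', ← Category.assoc, h2, Category.assoc]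
    obtain ⟨-, rfl⟩ := D.eq_of_comp h3
    have := epi_Spec k
    rw [cancel_epi] at h2
    rw [← h2, G.invol e s hs]

/-- **Gluing of finite étale covers along pairs of points.** -/
theorem exists_glue [Finite E] [Etale π] [IsAlgClosed F] [Surjective p] [LocallyOfFinitePresentation p] :
    ∃ (U : FEt.Cat X) (θ : A ⟶ U.left), IsPullback θ π U.hom p ∧
      ∀ (e : E) (s : Spec (CommRingCat.of F) ⟶ A), s ≫ π = D.c e → G.φ s ≫ θ = s ≫ θ := by
  obtain ⟨U, θ, h1, h2⟩ := exists_quotient (isDescRel G)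
  refine ⟨U, θ, h1, fun e s hs => ?_⟩
  symm
  rw [← h2, rel_iff]
  exact Or.inr ⟨e, s, 𝟙 _, hs, by simp, by simp⟩

end K868.Pinch
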