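import Mathlib.Data.Finset.Card
import Mathlib.Data.Fintype.Card
import Mathlib.SetTheory.Cardinal.Finite
import Mathlib.Logic.Equiv.Basic

/-! # Spanning trees and trivializations along them -/

set_option autoImplicit false

namespace K868.Tree

/-- In a connected graph there is a spanning tree, and a family of elements `x v` transported to each
other along the edges of the tree. -/
theorem exists_tree {V J : Type*} [Finite V] [Nonempty V] (src tgt : J → V)
    (hconn : ∀ P : V → Prop, (∀ j, P (src j) ↔ P (tgt j)) → ∀ u v, P u → P v)
    (X : V → Type*) [∀ v, Nonempty (X v)] (a : ∀ j, X (src j) ≃ X (tgt j)) :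
    ∃ (T : Finset J) (x : ∀ v, X v), T.card + 1 = Nat.card V ∧
      (∀ j ∈ T, a j (x (src j)) = x (tgt j)) ∧
      ∀ P : V → Prop, (∀ j ∈ T, P (src j) ↔ P (tgt j)) → ∀ u v, P u → P v := by
  classical
  have _ : Fintype V := Fintype.ofFinite V
  have key : ∀ n : ℕ, n + 1 ≤ Fintype.card V → ∃ (S : Finset V) (T : Finset J) (x : ∀ v, X v),
      S.card = n + 1 ∧ T.card = n ∧
      (∀ j ∈ T, src j ∈ S ∧ tgt j ∈ S ∧ a j (x (src j)) = x (tgt j)) ∧
      ∀ P : V → Prop, (∀ j ∈ T, P (src j) ↔ P (tgt j)) → ∀ u ∈ S, ∀ v ∈ S, P u ↔ P v := by
    intro n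
    induction n with
    | zero =>
      intro _
      obtain ⟨v₀⟩ := (inferInstance : Nonempty V)
      refine ⟨{v₀}, ∅, fun v => Classical.arbitrary _, by simp, by simp, by simp, ?_⟩
      intro P _ u hu v hv
      rw [Finset.mem_singleton] at hu hv
      rw [hu, hv]
    | succ n ih =>
      intro hn
      obtain ⟨S, T, x, hS, hT, hx, hP⟩ := ih (by omega)
      have h1 : ∃ j, ¬ (src j ∈ S ↔ tgt j ∈ S) := by
        by_contra hcon
        push Not at hcon
        have h2 : ∀ v, v ∈ S := by
          obtain ⟨u, hu⟩ : S.Nonempty := by
            rw [← Finset.card_pos]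
            omega
          exact fun v => hconn (· ∈ S) hcon u v hu
        have h3 : S = Finset.univ := Finset.eq_univ_iff_forall.mpr h2
        rw [h3, Finset.card_univ] at hS
        omega
      obtain ⟨j, hj⟩ := h1
      have hjT : j ∉ T := by
        intro h
        obtain ⟨h4, h5, -⟩ := hx j h
        exact hj ⟨fun _ => h5, fun _ => h4⟩
      by_cases hs : src j ∈ S
      · have ht : tgt j ∉ S := fun h => hj ⟨fun _ => h, fun _ => hs⟩
        have hne : src j ≠ tgt j := fun h => ht (h ▸ hs)
        refine ⟨insert (tgt j) S, insert j T, Function.update x (tgt j) (a j (x (src j))), ?_, ?_, ?_, ?_⟩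
        · rw [Finset.card_insert_of_notMem ht, hS]
        · rw [Finset.card_insert_of_notMem hjT, hT]
        · intro j' hj'
          rw [Finset.mem_insert] at hj'
          obtain rfl | hj' := hj'
          · refine ⟨Finset.mem_insert_of_mem hs, Finset.mem_insert_self _ _, ?_⟩
            rw [Function.update_of_ne hne, Function.update_self]
          · obtain ⟨h4, h5, h6⟩ := hx j' hj'
            refine ⟨Finset.mem_insert_of_mem h4, Finset.mem_insert_of_mem h5, ?_⟩
            rw [Function.update_of_ne (ne_of_mem_of_not_mem h4 ht), Function.update_of_ne (ne_of_mem_of_not_mem h5 ht), h6]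
        · intro P hPT
          have h7 : ∀ w ∈ insert (tgt j) S, P w ↔ P (src j) := by
            intro w hw
            rw [Finset.mem_insert] at hw
            obtain rfl | hw := hw
            · exact (hPT j (Finset.mem_insert_self _ _)).symm
            · exact hP P (fun j' hj' => hPT j' (Finset.mem_insert_of_mem hj')) w hw _ hs
          intro u hu v hv
          rw [h7 u hu, h7 v hv]
      · have ht : tgt j ∈ S := by
          by_contra ht
          exact hj ⟨fun h => absurd h hs, fun h => absurd h ht⟩
        have hne : tgt j ≠ src j := fun h => hs (h ▸ ht)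
        refine ⟨insert (src j) S, insert j T, Function.update x (src j) ((a j).symm (x (tgt j))), ?_, ?_, ?_, ?_⟩
        · rw [Finset.card_insert_of_notMem hs, hS]
        · rw [Finset.card_insert_of_notMem hjT, hT]
        · intro j' hj'
          rw [Finset.mem_insert] at hj'
          obtain rfl | hj' := hj'
          · refine ⟨Finset.mem_insert_self _ _, Finset.mem_insert_of_mem ht, ?_⟩
            rw [Function.update_self, Function.update_of_ne hne, Equiv.apply_symm_apply]
          · obtain ⟨h4, h5, h6⟩ := hx j' hj'
            refine ⟨Finset.mem_insert_of_mem h4, Finset.mem_insert_of_mem h5, ?_⟩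
            rw [Function.update_of_ne (ne_of_mem_of_not_mem h4 hs), Function.update_of_ne (ne_of_mem_of_not_mem h5 hs), h6]
        · intro P hPT
          have h7 : ∀ w ∈ insert (src j) S, P w ↔ P (tgt j) := by
            intro w hw
            rw [Finset.mem_insert] at hw
            obtain rfl | hw := hw
            · exact hPT j (Finset.mem_insert_self _ _)
            · exact hP P (fun j' hj' => hPT j' (Finset.mem_insert_of_mem hj')) w hw _ ht
          intro u hu v hv
          rw [h7 u hu, h7 v hv]
  have hpos : 0 < Fintype.card V := Fintype.card_pos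
  obtain ⟨S, T, x, hS, hT, hx, hP⟩ := key (Fintype.card V - 1) (by omega)
  have hS' : S = Finset.univ := by
    rw [← Finset.card_eq_iff_eq_univ]
    omega
  subst hS'
  refine ⟨T, x, ?_, fun j hj => (hx j hj).2.2, fun P h u v => (hP P h u (Finset.mem_univ _) v (Finset.mem_univ _)).mp⟩
  rw [Nat.card_eq_fintype_card, hT]
  omega

end K868.Tree
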