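import Groth.Agent.Pi1.K868.VKPath

/-! # Topological generation of the fundamental group of a pinched scheme -/

set_option autoImplicit false

universe u v

set_option linter.unusedSectionVars false

open CategoryTheory CategoryTheory.Limits AlgebraicGeometry

namespace K868.VKGen

open K868.GeomLem K868.PtLem K868.EffRel K868.Pinch K868.VKPath
open Groth.Agent.Pi1.H418.TopGen (mul_apply one_apply inv_apply path_mem_iff exists_clopen
  topGenerates_of_transitive naturality)
open Groth.Agent.Pi1.H418.Push Groth.Agent.Pi1.H538.Act Groth.Agent.Pi1.H538.Base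
open Groth.Agent.Pi1.H538.Sets (app_inv_app inv_app_app)

variable {F : Type u} [Field F] {X : Scheme.{u}} {V : Type u}
  {Y : V → Scheme.{u}} {f : ∀ i, Y i ⟶ X} {E : Type v}
  {D : Data F (Sigma.desc f) E} (P : Lift D) {Ω : Type u} [Field Ω]
  {ξ : Spec (CommRingCat.of Ω) ⟶ X}
  {Ω' : V → Type u} [∀ i, Field (Ω' i)] {ξ' : ∀ i, Spec (CommRingCat.of (Ω' i)) ⟶ Y i}

variable (σ : ∀ e, FEt.fiber (ξ' (P.v e)) ≅ FEt.fiber (P.c e))
  (τ : ∀ i, FEt.fiber ξ ≅ FEt.restrict (f i) ⋙ FEt.fiber (ξ' i))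

/-- the path from the base point to a pinched point -/
noncomputable def edge (e : E) : FEt.fiber ξ ≅ FEt.fiber (P.c e ≫ f (P.v e)) :=
  τ (P.v e) ≪≫ Functor.isoWhiskerLeft (FEt.restrict (f (P.v e))) (σ e) ≪≫
    (fiberPush (f (P.v e)) (P.c e)).symm

lemma edge_apply (e : E) (Z : FEt.Cat X) (x : FEt.fiberObj ξ Z) :
    (show FEt.fiberObj (P.c e ≫ f (P.v e)) Z from (edge P σ τ e).hom.app Z x).1 =
      (show FEt.fiberObj (P.c e) ((FEt.restrict (f (P.v e))).obj Z) from
        (σ e).hom.app ((FEt.restrict (f (P.v e))).obj Z) ((τ (P.v e)).hom.app Z x)).1 ≫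
          pullback.fst Z.hom (f (P.v e)) := rfl

/-- the loop through two equal pinched points -/
noncomputable def loop' (e e' : E) (h : P.c e ≫ f (P.v e) = P.c e' ≫ f (P.v e')) : FEt.piOne X ξ :=
  edge P σ τ e ≪≫ fiberCongr h ≪≫ (edge P σ τ e').symm

/-- the loop through a pinched point -/
noncomputable def loop (e : E) : FEt.piOne X ξ := loop' P σ τ e (D.inv e) (P.comp_eq e)

lemma edge_loop' (e e' : E) (h : P.c e ≫ f (P.v e) = P.c e' ≫ f (P.v e')) (Z : FEt.Cat X)
    (x : FEt.fiberObj ξ Z) :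
    (show FEt.fiberObj (P.c e' ≫ f (P.v e')) Z from (edge P σ τ e').hom.app Z
      ((loop' P σ τ e e' h).hom.app Z x)).1 =
    (show FEt.fiberObj (P.c e ≫ f (P.v e)) Z from (edge P σ τ e).hom.app Z x).1 := by
  have h1 : (edge P σ τ e').hom.app Z ((loop' P σ τ e e' h).hom.app Z x) =
      (fiberCongr h).hom.app Z ((edge P σ τ e).hom.app Z x) :=
    hom_inv_apply (edge P σ τ e') Z _
  exact congrArg Subtype.val h1

lemma edge_loop (e : E) (Z : FEt.Cat X) (x : FEt.fiberObj ξ Z) :
    (show FEt.fiberObj (P.c (D.inv e) ≫ f (P.v (D.inv e))) Z from (edge P σ τ (D.inv e)).hom.app Z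
      ((loop P σ τ e).hom.app Z x)).1 =
    (show FEt.fiberObj (P.c e ≫ f (P.v e)) Z from (edge P σ τ e).hom.app Z x).1 :=
  edge_loop' P σ τ e (D.inv e) _ Z x

lemma loop'_mul (e e' : E) (h : P.c e ≫ f (P.v e) = P.c e' ≫ f (P.v e')) :
    loop' P σ τ e' e h.symm * loop' P σ τ e e' h = 1 := by
  refine ext_fiber fun Z s => ?_
  rw [mul_apply, one_apply]
  have h1 := (edge_loop' P σ τ e' e h.symm Z ((loop' P σ τ e e' h).hom.app Z s)).trans
    (edge_loop' P σ τ e e' h Z s)
  have h2 : (edge P σ τ e).hom.app Z ((loop' P σ τ e' e h.symm).hom.app Z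
      ((loop' P σ τ e e' h).hom.app Z s)) = (edge P σ τ e).hom.app Z s := Subtype.ext h1
  have h3 := congrArg (fun r => (edge P σ τ e).inv.app Z r) h2
  rwa [inv_hom_apply, inv_hom_apply] at h3

lemma loop'_congr (e e' e'' : E) (h : P.c e ≫ f (P.v e) = P.c e' ≫ f (P.v e')) (he : e' = e'') :
    loop' P σ τ e e' h = loop' P σ τ e e'' (he ▸ h) := by
  subst he
  rfl

lemma loop_inv (e : E) : loop P σ τ (D.inv e) = (loop P σ τ e)⁻¹ := by
  rw [eq_inv_iff_mul_eq_one]
  unfold loop
  rw [loop'_congr P σ τ (D.inv e) _ _ _ (D.inv_inv e)]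
  exact loop'_mul P σ τ _ _ _

/-- the generators -/
def gens : Set (FEt.piOne X ξ) :=
  (⋃ i, Set.range (conj (f i) (τ i))) ∪ Set.range (loop P σ τ)

variable [IsAlgClosed F] [IsAlgClosed Ω] [∀ i, IsAlgClosed (Ω' i)] [Finite V] [ConnectedSpace X]
  [∀ i, ConnectedSpace (Y i)] [IsProper (Sigma.desc f)] [Surjective (Sigma.desc f)]

/-- the fundamental group is topologically generated by the fundamental groups of the pieces and the
loops through the pinched points -/
theorem topGenerates : PiSp.TopGenerates (gens P σ τ) := by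
  refine topGenerates_of_transitive _ ?_
  intro Z hZ s t
  let H := Subgroup.closure (gens P σ τ)
  let O : Set (FEt.fiberObj ξ Z) := {t | ∃ g ∈ H, g.hom.app Z s = t}
  have hOH : ∀ g ∈ H, ∀ t, t ∈ O → g.hom.app Z t ∈ O := by
    rintro g hg _ ⟨g', hg', rfl⟩
    exact ⟨g * g', mul_mem hg hg', rfl⟩
  have hsO : s ∈ O := ⟨1, one_mem _, rfl⟩
  suffices hO : O = Set.univ by
    have : t ∈ O := hO ▸ Set.mem_univ t
    exact this
  have hW : ∀ i, ∃ W : Set ↥(pullback Z.hom (f i)), IsClopen W ∧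
      ∀ x : FEt.fiberObj (ξ' i) ((FEt.restrict (f i)).obj Z),
        pt x.1 ∈ W ↔ ((τ i).inv.app Z x : FEt.fiberObj ξ Z) ∈ O := by
    intro i
    refine exists_clopen ((FEt.restrict (f i)).obj Z)
      {x | ((τ i).inv.app Z x : FEt.fiberObj ξ Z) ∈ O} ?_
    intro g x hx
    have h1 : conj (f i) (τ i) g ∈ H :=
      Subgroup.subset_closure (Or.inl (Set.mem_iUnion.mpr ⟨i, g, rfl⟩))
    have h3 := hOH _ h1 _ hx
    rw [inv_conj_apply] at h3
    exact h3
  choose W hWc hW using hW
  have hfinZ : IsFinite Z.hom := Z.prop.1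
  have hm : ∀ (e : E) (s : FEt.fiberObj (P.c e) ((FEt.restrict (f (P.v e))).obj Z)),
      pt s.1 ∈ W (P.v e) ↔ ((τ (P.v e)).inv.app Z ((σ e).inv.app _ s) : FEt.fiberObj ξ Z) ∈ O := by
    intro e s
    have h1 := path_mem_iff (σ e).symm (hWc (P.v e)) (Z := (FEt.restrict (f (P.v e))).obj Z) s
    exact h1.symm.trans (hW (P.v e) _)
  have hWall : ∀ i, W i = Set.univ := by
    refine clopen_eq_univ (Z := Z.left) P Z.hom W hWc ?_ ?_
    · intro e s s' hs hs' hss hsW
      let y : FEt.fiberObj (P.c e) ((FEt.restrict (f (P.v e))).obj Z) := ⟨s, hs⟩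
      let y' : FEt.fiberObj (P.c (D.inv e)) ((FEt.restrict (f (P.v (D.inv e)))).obj Z) := ⟨s', hs'⟩
      have h1 := (hm e y).mp hsW
      refine (hm (D.inv e) y').mpr ?_
      have hδ : loop P σ τ e ∈ H := Subgroup.subset_closure (Or.inr ⟨e, rfl⟩)
      have h2 := hOH _ hδ _ h1
      let x : FEt.fiberObj ξ Z := (τ (P.v e)).inv.app Z ((σ e).inv.app _ y)
      have h3 : (σ e).hom.app ((FEt.restrict (f (P.v e))).obj Z) ((τ (P.v e)).hom.app Z x) = y := by
        change (σ e).hom.app _ ((τ (P.v e)).hom.app Z ((τ (P.v e)).inv.app Z _)) = y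
        rw [hom_inv_apply, hom_inv_apply]
      have h4 := edge_loop P σ τ e Z x
      rw [edge_apply P σ τ e, h3] at h4
      let x' : FEt.fiberObj ξ Z := (loop P σ τ e).hom.app Z x
      have h5 : (σ (D.inv e)).hom.app ((FEt.restrict (f (P.v (D.inv e)))).obj Z)
          ((τ (P.v (D.inv e))).hom.app Z x') = y' := by
        apply Subtype.ext
        apply pullback.hom_ext
        · refine Eq.trans ?_ hss
          exact h4
        · have h6 := ((σ (D.inv e)).hom.app ((FEt.restrict (f (P.v (D.inv e)))).obj Z)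
            ((τ (P.v (D.inv e))).hom.app Z x') :
              FEt.fiberObj (P.c (D.inv e)) ((FEt.restrict (f (P.v (D.inv e)))).obj Z)).2
          exact h6.trans hs'.symm
      rw [← h5, inv_hom_apply, inv_hom_apply]
      exact h2
    · have hX : Nonempty X := inferInstance
      obtain ⟨x⟩ := hX
      obtain ⟨y, hy⟩ := (Sigma.desc f).surjective x
      obtain ⟨i, -, -⟩ := (sigmaOpenCover Y).exists_eq y
      change V at i
      refine ⟨i, pt ((τ i).hom.app Z s : FEt.fiberObj (ξ' i) ((FEt.restrict (f i)).obj Z)).1, ?_⟩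
      refine (hW i _).mpr ?_
      have h3 : (τ i).inv.app Z ((τ i).hom.app Z s) = s := inv_hom_apply (τ i) Z s
      rw [h3]
      exact hsO
  have hV : Nonempty V := by
    obtain ⟨x⟩ := (inferInstance : Nonempty X)
    obtain ⟨y, hy⟩ := (Sigma.desc f).surjective x
    obtain ⟨i, -, -⟩ := (sigmaOpenCover Y).exists_eq y
    exact ⟨i⟩
  obtain ⟨i⟩ := hV
  rw [Set.eq_univ_iff_forall]
  intro x
  have h1 := (hW i ((τ i).hom.app Z x)).mp (by rw [hWall]; trivial)
  rwa [inv_hom_apply] at h1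

include P in
/-- the graph of the pieces is connected -/
theorem graph_connected (Q : V → Prop) (hQ : ∀ e, Q (P.v e) → Q (P.v (D.inv e))) (u w : V)
    (hu : Q u) : Q w := by
  classical
  have hid : IsFinite (𝟙 X) := inferInstance
  have h := clopen_eq_univ P (𝟙 X) (fun i => if Q i then Set.univ else ∅) (fun i => by
    split_ifs
    · exact isClopen_univ
    · exact isClopen_empty) (by
      intro e s s' _ _ _ hs
      split_ifs at hs with h
      · rw [if_pos (hQ e h)]
        trivial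
      · exact hs.elim) (by
      obtain ⟨y⟩ := (inferInstance : Nonempty (Y u))
      obtain ⟨x, -, -⟩ := Scheme.Pullback.exists_preimage_pullback (f := 𝟙 X) (g := f u) (f u y) y rfl
      exact ⟨u, x, by rw [if_pos hu]; trivial⟩)
  obtain ⟨y⟩ := (inferInstance : Nonempty (Y w))
  obtain ⟨x, -, -⟩ := Scheme.Pullback.exists_preimage_pullback (f := 𝟙 X) (g := f w) (f w y) y rfl
  by_contra hcon
  have h1 := h w
  rw [if_neg hcon] at h1
  exact (h1 ▸ Set.mem_univ x : x ∈ (∅ : Set _)).elim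

end K868.VKGen
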