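import Groth.Agent.Pi1.K868.VKGen

/-! # Covers of a pinched scheme with prescribed monodromy -/

set_option autoImplicit false

universe u v

set_option linter.unusedSectionVars false

open CategoryTheory CategoryTheory.Limits AlgebraicGeometry

namespace K868.VKGlue

open K868.GeomLem K868.PtLem K868.EffRel K868.Pinch K868.VKPath K868.VKGen
open Groth.Agent.Pi1.H418.TopGen (mul_apply one_apply inv_apply path_mem_iff exists_clopen
  topGenerates_of_transitive naturality)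
open Groth.Agent.Pi1.H418.Push Groth.Agent.Pi1.H538.Act Groth.Agent.Pi1.H538.Base
open Groth.Agent.Pi1.H538.Sets (app_inv_app inv_app_app exists_cover map_hom_inv_apply map_inv_hom_apply)

/-- A gluing from a family of maps. -/
theorem exists_gluing {F : Type u} [Field F] {X' X A : Scheme.{u}} {p : X' ⟶ X} {E : Type v}
    {D : Data F p E} {π : A ⟶ X'}
    (Φ : ∀ e (s : Spec (CommRingCat.of F) ⟶ A), s ≫ π = D.c e → (Spec (CommRingCat.of F) ⟶ A))
    (h1 : ∀ e s hs, Φ e s hs ≫ π = D.c (D.inv e))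
    (h2 : ∀ e s hs, Φ (D.inv e) (Φ e s hs) (h1 e s hs) = s) :
    ∃ G : Gluing D π, ∀ e s hs, G.φ s = Φ e s hs := by
  classical
  let φ : (Spec (CommRingCat.of F) ⟶ A) → (Spec (CommRingCat.of F) ⟶ A) := fun s =>
    if h : ∃ e, s ≫ π = D.c e then Φ h.choose s h.choose_spec else s
  have hφ : ∀ e s hs, φ s = Φ e s hs := by
    intro e s hs
    have h : ∃ e, s ≫ π = D.c e := ⟨e, hs⟩
    have h3 : φ s = Φ h.choose s h.choose_spec := dif_pos h
    have h4 : h.choose = e := by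
      apply D.inj
      rw [← h.choose_spec, hs]
    rw [h3]
    have key : ∀ e' (he' : s ≫ π = D.c e'), e' = e → Φ e' s he' = Φ e s hs := by
      rintro e' he' rfl
      rfl
    exact key _ _ h4
  refine ⟨⟨φ, fun e s hs => ?_, fun e s hs => ?_⟩, hφ⟩
  · rw [hφ e s hs]
    exact h1 e s hs
  · rw [hφ (D.inv e) (φ s) (by rw [hφ e s hs]; exact h1 e s hs)]
    have h5 : ∀ s' (hs' : s' ≫ π = D.c (D.inv e)), s' = Φ e s hs → Φ (D.inv e) s' hs' = s := by
      rintro s' hs' rfl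
      exact h2 e s hs
    exact h5 _ _ (hφ e s hs)

variable {F : Type u} [Field F] {X : Scheme.{u}} {V : Type u}
  {Y : V → Scheme.{u}} {f : ∀ i, Y i ⟶ X} {E : Type v}
  {D : Data F (Sigma.desc f) E} (P : Lift D) {Ω : Type u} [Field Ω]
  {ξ : Spec (CommRingCat.of Ω) ⟶ X}
  {Ω' : V → Type u} [∀ i, Field (Ω' i)] {ξ' : ∀ i, Spec (CommRingCat.of (Ω' i)) ⟶ Y i}

variable (σ : ∀ e, FEt.fiber (ξ' (P.v e)) ≅ FEt.fiber (P.c e))
  (τ : ∀ i, FEt.fiber ξ ≅ FEt.restrict (f i) ⋙ FEt.fiber (ξ' i))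

variable [IsAlgClosed F] [IsAlgClosed Ω] [∀ i, IsAlgClosed (Ω' i)] [Finite V] [ConnectedSpace X]
  [∀ i, ConnectedSpace (Y i)] [IsProper (Sigma.desc f)] [Surjective (Sigma.desc f)]
  [LocallyOfFinitePresentation (Sigma.desc f)] [Finite E]

/-- Finite étale covers of the pieces, with bijections of the fibres over the pinched points, glue. -/
theorem exists_cover_glue (A : ∀ i, FEt.Cat (Y i)) {Q : Type u} (κ : ∀ e, FEt.fiberObj (P.c e) (A (P.v e)) ≃ Q)
    (m : E → Q → Q) (hm : ∀ e x, m (D.inv e) (m e x) = x) :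
    ∃ (U : FEt.Cat X) (θ : ∀ i, (A i).left ⟶ U.left),
      (∀ i, IsPullback (θ i) (A i).hom U.hom (f i)) ∧
      ∀ e x, ((κ (D.inv e)).symm (m e x)).1 ≫ θ (P.v (D.inv e)) = ((κ e).symm x).1 ≫ θ (P.v e) := by
  let B : V → Scheme.{u} := fun i => (A i).left
  let π : (∐ B) ⟶ ∐ Y := Limits.Sigma.map fun i => (A i).hom
  have hπ : ∀ i, IsPullback (Sigma.ι B i) (A i).hom π (Sigma.ι Y i) := fun i =>
    Groth.Agent.Ega2.SigmaMap.isPullback_sigmaMap (fun i => (A i).hom) i
  have hfin : IsFinite π := Groth.Agent.Ega2.SigmaMap.sigmaMap_of_isZariskiLocalAtTarget (@IsFinite)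
    (fun i => (A i).hom) fun i => (A i).prop.1
  have het : Etale π := Groth.Agent.Ega2.SigmaMap.sigmaMap_of_isZariskiLocalAtTarget (@Etale)
    (fun i => (A i).hom) fun i => (A i).prop.2
  -- the lift of a point
  have hlow : ∀ e (s : Spec (CommRingCat.of F) ⟶ ∐ B), s ≫ π = D.c e →
      ∃ y : FEt.fiberObj (P.c e) (A (P.v e)), y.1 ≫ Sigma.ι B (P.v e) = s := by
    intro e s hs
    have h1 : s ≫ π = P.c e ≫ Sigma.ι Y (P.v e) := by rw [hs, P.hc]
    exact ⟨⟨(hπ (P.v e)).lift s (P.c e) h1, (hπ (P.v e)).lift_snd _ _ _⟩, (hπ (P.v e)).lift_fst _ _ _⟩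
  have hup : ∀ e (y : FEt.fiberObj (P.c e) (A (P.v e))), (y.1 ≫ Sigma.ι B (P.v e)) ≫ π = D.c e := by
    intro e y
    have h1 : y.1 ≫ (A (P.v e)).hom = P.c e := y.2
    rw [Category.assoc, (hπ _).w, ← Category.assoc]
    exact (congrArg (· ≫ Sigma.ι Y (P.v e)) h1).trans (P.hc e)
  have hinj : ∀ e (y y' : FEt.fiberObj (P.c e) (A (P.v e))),
      y.1 ≫ Sigma.ι B (P.v e) = y'.1 ≫ Sigma.ι B (P.v e) → y = y' := by
    intro e y y' h
    exact Subtype.ext (eq_of_sigma' h)
  choose low hlow using hlow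
  let Φ : ∀ e (s : Spec (CommRingCat.of F) ⟶ ∐ B), s ≫ π = D.c e → (Spec (CommRingCat.of F) ⟶ ∐ B) :=
    fun e s hs => ((κ (D.inv e)).symm (m e (κ e (low e s hs)))).1 ≫ Sigma.ι B (P.v (D.inv e))
  have hΦ1 : ∀ e s hs, Φ e s hs ≫ π = D.c (D.inv e) := fun e s hs => hup _ _
  have hlow2 : ∀ e (y : FEt.fiberObj (P.c e) (A (P.v e))) h, low e (y.1 ≫ Sigma.ι B (P.v e)) h = y :=
    fun e y h => hinj _ _ _ (hlow _ _ _)
  have hΦ2 : ∀ e s hs, Φ (D.inv e) (Φ e s hs) (hΦ1 e s hs) = s := by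
    intro e s hs
    change ((κ (D.inv (D.inv e))).symm (m (D.inv e) (κ (D.inv e) (low (D.inv e)
      (((κ (D.inv e)).symm (m e (κ e (low e s hs)))).1 ≫ Sigma.ι B (P.v (D.inv e))) _)))).1 ≫
        Sigma.ι B (P.v (D.inv (D.inv e))) = s
    rw [hlow2, Equiv.apply_symm_apply, hm]
    have key : ∀ e', e' = e → ((κ e').symm (κ e (low e s hs))).1 ≫ Sigma.ι B (P.v e') = s := by
      rintro e' rfl
      rw [Equiv.symm_apply_apply, hlow]
    exact key _ (D.inv_inv e)
  obtain ⟨G, hG⟩ := exists_gluing Φ hΦ1 hΦ2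
  obtain ⟨U, θ, h1, h2⟩ := exists_glue G
  refine ⟨U, fun i => Sigma.ι B i ≫ θ, fun i => ?_, fun e x => ?_⟩
  · have h3 := (hπ i).paste_horiz h1
    rwa [Sigma.ι_desc] at h3
  · have h3 := h2 e (((κ e).symm x).1 ≫ Sigma.ι B (P.v e)) (hup _ _)
    rw [hG e _ (hup _ _)] at h3
    change (((κ (D.inv e)).symm (m e (κ e (low e (((κ e).symm x).1 ≫ Sigma.ι B (P.v e)) _)))).1 ≫
      Sigma.ι B (P.v (D.inv e))) ≫ θ = _ at h3
    rw [hlow2, Equiv.apply_symm_apply, Category.assoc, Category.assoc] at h3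
    exact h3

/-- the bijection of values of an isomorphism of functors -/
noncomputable def appEquiv {C : Type*} [Category* C] {G H : C ⥤ Type u} (α : G ≅ H) (Z : C) :
    G.obj Z ≃ H.obj Z where
  toFun x := α.hom.app Z x
  invFun x := α.inv.app Z x
  left_inv x := inv_hom_apply α Z x
  right_inv x := hom_inv_apply α Z x

/-- the bijection of fibres of an isomorphism of covers -/
noncomputable def mapEquiv {X : Scheme.{u}} {Ω : Type u} [Field Ω] (ξ : Spec (CommRingCat.of Ω) ⟶ X)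
    {Z Z' : FEt.Cat X} (e : Z ≅ Z') : FEt.fiberObj ξ Z ≃ FEt.fiberObj ξ Z' where
  toFun x := (FEt.fiber ξ).map e.hom x
  invFun x := (FEt.fiber ξ).map e.inv x
  left_inv x := map_hom_inv_apply e x
  right_inv x := map_inv_hom_apply e x

/-- The cover attached to an action on a finite group by left multiplication. -/
theorem exists_reg {X : Scheme.{u}} [ConnectedSpace X] {Ω : Type u} [Field Ω] [IsAlgClosed Ω]
    (ξ : Spec (CommRingCat.of Ω) ⟶ X) {Q : Type u} [Group Q] [Finite Q] [TopologicalSpace Q]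
    [DiscreteTopology Q] (ψ : FEt.piOne X ξ →* Q) (hψ : Continuous ψ) :
    ∃ (A : FEt.Cat X) (β : FEt.fiberObj ξ A ≃ Q), ∀ (g : FEt.piOne X ξ) x,
      β (g.hom.app A x) = ψ g * β x := by
  let _ : MulAction (FEt.piOne X ξ) Q := MulAction.compHom Q ψ
  obtain ⟨A, φ, hφ⟩ := exists_cover ξ Q (fun t => by
    have h1 : (MulAction.stabilizer (FEt.piOne X ξ) t : Set (FEt.piOne X ξ)) = ψ ⁻¹' {a | a * t = t} := rfl
    rw [h1]
    exact (isOpen_discrete _).preimage hψ)
  refine ⟨A, φ.symm, fun g x => ?_⟩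
  rw [Equiv.symm_apply_eq]
  have h2 := hφ g (φ.symm x)
  rw [Equiv.apply_symm_apply] at h2
  exact h2.symm

/-- A cover of a pinched scheme with prescribed monodromy. -/
theorem exists_mono {Q : Type u} [Group Q] [Finite Q] [TopologicalSpace Q] [DiscreteTopology Q]
    (ψ : ∀ i, FEt.piOne (Y i) (ξ' i) →* Q) (hψ : ∀ i, Continuous (ψ i)) (q : E → Q)
    (hq : ∀ e, q (D.inv e) = (q e)⁻¹) :
    ∃ (U : FEt.Cat X) (lam : V → (FEt.fiberObj ξ U ≃ Q)),
      (∀ i g (x : FEt.fiberObj ξ U), lam i ((conj (f i) (τ i) g).hom.app U x) = ψ i g * lam i x) ∧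
      ∀ e (x : FEt.fiberObj ξ U), lam (P.v (D.inv e)) ((loop P σ τ e).hom.app U x) =
        q e * lam (P.v e) x := by
  have h0 := fun i => exists_reg (ξ' i) (ψ i) (hψ i)
  choose A β hβ using h0
  let κ : ∀ e, FEt.fiberObj (P.c e) (A (P.v e)) ≃ Q := fun e =>
    (appEquiv (σ e) (A (P.v e))).symm.trans (β (P.v e))
  obtain ⟨U, θ, hpb, hθ⟩ := exists_cover_glue P A κ (fun e x => q e * x) (fun e x => by
    rw [hq, inv_mul_cancel_left])
  let n : ∀ i, A i ≅ (FEt.restrict (f i)).obj U := fun i =>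
    MorphismProperty.Over.isoMk (hpb i).isoPullback (hpb i).isoPullback_hom_snd
  have hn : ∀ i, (n i).hom.left ≫ pullback.fst U.hom (f i) = θ i := fun i => (hpb i).isoPullback_hom_fst
  let lam : V → (FEt.fiberObj ξ U ≃ Q) := fun i =>
    ((appEquiv (τ i) U).trans (mapEquiv (ξ' i) (n i)).symm).trans (β i)
  refine ⟨U, lam, ?_, ?_⟩
  · intro i g x
    change β i ((FEt.fiber (ξ' i)).map (n i).inv ((τ i).hom.app U ((τ i).inv.app U
      (g.hom.app _ ((τ i).hom.app U x))))) = ψ i g * β i ((FEt.fiber (ξ' i)).map (n i).inv ((τ i).hom.app U x))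
    rw [hom_inv_apply, ← hβ]
    congr 1
    exact (naturality g.hom (n i).inv _).symm
  · intro e x
    -- the value on the pinched point
    have key : ∀ e (x : FEt.fiberObj ξ U),
        (show FEt.fiberObj (P.c e ≫ f (P.v e)) U from (edge P σ τ e).hom.app U x).1 =
          ((κ e).symm (lam (P.v e) x)).1 ≫ θ (P.v e) := by
      intro e x
      rw [edge_apply]
      let a : FEt.fiberObj (ξ' (P.v e)) (A (P.v e)) :=
        (FEt.fiber (ξ' (P.v e))).map (n (P.v e)).inv ((τ (P.v e)).hom.app U x)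
      have h1 : (τ (P.v e)).hom.app U x = (FEt.fiber (ξ' (P.v e))).map (n (P.v e)).hom a :=
        (map_inv_hom_apply (n (P.v e)) _).symm
      have h2 : (κ e).symm (lam (P.v e) x) = (σ e).hom.app (A (P.v e)) a := by
        change (σ e).hom.app (A (P.v e)) ((β (P.v e)).symm (β (P.v e) a)) = _
        rw [Equiv.symm_apply_apply]
      rw [h1, h2]
      have h3 : (σ e).hom.app ((FEt.restrict (f (P.v e))).obj U)
          ((FEt.fiber (ξ' (P.v e))).map (n (P.v e)).hom a) =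
            (FEt.fiber (P.c e)).map (n (P.v e)).hom ((σ e).hom.app (A (P.v e)) a) :=
        naturality (σ e).hom (n (P.v e)).hom a
      rw [h3]
      change ((show FEt.fiberObj (P.c e) (A (P.v e)) from (σ e).hom.app (A (P.v e)) a).1 ≫
        (n (P.v e)).hom.left) ≫ pullback.fst U.hom (f (P.v e)) = _
      rw [Category.assoc, hn]
    have h1 := edge_loop P σ τ e U x
    rw [key, key] at h1
    have h1 := h1.trans (hθ e (lam (P.v e) x)).symm
    have h2 : (κ (D.inv e)).symm (lam (P.v (D.inv e)) ((loop P σ τ e).hom.app U x)) =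
        (κ (D.inv e)).symm (q e * lam (P.v e) x) := by
      apply Subtype.ext
      apply (hpb (P.v (D.inv e))).hom_ext h1
      exact ((κ (D.inv e)).symm _).2.trans ((κ (D.inv e)).symm _).2.symm
    exact (κ (D.inv e)).symm.injective h2

end K868.VKGlue
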