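import Groth.Agent.Pi1.K868.Pinch
import Groth.Agent.Pi1.K868.Tree
import Groth.Agent.Pi1.H538.Base
import Groth.Agent.Pi1.H538.Sets
import Groth.Agent.Ega2.SigmaMap

/-! # Paths through pinched points, and topological generation of the fundamental group -/

set_option autoImplicit false

universe u v

set_option linter.unusedSectionVars false

open CategoryTheory CategoryTheory.Limits AlgebraicGeometry

namespace K868.VKPath

open K868.GeomLem K868.PtLem K868.EffRel K868.Pinch
open Groth.Agent.Pi1.H418.TopGen (mul_apply one_apply inv_apply path_mem_iff exists_clopen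
  topGenerates_of_transitive naturality)
open Groth.Agent.Pi1.H418.Push Groth.Agent.Pi1.H538.Act Groth.Agent.Pi1.H538.Base
open Groth.Agent.Pi1.H538.Sets (app_inv_app inv_app_app)

variable {F : Type u} [Field F] {X : Scheme.{u}} {V : Type u}
  {Y : V → Scheme.{u}} {f : ∀ i, Y i ⟶ X} {E : Type v}

lemma isClosedImmersion_sigmaι (Y : V → Scheme.{u}) (j : V) : IsClosedImmersion (Sigma.ι Y j) := by
  classical
  have hopen : IsOpenImmersion (Sigma.ι Y j) := inferInstanceAs (IsOpenImmersion ((sigmaOpenCover Y).f j))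
  refine (IsZariskiLocalAtTarget.iff_of_openCover (P := @IsClosedImmersion)
    (sigmaOpenCover Y)).mpr fun k ↦ ?_
  change IsClosedImmersion (pullback.snd (Sigma.ι Y j) (Sigma.ι Y k))
  by_cases hjk : j = k
  · subst hjk
    infer_instance
  · have := isEmpty_pullback_sigmaι_of_ne Y hjk
    infer_instance

/-- A field valued point of a coproduct lies on one summand. -/
lemma exists_factor_sigma {K : Type u} [Field K] (Y : V → Scheme.{u})
    (s : Spec (CommRingCat.of K) ⟶ ∐ Y) :
    ∃ (i : V) (s' : Spec (CommRingCat.of K) ⟶ Y i), s' ≫ Sigma.ι Y i = s := by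
  obtain ⟨i, y, hy⟩ := (sigmaOpenCover Y).exists_eq (pt s)
  change Y i at y
  change Sigma.ι Y i y = _ at hy
  have hr : Set.range s ⊆ Set.range (Sigma.ι Y i) := by
    rintro _ ⟨x, rfl⟩
    obtain rfl : x = IsLocalRing.closedPoint K := Subsingleton.elim (α := PrimeSpectrum K) _ _
    exact ⟨y, hy⟩
  have : IsOpenImmersion (Sigma.ι Y i) := inferInstanceAs (IsOpenImmersion ((sigmaOpenCover Y).f i))
  exact ⟨i, IsOpenImmersion.lift (Sigma.ι Y i) s hr, IsOpenImmersion.lift_fac _ _ _⟩

lemma eq_of_sigma {K : Type u} [Field K] {i i' : V} {s : Spec (CommRingCat.of K) ⟶ Y i}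
    {s' : Spec (CommRingCat.of K) ⟶ Y i'} (h : s ≫ Sigma.ι Y i = s' ≫ Sigma.ι Y i') : i = i' := by
  have h1 : Sigma.ι Y i (pt s) = Sigma.ι Y i' (pt s') := by
    rw [← pt_comp, h, pt_comp]
  exact congrArg Sigma.fst ((sigmaι_eq_iff Y i i' _ _).mp h1)

lemma eq_of_sigma' {K : Type u} [Field K] {i : V} {s s' : Spec (CommRingCat.of K) ⟶ Y i}
    (h : s ≫ Sigma.ι Y i = s' ≫ Sigma.ι Y i) : s = s' := by
  have : IsOpenImmersion (Sigma.ι Y i) := inferInstanceAs (IsOpenImmersion ((sigmaOpenCover Y).f i))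
  exact (cancel_mono _).mp h

/-- The rational points on the summands. -/
structure Lift (D : Data F (Sigma.desc f) E) where
  v : E → V
  c : ∀ e, Spec (CommRingCat.of F) ⟶ Y (v e)
  hc : ∀ e, c e ≫ Sigma.ι Y (v e) = D.c e

lemma exists_lift (D : Data F (Sigma.desc f) E) : Nonempty (Lift D) := by
  have h := fun e => exists_factor_sigma Y (D.c e)
  choose v c hc using h
  exact ⟨⟨v, c, hc⟩⟩

variable {D : Data F (Sigma.desc f) E} (P : Lift D)

lemma Lift.comp_f (e : E) : P.c e ≫ f (P.v e) = D.c e ≫ Sigma.desc f := by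
  rw [← P.hc, Category.assoc, Sigma.ι_desc]

lemma Lift.comp_eq (e : E) : P.c e ≫ f (P.v e) = P.c (D.inv e) ≫ f (P.v (D.inv e)) := by
  rw [P.comp_f, P.comp_f, D.comp]

/-- Clopen subsets of the base changes of a connected finite `Z` over `X` which are compatible on the
pinched points are empty or everything. -/
theorem clopen_eq_univ [IsAlgClosed F] [Finite V] [IsProper (Sigma.desc f)] [Surjective (Sigma.desc f)]
    {Z : Scheme.{u}} (z : Z ⟶ X) [IsFinite z] [ConnectedSpace Z]
    (W : ∀ i, Set ↥(pullback z (f i))) (hW : ∀ i, IsClopen (W i))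
    (hcompat : ∀ (e : E) (s : Spec (CommRingCat.of F) ⟶ pullback z (f (P.v e)))
      (s' : Spec (CommRingCat.of F) ⟶ pullback z (f (P.v (D.inv e)))),
      s ≫ pullback.snd _ _ = P.c e → s' ≫ pullback.snd _ _ = P.c (D.inv e) →
      s ≫ pullback.fst _ _ = s' ≫ pullback.fst _ _ → pt s ∈ W (P.v e) → pt s' ∈ W (P.v (D.inv e)))
    (hne : ∃ i, (W i).Nonempty) : ∀ i, W i = Set.univ := by
  have hprop : ∀ i, IsProper (f i) := by
    intro i
    have h1 : Sigma.ι Y i ≫ Sigma.desc f = f i := Sigma.ι_desc _ _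
    have h2 : IsClosedImmersion (Sigma.ι Y i) := isClosedImmersion_sigmaι Y i
    rw [← h1]
    infer_instance
  let S : Set Z := ⋃ i, (pullback.fst z (f i)) '' (W i)
  let S' : Set Z := ⋃ i, (pullback.fst z (f i)) '' (W i)ᶜ
  have hS : IsClosed S := isClosed_iUnion_of_finite fun i =>
    (pullback.fst z (f i)).isClosedMap _ (hW i).1
  have hS' : IsClosed S' := isClosed_iUnion_of_finite fun i =>
    (pullback.fst z (f i)).isClosedMap _ (hW i).2.isClosed_compl
  have hU : ∀ x : Z, x ∈ S ∨ x ∈ S' := by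
    intro x
    obtain ⟨y, hy⟩ := (Sigma.desc f).surjective (z x)
    obtain ⟨i, y', hy'⟩ := (sigmaOpenCover Y).exists_eq y
    change Y i at y'
    change Sigma.ι Y i y' = _ at hy'
    have h1 : f i y' = z x := by
      rw [← hy, ← hy', ← Scheme.Hom.comp_apply, Sigma.ι_desc]
    obtain ⟨w, hw, -⟩ := Scheme.Pullback.exists_preimage_pullback x y' h1.symm
    by_cases hwW : w ∈ W i
    · exact Or.inl (Set.mem_iUnion.mpr ⟨i, w, hwW, hw⟩)
    · exact Or.inr (Set.mem_iUnion.mpr ⟨i, w, hwW, hw⟩)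
  have hdisj : ∀ x : Z, x ∈ S → x ∈ S' → False := by
    intro x hx hx'
    obtain ⟨i, w, hw, hwx⟩ := Set.mem_iUnion.mp hx
    obtain ⟨i', w', hw', hwx'⟩ := Set.mem_iUnion.mp hx'
    obtain ⟨t, ht, ht'⟩ := Scheme.Pullback.exists_preimage_pullback (f := pullback.fst z (f i))
      (g := pullback.fst z (f i')) w w' (hwx.trans hwx'.symm)
    obtain ⟨q, hq⟩ : ∃ q : Spec (CommRingCat.of (AlgebraicClosure
        ((pullback (pullback.fst z (f i)) (pullback.fst z (f i'))).residueField t))) ⟶ _, pt q = t :=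
      ⟨gpt t, gpt_apply _ _⟩
    obtain ⟨y, hy0⟩ : ∃ y, y = q ≫ pullback.fst (pullback.fst z (f i)) (pullback.fst z (f i')) := ⟨_, rfl⟩
    obtain ⟨y', hy0'⟩ : ∃ y, y = q ≫ pullback.snd (pullback.fst z (f i)) (pullback.fst z (f i')) := ⟨_, rfl⟩
    have hy : pt y = w := by
      rw [hy0, pt_comp, hq, ht]
    have hy' : pt y' = w' := by
      rw [hy0', pt_comp, hq, ht']
    have hyy : y ≫ pullback.fst z (f i) = y' ≫ pullback.fst z (f i') := by
      rw [hy0, hy0', Category.assoc, pullback.condition, Category.assoc]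
    have h1 : (y ≫ pullback.snd z (f i) ≫ Sigma.ι Y i) ≫ Sigma.desc f =
        (y' ≫ pullback.snd z (f i') ≫ Sigma.ι Y i') ≫ Sigma.desc f := by
      simp only [Category.assoc, Sigma.ι_desc]
      rw [← pullback.condition, ← Category.assoc, hyy, Category.assoc, pullback.condition]
    obtain h2 | ⟨e, k, h2, h3⟩ := D.prop _ _ _ h1
    · rw [← Category.assoc, ← Category.assoc] at h2
      obtain rfl := eq_of_sigma h2
      have h4 := eq_of_sigma' h2
      have h5 : y = y' := pullback.hom_ext hyy h4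
      rw [← hy, h5, hy'] at hw
      exact hw' hw
    · rw [← P.hc, ← Category.assoc, ← Category.assoc] at h2 h3
      obtain rfl := eq_of_sigma h2
      obtain rfl := eq_of_sigma h3
      have h4 := eq_of_sigma' h2
      have h5 := eq_of_sigma' h3
      obtain ⟨s, hs, hs2⟩ := exists_descent (pullback.snd z (f (P.v e))) _ _ _ h4
      obtain ⟨s', hs', hs2'⟩ := exists_descent (pullback.snd z (f (P.v (D.inv e)))) _ _ _ h5
      have h6 : s ≫ pullback.fst _ _ = s' ≫ pullback.fst _ _ := by
        have := epi_Spec k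
        rw [← cancel_epi k, ← Category.assoc, hs2, hyy, ← hs2', Category.assoc]
      have h7 := hcompat e s s' hs hs' h6
      rw [← pt_precomp k s, ← pt_precomp k s', hs2, hs2', hy, hy'] at h7
      exact hw' (h7 hw)
  have hSc : S = S'ᶜ := by
    ext x
    constructor
    · exact fun h h' => hdisj x h h'
    · exact fun h => (hU x).resolve_right h
  have hclopen : IsClopen S := ⟨hS, by rw [hSc]; exact hS'.isOpen_compl⟩
  have huniv : S = Set.univ := by
    refine hclopen.eq_univ ?_
    obtain ⟨i, w, hw⟩ := hne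
    exact ⟨_, Set.mem_iUnion.mpr ⟨i, w, hw, rfl⟩⟩
  intro i
  rw [Set.eq_univ_iff_forall]
  intro w
  by_contra hw
  refine hdisj (pullback.fst z (f i) w) (huniv ▸ Set.mem_univ _) ?_
  exact Set.mem_iUnion.mpr ⟨i, w, hw, rfl⟩

end K868.VKPath
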